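import Cfsg.Agent.ZD.ZC

/-! Theorem ZD, part I: the configuration (*) gives double transitivity and commuting good
involutions. -/

set_option autoImplicit false
set_option linter.unusedSectionVars false

namespace Cfsg.Agent.ZD

open Subgroup FT MulAction BS
open scoped commutatorElement

universe u v

variable {G : Type u} [Group G] [Finite G] {Ω : Type v} [MulAction G Ω] {p : ℕ}
variable {N Y T : Subgroup G} {a b c : Ω} {z z' t u g x : G}

theorem RI.mem_of_sq (ho : Odd (orderOf x)) (h : x * x ∈ Y) : x ∈ Y := by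
  obtain ⟨n, hn⟩ := ho
  have : x = ((x * x) ^ n)⁻¹ := by
    rw [eq_inv_iff_mul_eq_one, ← pow_two, ← pow_mul, ← pow_succ', ← hn, pow_orderOf_eq_one]
  rw [this]; exact inv_mem (pow_mem h n)
theorem RI.relIndex_dvd {C A M : Subgroup G} (hC : C ≤ M) (hA : A ⊴ M) :
    C.relIndex A ∣ C.relIndex M := by
  have h1 := card_sup_mul_card_inf (hC.trans hA.norm)
  rw [← H2.card_mul_relIndex (le_sup_left : C ≤ C ⊔ A), ← card_inf_mul_relIndex C A, mul_assoc,
    mul_comm _ ♯(C ⊓ A : Subgroup G)] at h1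
  rw [← Nat.eq_of_mul_eq_mul_left (card_pos' _) (Nat.eq_of_mul_eq_mul_left (card_pos' _) h1)]
  exact relIndex_dvd_of_le_left' le_sup_left (sup_le hC hA.le)
variable [hZ : ZG G]

/-- the subgroup generated by the good involutions fixing `a` -/
def JZ (G : Type u) [Group G] [ZG G] [MulAction G Ω] (a : Ω) : Subgroup G := closure {z : G | Zi a z}
theorem Zi.mem_JZ (h : Zi a z) : z ∈ JZ G a := subset_closure h
theorem JZ_le (h : ∀ z, Zi a z → z ∈ N) : JZ G a ≤ N := (closure_le _).2 h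
theorem JZ_nrm (a : Ω) : JZ G a ⊴ St G a := ⟨JZ_le fun _ hz => hz.fix, fun g hg =>
  mem_normalizer_of_cj_le (by
    rw [H1.cj_def, JZ, MonoidHom.map_closure, closure_le]
    rintro _ ⟨y, hy, rfl⟩
    exact subset_closure (Zi.conj_of_fix hy hg))⟩

/-- step A: involutions with the same fixed point commute modulo `O(M)` -/
def StA (G : Type u) (Ω : Type v) [Group G] [ZG G] [MulAction G Ω] : Prop :=
  ∀ (a : Ω) (z z' : G), Zi a z → Zi a z' → z * z' * (z * z') ∈ core {2}ᶜ (St G a)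

variable [hG : ZF G Ω]

theorem Hyp.mem_of_zi (h : Hyp G Ω) (hb : b ≠ a) (h1 : So G a b ≤ N) (hz : Zi a z) (hN : z ∈ N)
    (hz' : Zi a z') : z' ∈ N := by
  obtain ⟨k, hk, rfl⟩ := h.exists_conj_So hz hz' hb
  exact mul_mem (mul_mem (h1 hk) hN) (inv_mem (h1 hk))
theorem Conf.stA (hc : Conf G Ω) (h : Hyp G Ω) : StA G Ω := by
  obtain ⟨a, b, N, z, hb, hN, h1, hzN, hz, h2⟩ := hc
  have h3 : ∀ y, Zi a y → y ∈ N := fun y => h.mem_of_zi hb h1 hz hzN
  obtain ⟨u, -, hu, h4, h5⟩ := h.rk2.exists_zi hz (mem_top z)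
  have hB := h.bt hN ⟨u, h3 u hu, z, hzN, hu.gd, hz.gd, h4, h5⟩ hz hzN h2
  have hn := (JZ_le h3).trans (ko_nrm N a).norm
  have h6 : ⁅JZ G a, JZ G a⁆ ≤ ko N a := by
    rw [← bar_le_cent_iff hn hn, bar_le_iff hn]
    refine JZ_le fun y hy => mem_unbar.2 ⟨hn hy.mem_JZ, le_cent1_iff.1 ?_⟩
    rw [bar_le_iff hn]
    refine JZ_le fun y' hy' => mem_unbar.2 ⟨hn hy'.mem_JZ, mem_cent1_iff.2 ?_⟩
    rw [← commutatorElement_eq_one_iff_mul_comm, ← coset_commutator (hn hy'.mem_JZ) (hn hy.mem_JZ),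
      commutatorElement_def, inv2 hy.ord, inv2 hy'.ord, mul_assoc]
    exact coset_eq_one (hB.sq_mem hy' (h3 _ hy') hy (h3 _ hy))
  have h7 := le_core ((JZ_nrm a).commutator (JZ_nrm a)) (odd_iff_piG.1 (odd_of_le h6 (odd_ko N a)))
  intro c y y' hy hy'
  obtain ⟨g, -, rfl⟩ := h.orb c a
  have := h7 (commutator_mem_commutator (hy.conj g).mem_JZ (hy'.conj g).mem_JZ)
  rw [St, ← cj_stab, ← cj_core, mem_cj, commutatorElement_def, inv2 (hy.conj g).ord,
    inv2 (hy'.conj g).ord] at this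
  simpa [mul_assoc] using this
theorem StA.mem (h : StA G Ω) (hz : Zi a z) (hx : x • a = a) (ho : Odd (orderOf x))
    (hi : z * x * z⁻¹ = x⁻¹) : x ∈ core {2}ᶜ (St G a) := by
  have := h a (x * z) z ⟨hz.gd.mul_of_inv ho hi, by rw [mul_smul, hz.fix, hx]⟩ hz
  rw [mul_assoc x z, sq1 hz.ord, mul_one] at this
  exact RI.mem_of_sq ho this
/-- (KI) -/
theorem StA.dvd [Fact p.Prime] (h : StA G Ω) (hz : Zi a z) (hT : IsPGroup p T) (ho : Odd ♯T)
    (h1 : T ≤ St G a) (hn : z ∈ 𝐍(T)) :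
    (𝐂[z]).relIndex T ∣ (𝐂[z]).relIndex (core {2}ᶜ (St G a)) := by
  have h2 : z ∈ 𝐍(core {2}ᶜ (St G a)) := (core_nrm _ _).norm hz.fix
  have h3 : z ∈ 𝐍(T ⊓ core {2}ᶜ (St G a)) := H1.normalizer_inf_le _ _ ⟨hn, h2⟩
  have h4 : (𝐂[z]).relIndex T = (𝐂[z]).relIndex (T ⊓ core {2}ᶜ (St G a)) := by
    rw [← ncard_inverted ho hz.ord hn, ← ncard_inverted (odd_of_le inf_le_left ho) hz.ord h3]
    congr 1
    ext y
    exact ⟨fun e => ⟨⟨e.1, h.mem hz (h1 e.1) (ho.of_dvd_nat (orderOf_dvd_card' e.1)) e.2⟩, e.2⟩,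
      fun e => ⟨e.1.1, e.2⟩⟩
  rw [h4]
  exact relIndex_cent1_dvd (odd_core _) hz.ord h2 (isPGroup_of_le inf_le_left hT) inf_le_right h3
theorem StA.two (hA : StA G Ω) (h : Hyp G Ω) : Two G Ω := by
  obtain ⟨u, -, -, -, hu, -⟩ := h.rk2
  obtain ⟨a, ha⟩ := exists_fix Ω hu
  have hz : Zi a u := ⟨hu, ha⟩
  have h1 : ¬ mI (⊤ : Subgroup G) a ∣ (𝐂[u]).relIndex (core {2}ᶜ (St G a)) := fun hd => by
    have h2 := Nat.le_of_dvd (relIndex_pos _ _) hd
    rw [← relIndex_cent1_St hz (mem_top u) (h.not_le a), top_inf_eq] at h2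
    refine h.rk2.not_coset hz (mem_top u) (odd_core (St G a)) fun v _ hv => ?_
    obtain ⟨g, e1, rfl⟩ := h.exists_conj_zi hz hv
    obtain ⟨t, ht, c, hc, rfl⟩ := le_sup_of_relIndex_le (core_le _ _) h2 e1
    have := mul_mem ht ((core_nrm _ _).conj_mem ha (inv_mem ht))
    rwa [hu.inv, show t * (u * t⁻¹ * u) = t * c * (c⁻¹ * u * c) * (t * c)⁻¹ * u by group,
      mul_assoc c⁻¹, ← mem_cent1_iff.1 hc, inv_mul_cancel_left] at this
  rw [Nat.dvd_iff_prime_pow_dvd_dvd] at h1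
  push Not at h1
  obtain ⟨p, k, hp, h2, h3⟩ := h1
  haveI := Fact.mk hp
  have hp2 : p ≠ 2 := h.ne_two ((dvd_pow_self p fun e => h3 (by rw [e]; exact one_dvd _)).trans h2)
  refine (stepC h hp fun b c z T hz' hc hT h4 hn h5 => h3 ?_).two hp2
  obtain ⟨g, rfl, rfl⟩ := h.exists_conj_zi hz hz'
  have h6 := hA.dvd hz' hT (odd_of_isPGroup hp2 hT) (h4.trans (inf_le_left.trans inf_le_left)) hn
  rw [St, ← cj_stab, ← cj_core, ← cj_cent1, relIndex_cj, cj_cent1] at h6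
  refine (pow_dvd_pow p ?_).trans (h5.trans h6)
  rw [← h.mI_eq a]
  exact (hp.pow_dvd_iff_le_factorization (mI_pos hz (mem_top u)).ne').1 h2
theorem two_exists_cent (h2 : Two G Ω) (h : Hyp G Ω) (hz : Zi a z) (hb : b ≠ a) (hc : c ≠ a) :
    ∃ g ∈ 𝐂[z], g • b = c := by
  obtain ⟨g, e1, rfl⟩ := h2 a b c hb hc
  obtain ⟨k, hk, e⟩ := exists_conj_St2 hz (mem_top _) (hz.conj_of_fix (g := g⁻¹)
    (by rw [inv_smul_eq_iff, e1])) (mem_top _) hb (h.orb a b)
  refine ⟨g * k, mem_cent1_iff.2 ?_, by rw [mul_smul, mem_stabilizer_iff.1 hk.2.2]⟩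
  rw [mul_assoc, mul_inv_eq_iff_eq_mul.1 e]; group
theorem two_eq_bot (h2 : Two G Ω) (h : Hyp G Ω) (hY : Y ⊴ St G a) (hb : b ≠ a) (h1 : Y ≤ St G b) :
    Y = ⊥ :=
  eq_bot_iff.2 fun y hy => h.faithful fun c => by
    by_cases hc : c = a
    · rw [hc]; exact hY.le hy
    · obtain ⟨g, e1, rfl⟩ := h2 a b c hb hc
      exact le_stab_smul h1 (hY.norm e1) hy
theorem StA.cent (hA : StA G Ω) (h : Hyp G Ω) (hz : Zi a z) : z ∈ 𝐂(core {2}ᶜ (St G a)) := by
  have h2 := hA.two h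
  have h1 : ∀ (r : ℕ) [Fact r.Prime], z ∈ 𝐂(core {r} (core {2}ᶜ (St G a))) := fun r hr => by
    by_cases hr2 : r = 2
    · subst hr2
      rw [(core_piG {2} _).eq_bot ((core_piG {2}ᶜ (St G a)).of_le (core_le _ _)), cent_bot]
      exact mem_top z
    by_cases h3 : P3 G Ω r
    · obtain ⟨b, hb⟩ := h.two a
      rw [two_eq_bot h2 h ((core_nrm _ _).core {r}) hb ((stepC h hr.out h3).le_St hr2
        (core_isPGroup _) ((core_nrm _ _).core {r}) b), cent_bot]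
      exact mem_top z
    unfold P3 at h3
    push Not at h3
    obtain ⟨a', b, z', T, hz', hb, hT, h3, hn, h4⟩ := h3
    obtain ⟨g, rfl, rfl⟩ := h.exists_conj_zi hz' hz
    rw [St, ← cj_stab, ← cj_core, ← cj_core, ← cj_centralizer, conj_mem_cj_iff]
    set R := core {r} (core {2}ᶜ (stabilizer G a'))
    have hR : R ⊴ St G a' := (core_nrm _ _).core {r}
    have hRo : Odd ♯R := odd_of_le (core_le _ _) (odd_core _)
    have hTa : T ≤ St G a' := h3.trans (inf_le_left.trans inf_le_left)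
    have hTo := odd_of_isPGroup hr2 hT
    have hP : IsPGroup r ↥(T ⊔ R) := isPGroup_sup hT (core_isPGroup _) (hTa.trans hR.norm)
    have hPo : Odd ♯(T ⊔ R : Subgroup G) :=
      odd_iff_piG.2 ((odd_iff_piG.1 hTo).sup' (odd_iff_piG.1 hRo) (hTa.trans hR.norm))
    have hPn : z' ∈ 𝐍(T ⊔ R) := H1.normalizer_inf_le_sup _ _ ⟨hn, hR.norm hz'.fix⟩
    have h5 := (hA.dvd hz' hP hPo (sup_le hTa hR.le) hPn).trans
      (RI.relIndex_dvd hz'.cent_le (core_nrm _ _))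
    rw [← top_inf_eq (St G a'), relIndex_cent1_St hz' (mem_top _) (h.not_le a')] at h5
    obtain ⟨k, hk⟩ := (Nat.dvd_prime_pow hr.out).1 ((relIndex_dvd_card' 𝐂[z'] (T ⊔ R)).trans
      (IsPGroup.iff_card.1 hP).choose_spec.dvd)
    have h6 : (𝐂[z']).relIndex (T ⊔ R) ≤ (𝐂[z']).relIndex T := by
      refine Nat.le_of_dvd (relIndex_pos _ _) (Dvd.dvd.trans ?_ h4)
      rw [hk.2] at h5 ⊢
      exact pow_dvd_pow r ((hr.out.pow_dvd_iff_le_factorization (mI_pos hz' (mem_top _)).ne').1 h5)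
    rw [← ncard_inverted hPo hz'.ord hPn, ← ncard_inverted hTo hz'.ord hn] at h6
    have h7 := Set.eq_of_subset_of_ncard_le (fun y hy => And.intro (mem_sup_left hy.1) hy.2) h6
    have h8 : ∀ y ∈ R, z' * y * z'⁻¹ = y⁻¹ → y = 1 := fun y hy e => h.faithful fun c => by
      by_cases hc : c = a'
      · rw [hc]; exact hR.le hy
      obtain ⟨k, hk, rfl⟩ := two_exists_cent h2 h hz' hb hc
      have h9 : k⁻¹ * y * k ∈ T := (h7.symm.le (⟨mem_sup_right (hR.conj_mem' (hz'.cent_le hk) hy), by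
        rw [show z' * (k⁻¹ * y * k) * z'⁻¹ = k⁻¹ * (k * z' * k⁻¹) * y * (k * z' * k⁻¹)⁻¹ * k by group,
          mem_cent1_iff.1 hk, mul_inv_cancel_right, mul_assoc _ z', mul_assoc k⁻¹, e]
        group⟩ : k⁻¹ * y * k ∈ {y | y ∈ T ⊔ R ∧ z' * y * z'⁻¹ = y⁻¹})).1
      have := mem_stabilizer_iff.1 (h3 h9).1.2
      rwa [mul_smul, mul_smul, inv_smul_eq_iff] at this
    refine mem_cent_iff.2 fun y hy => ?_
    have := h8 (y * z' * y⁻¹ * z') (by
      have := mul_mem hy (hR.conj_mem hz'.fix (inv_mem hy))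
      rwa [inv2 hz'.ord, ← mul_assoc, ← mul_assoc] at this) (inv_conj_mul hz'.ord y)
    rwa [mul_eq_one_iff_eq_inv, inv2 hz'.ord, mul_inv_eq_iff_eq_mul] at this
  refine coprime_cent_Fitting (zpowers_le.2 ((core_nrm _ _).norm hz.fix))
    (coprime_two_of_odd hz.ord (odd_core _)) (odd_order_solvable (odd_core _))
    ⟨mem_zpowers z, le_cent1_iff.1 (fit_le_of_forall_pcore fun r _ => le_cent1_iff.2 (h1 r))⟩
theorem partI (h : Hyp G Ω) (hc : Conf G Ω) : Comm G Ω := by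
  have hA := hc.stA h
  intro a z z' hz hz'
  have h1 := hA a z z' hz hz'
  have h2 := eq_one_of_inv_of_cent ((odd_core _).of_dvd_nat (orderOf_dvd_card' h1)) (z := z)
    (by rw [mul_inv_rev, mul_inv_rev, inv2 hz.ord, inv2 hz'.ord]
        simp only [← mul_assoc, sq1 hz.ord, one_mul])
    (mem_cent_iff.1 (hA.cent h hz) _ h1)
  rwa [mul_eq_one_iff_eq_inv, mul_inv_rev, inv2 hz.ord, inv2 hz'.ord] at h2
theorem I1_of_comm (hc : Comm G Ω) : I1 G Ω := fun a b z hz hb x hx => by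
  have h1 := hz.conj_of_fix hx.1.1
  by_contra h2
  have h3 : x * z * x⁻¹ ≠ z := fun e => h2 (mem_cent1_iff.2 (mul_inv_eq_iff_eq_mul.1 e))
  refine hb ((hz.mul h1 h3.symm (hc a _ _ hz h1)).eq ⟨(hz.mul h1 h3.symm (hc a _ _ hz h1)).gd, ?_⟩).symm
  rw [mul_smul, mul_smul, mul_smul, (inv_mem hx).1.2, hx.2, smul_smul2 hz.ord]
theorem P3_of_I1 (h : I1 G Ω) (hy : Hyp G Ω) {p : ℕ} (hp : p.Prime) {a : Ω}
    (hd : p ∣ mI (⊤ : Subgroup G) a) : P3 G Ω p := fun b c z T hz hc _ h1 _ h2 => by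
  rw [relIndex_eq_one.2 (h1.trans (h b c z hz hc)), Nat.dvd_one, Nat.pow_eq_one] at h2
  rw [hy.mI_eq a b] at hd
  exact h2.elim hp.ne_one (hp.factorization_pos_of_dvd (mI_pos hz (mem_top z)).ne' hd).ne'
theorem Conf.two (hc : Conf G Ω) (h : Hyp G Ω) : Two G Ω := (hc.stA h).two h

end Cfsg.Agent.ZD
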