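import Cfsg.Agent.ZD.Z3
import Cfsg.Agent.ZD.ZI
import Cfsg.Agent.H3.StronglyEmb

/-! Theorem ZD implies the theorem on tightly embedded subgroups with odd normalizer meets. -/

set_option autoImplicit false
set_option linter.unusedSectionVars false

namespace Cfsg.Agent.ZD

open Subgroup FT MulAction BS

universe u

section gen
variable {G : Type u} [Group G] [Finite G] {S A V M O Q : Subgroup G} {g r x v t : G}

theorem F11.mem_of_fpf (h1 : S ≤ A) (h2 : ∀ x ∈ S, g * x * g⁻¹ ∈ S)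
    (h3 : ∀ x ∈ A, g * x * g⁻¹ = x → x = 1) (hr : r ∈ A) (h4 : r⁻¹ * (g * r * g⁻¹) ∈ S) :
    r ∈ S := by
  have key : ∀ x ∈ A, ∀ y ∈ A, x⁻¹ * (g * x * g⁻¹) = y⁻¹ * (g * y * g⁻¹) → x = y :=
    fun x hx y hy e => by
    refine mul_inv_eq_one.1 (h3 _ (mul_mem hx (inv_mem hy)) ?_)
    calc g * (x * y⁻¹) * g⁻¹ = x * (x⁻¹ * (g * x * g⁻¹)) * (g * y * g⁻¹)⁻¹ := by group
      _ = _ := by rw [e]; group
  let f : S → S := fun y => ⟨(y : G)⁻¹ * (g * y * g⁻¹), mul_mem (inv_mem y.2) (h2 _ y.2)⟩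
  obtain ⟨y, hy⟩ := Finite.injective_iff_surjective.1 (show Function.Injective f from
    fun x y e => Subtype.ext (key _ (h1 x.2) _ (h1 y.2) (congrArg Subtype.val e))) ⟨_, h4⟩
  exact key _ (h1 y.2) _ hr (congrArg Subtype.val hy) ▸ y.2
theorem F11.pow_mem_of_mul (hx : x ∈ 𝐍(V)) (hv : v ∈ V) {n : ℕ} (h : x ^ n ∈ V) :
    (x * v) ^ n ∈ V := by
  have h1 := mul_mem hx (le_normalizer hv)
  rwa [← coset_eq_one_iff (pow_mem h1 n), coset_pow h1, coset_mul hx (le_normalizer hv),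
    coset_eq_one hv, mul_one, ← coset_pow hx, coset_eq_one_iff (pow_mem hx n)]
theorem F11.exists_conj_mem (ho : Odd ♯O) (h1 : Q ≤ 𝐍(O)) (ht : orderOf t = 2) (h2 : t ∈ O ⊔ Q) :
    ∃ g : G, g * t * g⁻¹ ∈ Q := by
  obtain ⟨P, hP⟩ := exists_syl 2 Q
  obtain ⟨g, -, hg⟩ := (hP.trans le_sup_right (not_dvd_relIndex_of_factorization le_sup_right
    (factorization_card_sup_le (odd_iff_piG.1 ho) h1))).exists_cj_le (isPGroup_zpowers2 ht)
    (zpowers_le.2 h2)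
  exact ⟨g, hP.le (hg (conj_mem_cj (mem_zpowers t)))⟩
end gen

variable {G Ω : Type u} [Group G] [Finite G] [hZ : ZG G] [MulAction G Ω] [hG : ZF G Ω]
variable {a b : Ω} {t k z : G} {R V : Subgroup G}

/-- an element of odd order inverted by a swap is fixed point free on `R` modulo the core -/
theorem BQ.fpf (h : BQ ⊤ a R) (ho : ∀ c, Orb (⊤ : Subgroup G) a c) (hb : b ≠ a) (ht : Gd t)
    (h1 : t • a = b) (hk : k ∈ St2 G a b) (h2 : Odd (orderOf k)) (h3 : t * k * t⁻¹ = k⁻¹)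
    (h4 : k ∉ ko ⊤ a) {x : G} (hx : x ∈ R) (h5 : k * x * k⁻¹ * x⁻¹ ∈ ko ⊤ a) : x ∈ ko ⊤ a := by
  by_contra h6
  have hn : ∀ g : G, g ∈ 𝐍(ko ⊤ a) := fun g => (ko_nrm ⊤ a).norm (mem_top g)
  have h7 : k • x • b = x • b := by
    have := mem_stabilizer_iff.1 (ko_le_St (ho (x • b)) h5)
    rwa [mul_smul, inv_smul_smul, mul_smul, mul_smul, inv_smul_eq_iff.2 (Eq.symm hk.2)] at this
  obtain ⟨z, -, hz, h8⟩ := h.exists_zi (Y := zpowers k) (ho b) (ho (x • b)) hb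
    (fun e => hb (smul_left_cancel x (e.trans (Eq.symm (h.le_St hx)))))
    (fun e => h6 (h.free x hx b (ho b) hb e)) (zpowers_le.2 ⟨mem_top _, hk, h7⟩)
  have h9 := coset_eq_one (h8 k (mem_zpowers k))
  rw [coset_mul (hn _) (hn _), coset_conj (hn _) (hn _), mul_eq_one_iff_eq_inv, ← coset_inv (hn z),
    hz.gd.inv, mul_inv_eq_iff_eq_mul] at h9
  have h10 := congrArg (coset (ko ⊤ a)) h3
  rw [coset_conj (hn _) (hn _), coset_inv (hn _)] at h10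
  have h11 : coset (ko ⊤ a) z * coset (ko ⊤ a) t * coset (ko ⊤ a) k *
      (coset (ko ⊤ a) z * coset (ko ⊤ a) t)⁻¹ = (coset (ko ⊤ a) k)⁻¹ := by
    rw [show ∀ z t k : Quo (ko ⊤ a), z * t * k * (z * t)⁻¹ = z * (t * k * t⁻¹) * z⁻¹ by
      intros; group, h10, ← conj_inv, ← h9, mul_inv_cancel_right]
  have h12 := RI.mem_of_sq (Y := 𝐂[coset (ko ⊤ a) k])
    (x := coset (ko ⊤ a) z * coset (ko ⊤ a) t) (by
      rw [← coset_mul (hn _) (hn _)]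
      exact (odd_mul hz.gd ht hz.fix (h1 ▸ hb)).of_dvd_nat (orderOf_coset_dvd (hn _)))
    (mem_cent1_iff.2 (by
      rw [← mul_inv_eq_iff_eq_mul, show ∀ g k : Quo (ko ⊤ a), g * g * k * (g * g)⁻¹ =
        g * (g * k * g⁻¹) * g⁻¹ by intros; group, h11, ← conj_inv, h11, inv_inv]))
  exact h4 ((coset_eq_one_iff (hn _)).1 (eq_one_of_inv_of_cent
    (h2.of_dvd_nat (orderOf_coset_dvd (hn _))) h11 (mem_cent1_iff.1 h12).symm))
/-- an involution fixing two points centralizes or inverts such an element -/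
theorem exists_inv_not_mem (hr : Rk2 (⊤ : Subgroup G)) (hz : Zi a z)
    (ho : Orb (⊤ : Subgroup G) a b) (hb : b ≠ a) (ht : orderOf t = 2) (h1 : t ∈ St2 G a b) :
    ∃ s k : G, Gd s ∧ s • a = b ∧ k ∈ St2 G a b ∧ Odd (orderOf k) ∧ s * k * s⁻¹ = k⁻¹ ∧
      k ∉ ko ⊤ a ∧ (t * k * t⁻¹ = k ∨ t * k * t⁻¹ = k⁻¹) := by
  have hn : ∀ g : G, g ∈ 𝐍(ko ⊤ a) := fun g => (ko_nrm ⊤ a).norm (mem_top g)
  obtain ⟨s, -, h2, h3⟩ := exists_swap_orb hz (mem_top z) hb ho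
  obtain ⟨y, hy, h4⟩ := (oc_St2 h2 h3 hb).exists_cent_two (isPGroup_zpowers2 ht) (zpowers_le.2 h1)
  replace h3 : (y * s * y⁻¹) • a = b := by
    rw [mul_smul, mul_smul, inv_smul_eq_iff.2 (Eq.symm hy.1), h3]; exact hy.2
  replace h2 := h2.conj y
  replace h4 := mem_cent1_iff.1 (h4 (mem_zpowers t))
  generalize y * s * y⁻¹ = s at h2 h3 h4
  have hD := oc_St2 h2 h3 hb
  have h5 : ¬ ⁅St2 G a b, zpowers s⁆ ≤ ko ⊤ a := fun e =>
    hr.not_coset hz (mem_top z) (odd_ko ⊤ a) fun u _ hu => by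
      obtain ⟨k, b1, b2, b3, rfl, b4, -⟩ := exists_inverted_conj hz.gd hu.gd h2 hz.fix hu.fix
        (h3 ▸ hb)
      have b5 := e (mem_commutator_of_inv ⟨b1, h3 ▸ b2⟩ (mem_zpowers s) b4 b3)
      have := mul_mem b5 (conj_mem_of_mem_normalizer (hn z) (inv_mem b5))
      rwa [hz.gd.inv, ← mul_assoc, ← mul_assoc] at this
  obtain ⟨U, hU, hU1, hU2, hU3⟩ := four_group ht h2.ord
    (fun e => hb (h3.symm.trans (e ▸ h1.1))) h4
  have hUN : U ≤ 𝐍(⁅St2 G a b, zpowers s⁆) := fun x hx => by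
    rcases (hU3 x).1 hx with rfl | rfl | rfl | rfl
    exacts [one_mem _, hD.nrm.norm h1, mem_norm_commutator_self _ _,
      mul_mem (hD.nrm.norm h1) (mem_norm_commutator_self _ _)]
  have hX : ∀ y : G, y ∈ unbar (ko ⊤ a) 𝐂[coset (ko ⊤ a) s] ↔ y * s * y⁻¹ * s ∈ ko ⊤ a := fun y => by
    rw [mem_unbar, ← coset_eq_one_iff (hn _), coset_mul (hn _) (hn _), coset_conj (hn _) (hn _),
      mul_eq_one_iff_eq_inv, ← coset_inv (hn s), h2.inv, mul_inv_eq_iff_eq_mul, mem_cent1_iff]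
    exact and_iff_right (hn y)
  obtain ⟨w, hw, hw1, h6⟩ : ∃ w ∈ U, w ≠ 1 ∧
      ¬ ⁅St2 G a b, zpowers s⁆ ⊓ 𝐂[w] ≤ unbar (ko ⊤ a) 𝐂[coset (ko ⊤ a) s] := by
    by_contra h0
    push Not at h0
    have := H2.le_of_forall_centralizer_le hU1 hU2 hUN
      (coprime_of_isPGroup hU (odd_iff_piG.1 hD.odd)) h0
    exact h5 (hD.idem.ge.trans (commutator_zpowers_le h2.ord fun g hg => (hX g).1 (this hg)))
  obtain ⟨y, hy, h7⟩ := SetLike.not_le_iff_exists.1 h6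
  have h8 := conj_mul_mem_commutator h2.ord (hD.le hy.1)
  have hsw : s ∈ 𝐂[w] := cent_le_cent1 hw (comm_iff_le_cent.1 hU1 ((hU3 s).2 (by simp)))
  have h9 := mem_cent1_iff.1 (mul_mem (mul_mem (mul_mem hy.2 hsw) (inv_mem hy.2)) hsw)
  refine ⟨s, _, h2, h3, hD.le h8, BS.odd_orderOf hD.odd h8, inv_conj_mul h2.ord y,
    fun e => h7 ((hX y).2 e), ?_⟩
  rcases (hU3 w).1 hw with rfl | rfl | rfl | rfl
  · exact absurd rfl hw1
  · exact Or.inl (by rw [← h9, mul_inv_cancel_right])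
  · exact absurd ((hX y).2 (by
      rw [mem_cent1_iff.1 hy.2, mul_inv_cancel_right, h2.sq]; exact one_mem _)) h7
  · refine Or.inr ?_
    have e := inv_conj_mul h2.ord y
    generalize y * s * y⁻¹ * s = k at e h9
    calc t * k * t⁻¹ = (t * s * k * (t * s)⁻¹)⁻¹ := by
          rw [show t * s * k * (t * s)⁻¹ = t * (s * k * s⁻¹) * t⁻¹ by group, e]; group
      _ = _ := by rw [← h9, mul_inv_cancel_right]
/-- an involution of `R V` fixing two points lies in `V` -/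
theorem BQ.mem_of_fix_two (h : BQ ⊤ a R) (hr : Rk2 (⊤ : Subgroup G)) (hz : Zi a z)
    (ho : ∀ c, Orb (⊤ : Subgroup G) a c) (hb : b ≠ a) (ht : orderOf t = 2) (h1 : t ∈ St2 G a b)
    (hV : V ⊴ St G a) (h2 : ko ⊤ a ≤ V) (h3 : t ∈ R ⊔ V) : t ∈ V := by
  have hn : ∀ g : G, g ∈ 𝐍(ko ⊤ a) := fun g => (ko_nrm ⊤ a).norm (mem_top g)
  have hR : R ⊴ St G a := top_inf_eq (St G a) ▸ h.nrm
  obtain ⟨s, k, b1, b2, b3, b4, b5, b6, b7⟩ := exists_inv_not_mem hr hz (ho b) hb ht h1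
  obtain ⟨r, c1, v, c2, rfl⟩ := (H2.mem_sup_of_le_normalizer (hR.le.trans hV.norm)).1 h3
  refine mul_mem ?_ c2
  have h4 : r⁻¹ * (k * r * k⁻¹) ∈ V := by
    rcases b7 with e | e
    · rw [show r⁻¹ * (k * r * k⁻¹) = r⁻¹ * (k * (r * v) * k⁻¹) * (k * v * k⁻¹)⁻¹ by group,
        ← mul_inv_eq_iff_eq_mul.1 e, mul_inv_cancel_right, inv_mul_cancel_left]
      exact mul_mem c2 (inv_mem (hV.conj_mem b3.1 c2))
    have d1 := mul_mem ((hR.sup hV).conj_mem b3.1 h3) (inv_mem h3)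
    rw [show k * (r * v) * k⁻¹ * (r * v)⁻¹ = k * (r * v * k * (r * v)⁻¹)⁻¹ by group, e,
      inv_inv] at d1
    obtain ⟨x, d2, y, d3, e1⟩ := (H2.mem_sup_of_le_normalizer (hR.le.trans hV.norm)).1
      (RI.mem_of_sq b4 d1)
    obtain ⟨n, d4⟩ := h.two x d2
    have d5 := F11.pow_mem_of_mul (hV.norm (hR.le d2)) d3 (h2 d4)
    rw [e1] at d5
    replace d5 : k ∈ V := zpowers_le.2 d5 (mem_zpowers_pow_iff.2 (by
      rw [Nat.coprime_iff_gcd_eq_one.symm]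
      exact Nat.Coprime.pow_left n (Nat.coprime_two_left.2 b4)))
    rw [← mul_assoc, ← mul_assoc]
    exact mul_mem (hV.conj_mem' (hR.le c1) d5) (inv_mem d5)
  have h5 := F11.mem_of_fpf (S := bar (ko ⊤ a) (R ⊓ V)) (A := bar (ko ⊤ a) R)
    (g := coset (ko ⊤ a) k) (r := coset (ko ⊤ a) r) (bar_mono _ inf_le_left)
    (fun x hx => conj_mem_of_mem_normalizer
      (coset_mem_normalizer_bar (hn k) ((hR.inf hV).norm b3.1)) hx)
    (fun x hx e => by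
      obtain ⟨x, d1, rfl⟩ := (mem_bar' fun g _ => hn g).1 hx
      refine coset_eq_one (h.fpf ho hb b1 b2 b3 b4 b5 b6 d1 ?_)
      rw [← coset_eq_one_iff (hn _), coset_mul (hn _) (hn _), coset_conj (hn _) (hn _), e,
        coset_inv (hn _), mul_inv_cancel])
    (coset_mem_bar _ c1) (by
      rw [← coset_conj (hn _) (hn _), ← coset_inv (hn _), ← coset_mul (hn _) (hn _)]
      exact coset_mem_bar _ (mem_inf.2 ⟨mul_mem (inv_mem c1) (hR.conj_mem b3.1 c1), h4⟩))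
  exact sup_le inf_le_right h2 ((coset_mem_bar_iff (fun g _ => hn g) (hn r)).1 h5)
/-- the main step -/
theorem tight_core (H : BtAll.{u}) (Qf : Ω → Subgroup G) (hcj : ∀ g c, Qf (g • c) = cj g (Qf c))
    (hle : ∀ c, Qf c ≤ St G c) (hD : ∀ c z, Zi c z ↔ z ∈ Qf c ∧ orderOf z = 2)
    (hpt : ∀ c : Ω, ∃ z : G, Zi c z) (ht : orderOf t = 2) (h1 : t ∈ ⨆ c, Qf c) (hb : b ≠ a)
    (h2 : t ∈ St2 G a b) : False := by
  obtain ⟨z, hz⟩ := hpt a
  have ho : ∀ c, Orb (LZ (⊤ : Subgroup G)) a c := fun c =>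
    let ⟨z', hz'⟩ := hpt c
    orb_of_zi hz (mem_LZ (mem_top _) hz.gd) hz' (mem_LZ (mem_top _) hz'.gd)
  have hQ : Qf a ⊴ St G a := ⟨hle a, fun g hg => cj_eq_iff_mem_normalizer.1 (by
    rw [← hcj, mem_stabilizer_iff.1 hg])⟩
  have h3 : t ∈ LZ ⊤ ⊔ Qf a := by
    refine (iSup_le fun c => ?_ : ⨆ c, Qf c ≤ _) h1
    obtain ⟨g, hg, rfl⟩ := ho c
    rw [hcj]
    exact cj_le_of_le (mem_sup_left hg) le_sup_right
  suffices h : ∃ O : Subgroup G, O ⊴ ⊤ ∧ Odd ♯O ∧ t ∈ O ⊔ Qf a by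
    obtain ⟨O, b1, b2, b3⟩ := h
    obtain ⟨g, hg⟩ := F11.exists_conj_mem b2 (le_top.trans b1.norm) ht b3
    exact hb (fix_eq ((hD a _).2 ⟨hg, ord2_conj ht g⟩).gd.of_conj h2.2 h2.1)
  by_cases hr : Rk2 (⊤ : Subgroup G)
  · obtain ⟨R, hR⟩ := H G Ω ⊤ a z hz (mem_top z) hr fun e => by
      obtain ⟨g, -, e1⟩ := ho b
      exact hb (e1.symm.trans (e (mem_top g)))
    have hR' : R ⊴ St G a := top_inf_eq (St G a) ▸ hR.nrm
    have hO := (ko_nrm ⊤ a).of_le (ko_le_St (Orb.refl ⊤ a)) (le_top (a := St G a))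
    refine ⟨_, ko_nrm ⊤ a, odd_ko ⊤ a, hR.mem_of_fix_two hr hz (fun c => (ho c).mono le_top) hb ht h2
      (hO.sup hQ) le_sup_left ?_⟩
    obtain ⟨k, c1, s, c2, rfl⟩ := (H2.mem_sup_of_le_normalizer'
      (le_top.trans (LZ_nrm ⊤).norm)).1 h3
    have c3 : k ∈ St G a := (mul_mem_cancel_right (hle a c2)).1 h2.1
    obtain ⟨n, ⟨j, rfl⟩, c4⟩ := hR.odd k c1 c3
    have := F11.pow_mem_of_mul ((hR'.sup (hO.sup hQ)).norm c3)
      (mem_sup_right (mem_sup_right c2)) (mem_sup_left c4)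
    rwa [pow_succ, pow_mul, pow_two, sq1 ht, one_pow, one_mul] at this
  · refine ⟨_, core_nrm _ ⊤, odd_core ⊤, sup_le (LZ_le_iff.2 fun u _ hu => ?_) le_sup_right h3⟩
    rw [← mul_inv_cancel_right u z, hz.gd.inv]
    exact mul_mem (mem_sup_left (mul_mem_core hr hu (mem_top _) hz.gd (mem_top _)))
      (mem_sup_right ((hD a z).1 hz).1)

/-- the conjugates of `Q` -/
def Cjs {G : Type u} [Group G] (Q : Subgroup G) : Type u := {X : Subgroup G // ∃ g, X = cj g Q}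

instance Cjs.act {G : Type u} [Group G] (Q : Subgroup G) : MulAction G (Cjs Q) where
  smul g X := ⟨cj g X.1, let ⟨h, e⟩ := X.2; ⟨g * h, by rw [e, cj_mul]⟩⟩
  one_smul X := Subtype.ext (cj_one X.1)
  mul_smul g h X := Subtype.ext (cj_mul g h X.1)

theorem Cjs.smul_eq_iff {G : Type u} [Group G] {Q : Subgroup G} {g : G} {X : Cjs Q} :
    g • X = X ↔ g ∈ 𝐍(X.1) := Subtype.ext_iff.trans cj_eq_iff_mem_normalizer

theorem s1911_of (H : BtAll.{u}) {G : Type u} [Group G] [Finite G] (Q : Subgroup G)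
    (hQ : Cfsg.IsTightlyEmbedded Q)
    (hodd : ∀ g : G, g ∉ Subgroup.normalizer (Q : Set G) →
      Odd (Nat.card ↥(Q.map (MulAut.conj g).toMonoidHom ⊓ Subgroup.normalizer (Q : Set G)))) :
    Q.Normal ∨ Cfsg.IsStronglyEmbedded ((Subgroup.normalizer (Q : Set G)).subgroupOf
      (Subgroup.normalClosure (Q : Set G))) := by
  refine or_iff_not_imp_left.2 fun hn => ?_
  obtain ⟨z, hzQ, hz⟩ := exists_inv_of_not_odd (Nat.not_odd_iff_even.2 hQ.1)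
  have key : ∀ (X Y : Cjs Q) (d : G), d ∈ X.1 → orderOf d = 2 → d • Y = Y → X = Y := by
    rintro ⟨_, g, rfl⟩ ⟨_, h, rfl⟩ d h1 h2 h3
    replace h3 : d ∈ cj h 𝐍(Q) := cj_normalizer h Q ▸ Cjs.smul_eq_iff.1 h3
    refine Subtype.ext (show cj g Q = cj h Q from ?_)
    by_contra e
    refine not_odd_of_ord2 (t := h⁻¹ * d * h) (by simpa using ord2_conj h2 h⁻¹)
      (mem_inf.2 ⟨?_, mem_cj.1 h3⟩) (hodd (h⁻¹ * g) fun e1 => e (by
        rw [← mul_inv_cancel_left h g, cj_mul, cj_eq_iff_mem_normalizer.2 e1]))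
    change _ ∈ cj (h⁻¹ * g) Q
    rw [cj_mul]
    simpa using conj_mem_cj (g := h⁻¹) h1
  have hle : ∀ X : Cjs Q, X.1 ≤ St G X := fun X _ hg => Cjs.smul_eq_iff.2 (le_normalizer hg)
  letI : ZG G := ⟨{d | orderOf d = 2 ∧ ∃ X : Cjs Q, d ∈ X.1}, fun d h => h.1,
    fun d ⟨h, X, h1⟩ g => ⟨ord2_conj h g, g • X, conj_mem_cj h1⟩,
    fun d ⟨h, X, h1⟩ e ⟨h', Y, h2⟩ hne hc => ⟨ord2 (by
      rw [mul_assoc, ← mul_assoc e, ← hc, mul_assoc, sq1 h', mul_one, sq1 h])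
      fun e1 => hne (by rw [mul_eq_one_iff_eq_inv.1 e1, inv2 h']), X, mul_mem h1 (by
        rwa [← key Y X e h2 h' (key X _ d h1 h (by
          rw [smul_smul, hc, mul_smul, mem_stabilizer_iff.1 (hle X h1)])).symm])⟩⟩
  haveI : ZF G (Cjs Q) := ⟨fun t ⟨_, X, h⟩ => ⟨X, hle X h⟩,
    fun t ⟨h, X, h1⟩ a b h2 h3 => (key X a t h1 h h2).symm.trans (key X b t h1 h h3)⟩
  have hK : normalClosure (Q : Set G) = ⨆ X : Cjs Q, X.1 := by
    refine le_antisymm ?_ (iSup_le ?_)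
    · haveI : (⨆ X : Cjs Q, X.1).Normal := nrm_top_iff.1 ⟨le_top, fun g _ =>
        H1.mem_normalizer_of_cj_le (by
          rw [H1.cj_def, Subgroup.map_iSup]
          exact iSup_le fun X => le_iSup (fun X : Cjs Q => X.1) (g • X))⟩
      exact normalClosure_le_normal (le_iSup (fun X : Cjs Q => X.1) ⟨Q, 1, (cj_one Q).symm⟩)
    · rintro ⟨_, g, rfl⟩
      exact H1.cj_le_iff.2 fun x hx => normalClosure_normal.conj_mem _ (le_normalClosure hx) g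
  have hG : ∀ d : G, Gd d ↔ orderOf d = 2 ∧ ∃ X : Cjs Q, d ∈ X.1 := fun _ => Iff.rfl
  have hT := fun (t : G) (a b : Cjs Q) => tight_core (t := t) (a := a) (b := b) H (fun X => X.1)
    (fun _ _ => rfl) hle (fun X d => ⟨fun h0 => let ⟨h, Y, h1⟩ := (hG d).1 h0.gd
      ⟨key Y X d h1 h h0.fix ▸ h1, h⟩, fun h => ⟨(hG d).2 ⟨h.2, X, h.1⟩, hle X h.1⟩⟩) (by
      rintro ⟨_, g, rfl⟩
      exact ⟨_, (hG _).2 ⟨ord2_conj hz g, ⟨_, g, rfl⟩, conj_mem_cj hzQ⟩, hle _ (conj_mem_cj hzQ)⟩)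
  let a : Cjs Q := ⟨Q, 1, (cj_one Q).symm⟩
  refine (H3.isStronglyEmbedded_iff _).2 ⟨fun e => hn (nrm_top_iff.1 ⟨le_top, fun g _ => ?_⟩),
    ⟨⟨z, le_normalClosure hzQ⟩, le_normalizer hzQ, by rwa [← orderOf_coe]⟩, fun g t h1 h2 h3 => ?_⟩
  · rw [subgroupOf_eq_top] at e
    exact (Cjs.smul_eq_iff (X := a)).1 (key (g • a) a _ (conj_mem_cj hzQ) (ord2_conj hz g)
      (Cjs.smul_eq_iff.2 (e (normalClosure_normal.conj_mem _ (le_normalClosure hzQ) g))))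
  by_contra h4
  refine hT t a ((g : G)⁻¹ • a) (by rwa [orderOf_coe]) (hK ▸ t.2) (fun e => h4 ?_)
    ⟨Cjs.smul_eq_iff.2 h1, ?_⟩
  · exact (Cjs.smul_eq_iff (X := a)).1 (inv_smul_eq_iff.1 e).symm
  · have : ((g : G) * t * (g : G)⁻¹) • a = a := (Cjs.smul_eq_iff (X := a)).2 h3
    rwa [mul_smul, mul_smul, ← eq_inv_smul_iff] at this

end Cfsg.Agent.ZD
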