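import Cfsg.Agent.ZD.ZS

/-! Theorem ZD: part IIa (port of `BS/RedIIa`, with cores). -/

set_option autoImplicit false
set_option linter.unusedSectionVars false

namespace Cfsg.Agent.ZD

open Subgroup FT MulAction BS

universe u v

variable {G : Type u} [Group G] [Finite G] [ZG G] {Ω : Type v} [Finite Ω] [MulAction G Ω]
  [hG : ZF G Ω]
variable {B T X Y : Subgroup G} {a b d : Ω} {z t : G} {p : ℕ}

/-- `b` is a `p`-point for `(a, z)` -/
structure PPt (p : ℕ) (a : Ω) (z : G) (b : Ω) : Prop where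
  ne : b ≠ a
  dvd : p ^ (mI (⊤ : Subgroup G) a).factorization p ∣ (𝐂[z]).relIndex (So3 G a b (z • b))

variable [hp : Fact p.Prime]

theorem PPt.of_le (hz : Zi a z) (hd : d ≠ a) (hT : IsPGroup p T) (h1 : T ≤ St3 G a d (z • d))
    (h2 : z ∈ 𝐍(T)) (h3 : p ^ (mI (⊤ : Subgroup G) a).factorization p ∣ (𝐂[z]).relIndex T) :
    PPt p a z d :=
  ⟨hd, by
    rw [(hz.oc_St3 hd).relIndex_eq (hz.oc_St3 hd).le_core (core_le _ _)]
    exact h3.trans ((hz.oc_St3 hd).relIndex_dvd hT h1 h2)⟩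
theorem PPt.dvd_syl (h : PPt p a z b) (hz : Zi a z) (hT : Syl p T (So3 G a b (z • b)))
    (h2 : z ∈ 𝐍(T)) : p ^ (mI (⊤ : Subgroup G) a).factorization p ∣ (𝐂[z]).relIndex T := by
  rw [relIndex_cent1_syl (odd_core _) hz.ord (hz.mem_norm_So3 b) hT h2]
  exact pow_dvd_pow _ ((hp.out.pow_dvd_iff_le_factorization (relIndex_pos _ _).ne').1 h.dvd)
theorem PPt.not_dvd (h : PPt p a z b) (hy : Hyp G Ω) (hz : Zi a z) :
    ¬ p ∣ (So3 G a b (z • b)).relIndex (So G a b) := fun e => by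
  have h1 := mul_dvd_mul e h.dvd
  rw [hy.relIndex_mul_So hz h.ne, ← pow_succ'] at h1
  exact Nat.pow_succ_factorization_not_dvd (mI_pos hz (mem_top z)).ne' hp.out h1
/-- (T1) -/
theorem PPt.syl (h : PPt p a z b) (hy : Hyp G Ω) (hz : Zi a z)
    (hT : Syl p T (So3 G a b (z • b))) : Syl p T (So G a b) :=
  hT.trans (hy.So3_le hz h.ne) (h.not_dvd hy hz)
theorem PPt.syl' (h : PPt p a z b) (hy : Hyp G Ω) (hz : Zi a z)
    (hT : Syl p T (So3 G a b (z • b))) : Syl p T (So G b (z • b)) :=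
  hT.trans (hz.So3_le' h.ne) (by rw [hy.relIndex_So3 hz h.ne]; exact h.not_dvd hy hz)
theorem PPt.not_le_cent (h : PPt p a z b) (hd : p ∣ mI (⊤ : Subgroup G) a) (hz : Zi a z)
    (hT : Syl p T (So3 G a b (z • b))) (h2 : z ∈ 𝐍(T)) : ¬ T ≤ 𝐂[z] := fun e => by
  have h1 := h.dvd_syl hz hT h2
  rw [relIndex_eq_one.2 e, Nat.dvd_one] at h1
  exact (Nat.one_lt_pow (hp.out.factorization_pos_of_dvd (mI_pos hz (mem_top z)).ne' hd).ne'
    hp.out.one_lt).ne' h1
/-- (T2) -/
theorem PPt.of_fix (h : PPt p a z b) (hz : Zi a z) (hT : Syl p T (So3 G a b (z • b)))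
    (h2 : z ∈ 𝐍(T)) (hd : d ≠ a) (h3 : ⁅T, zpowers z⁆ ≤ St G d) : PPt p a z d := by
  have h4 := commutator_zpowers_le_self h2
  refine PPt.of_le hz hd (isPGroup_of_le h4 hT.isPGroup)
    (le_St3_of_norm (h4.trans (hT.le.trans (So3_le_St _ _ _))) h3 (mem_norm_commutator_self _ _))
    (mem_norm_commutator_self _ _) ?_
  rw [relIndex_cent1_commutator (odd_of_le hT.le (odd_core _)) hz.ord h2]
  exact h.dvd_syl hz hT h2
theorem PPt.exists_swap (h : PPt p a z b) (hy : Hyp G Ω) (hz : Zi a z)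
    (hT : Syl p T (So3 G a b (z • b))) : ∃ t ∈ 𝐍(zj T), t • a = b := by
  obtain ⟨t, -, h1, -, h2⟩ := exists_swap_norm_So hz (mem_top z) h.ne (hy.orb a b)
    (by rw [top_inf_eq]; exact h.syl hy hz hT)
  exact ⟨t, mem_norm_zj h1, h2⟩
/-- (T4) -/
theorem PPt.core_not_le (h : PPt p a z b) (hy : Hyp G Ω) (hc : ¬ Conf G Ω)
    (hd : p ∣ mI (⊤ : Subgroup G) a) (hz : Zi a z) :
    ¬ core {p}ᶜ (So G b (z • b)) ≤ St G a := fun e => by
  have h3 := odd_core (St3 G a b (z • b))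
  have h' := odd_core (St2 G b (z • b))
  have l' := hz.So3_le' h.ne
  have l := hy.So3_le hz h.ne
  obtain ⟨T, hT, hzT⟩ := exists_inv_syl p h3 hz.ord (hz.mem_norm_So3 b)
  obtain ⟨t, ht, hta⟩ := h.exists_swap hy hz hT
  have hT' := h.syl' hy hz hT
  have h1 : ∀ x ∈ So G b (z • b), ∃ d ∈ So3 G a b (z • b), ∃ n ∈ 𝐍(zj T), x = d * n := by
    intro x hx
    rw [So, ← ZJ_factorisation h' (sol_of_odd h') hT',
      mem_sup_of_le_normalizer' (inf_le_left.trans (core_nrm _ _).norm)] at hx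
    obtain ⟨d, hd, n, hn, rfl⟩ := hx
    exact ⟨d, (hz.So_inf_St h.ne).le ⟨core_le _ _ hd, e hd⟩, n, hn.2, rfl⟩
  have h2 : ∀ x ∈ So G a b, ∃ d ∈ So3 G a b (z • b), ∃ n ∈ 𝐍(zj T), x = d * n :=
    fun x hx => exists_mul_of_relIndex_le l (by
      rw [← relIndex_eq_of_card (hy.card_So_eq hz h.ne)
        (card_So_eq hz (mem_norm_zj hzT) h.ne ⟨t, ht, hta⟩)]
      exact relIndex_le_of_exists_mul l' h1) hx
  have e1 := commutator_core_zj h' hT' hT.le l' h1
  have e2 := commutator_core_zj (odd_core _) (h.syl hy hz hT) hT.le l h2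
  refine hc (hy.conf_of_zj hz h.ne (odd_core _) le_rfl (So_le_St a b) (h.syl hy hz hT) ?_
    (mem_norm_zj hzT) (not_le_St ht (hta ▸ h.ne)) ?_ ?_)
  · rintro rfl
    exact h.not_le_cent hd hz hT hzT bot_le
  · rw [e2]; exact mem_norm_commutator (mem_norm_core _ (hz.mem_norm_So3 b)) (mem_norm_zj hzT)
  · rw [e2, ← e1]
    exact fun e3 => hy.So_not_le hz h.ne ((le_norm_commutator_core_zj h' hT').trans e3)
/-- (T5) -/
theorem PPt.not_rk2 (h : PPt p a z b) (hy : Hyp G Ω) (hc : ¬ Conf G Ω)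
    (hd : p ∣ mI (⊤ : Subgroup G) a) (hz : Zi a z) (hT : Syl p T (So3 G a b (z • b)))
    (hzT : z ∈ 𝐍(T)) : ¬ Rk2 𝐍(zj T) := fun hr => by
  obtain ⟨t, ht, hta⟩ := h.exists_swap hy hz hT
  have h1 := not_le_St ht (hta ▸ h.ne)
  have h2 := h.not_le_cent hd hz hT hzT
  have hbt := hy.bt (hy.norm_ne_top (zj_ne_bot hT.isPGroup (by rintro rfl; exact h2 bot_le))
    ((zj_le T).trans (hT.le.trans (So3_le_St _ _ _)))) hr hz (mem_norm_zj hzT) h1
  exact h.core_not_le hy hc hd hz (core_le_St_of_ko hz (mem_norm_zj hzT) hr ⟨t, ht, hta⟩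
    (isPGroup_of_le (commutator_zpowers_le_self hzT) hT.isPGroup)
    (hbt.commutator_le hz (mem_norm_zj hzT) h.ne ⟨t, ht, hta⟩
      (le_inf (le_norm_zj T) (hT.le.trans (So3_le _ _ _))))
    (mem_norm_commutator_self _ _)
    (commutator_not_le_cent (odd_of_le hT.le (odd_core _)) hz.ord hzT h2))
omit hp in
theorem commutator_le_So3 (hz : Zi a z) (hd : d ≠ a) (hY : Odd ♯Y) (hn : z ∈ 𝐍(Y))
    (h1 : Y ≤ St G a) (h2 : ⁅Y, zpowers z⁆ ≤ St G d) :
    ⁅Y, zpowers z⁆ ≤ ⁅So3 G a d (z • d), zpowers z⁆ :=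
  (commutator_zpowers_le_of_le hY hz.ord hn (le_St3_of_norm
    ((commutator_zpowers_le_self hn).trans h1) h2 (mem_norm_commutator_self _ _))).trans
    (hz.oc_St3 hd).commutator_core.ge
/-- (T6), first part -/
theorem PPt.exists_orb (h : PPt p a z b) (hy : Hyp G Ω) (hc : ¬ Conf G Ω)
    (hd : p ∣ mI (⊤ : Subgroup G) a) (hz : Zi a z) :
    ∃ d, PPt p a z d ∧ ⁅So3 G a b (z • b), zpowers z⁆ ≤ ⁅So3 G a d (z • d), zpowers z⁆ ∧
      Orb 𝐍(pgen p ⁅So3 G a b (z • b), zpowers z⁆) a d := by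
  have h3 := odd_core (St3 G a b (z • b))
  have hz3 := hz.mem_norm_So3 b
  set E := core {p}ᶜ (So G b (z • b)) with hE
  have hY : So3 G a b (z • b) ⊔ E ≤ So G b (z • b) := sup_le (hz.So3_le' h.ne) (core_le _ _)
  have hzY := mem_norm_sup hz3 (mem_norm_core {p}ᶜ (hz.mem_norm_So b))
  have e : (So3 G a b (z • b) ⊔ E) ⊓ St G a = So3 G a b (z • b) :=
    le_antisymm ((inf_le_inf_right _ hY).trans (hz.So_inf_St h.ne).le)
      (le_inf le_sup_left (So3_le_St _ _ _))
  have hYo := odd_of_le hY (odd_core _)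
  have h1 := sn_commutator_St hz hYo hzY
  obtain ⟨d, h4, h5, h6⟩ := exists_fix_commutator hz hYo hzY
    fun e1 => h.core_not_le hy hc hd hz (le_sup_right.trans e1)
  rw [e] at h1 h6
  obtain ⟨T, hT, hzT⟩ := exists_inv_syl p h3 hz.ord hz3
  refine ⟨d, h.of_fix hz hT hzT h5 ((commutator_mono hT.le le_rfl).trans h6),
    commutator_le_So3 hz h5 h3 hz3 (So3_le_St _ _ _) h6, h4.mono (sup_le
      ((left_le_normalizer_commutator _ _).trans (norm_le_norm_pgen _ _))
      (le_norm_pgen h1 le_sup_right ?_ (core_piG _ _)))⟩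
  exact ((commutator_zpowers_le_self hz3).trans (hz.So3_le' h.ne)).trans (core_nrm _ _).norm
/-- (T6), second part -/
theorem PPt.false (h : PPt p a z b) (hy : Hyp G Ω) (hc : ¬ Conf G Ω)
    (hd : p ∣ mI (⊤ : Subgroup G) a) (hz : Zi a z)
    (hm : ∀ d, PPt p a z d → (♯(⁅So3 G a d (z • d), zpowers z⁆ : Subgroup G)).factorization p ≤
      (♯(⁅So3 G a b (z • b), zpowers z⁆ : Subgroup G)).factorization p)
    (ho : Orb 𝐍(pgen p ⁅So3 G a b (z • b), zpowers z⁆) a b) : False := by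
  have h3 := odd_core (St3 G a b (z • b))
  have h' := odd_core (St2 G b (z • b))
  have hz3 := hz.mem_norm_So3 b
  have hz' := hz.mem_norm_So b
  set B := ⁅So3 G a b (z • b), zpowers z⁆ with hB
  set L := pgen p B with hL
  have hBn : B ⊴ So3 G a b (z • b) := commutator_zpowers_nrm hz3
  have hzL : z ∈ 𝐍(L) := norm_le_norm_pgen _ _ (mem_norm_commutator_self _ _)
  obtain ⟨T, hT, hzT⟩ := exists_inv_syl p h3 hz.ord hz3
  have hTL : T ≤ 𝐍(L) := (hT.le.trans hBn.norm).trans (norm_le_norm_pgen _ _)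
  obtain ⟨t, htL, htT, ht, hta⟩ := exists_swap_norm_So hz hzL h.ne ho
    ((h.syl hy hz hT).of_le (le_inf hTL (h.syl hy hz hT).le) inf_le_right)
  have hS : T ⊓ B = T ⊓ L := le_antisymm (le_inf inf_le_left
    (le_pgen (isPGroup_of_le inf_le_left hT.isPGroup) inf_le_right))
    (inf_le_inf_left _ (pgen_le _ _))
  have htS : t ∈ 𝐍(T ⊓ B) := hS ▸ mem_norm_inf htT htL
  have hr := h.not_rk2 hy hc hd hz hT hzT
  set X := 𝐍(zj T) with hX
  have hzX : z ∈ X := mem_norm_zj hzT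
  have htX : t ∈ X := mem_norm_zj htT
  have hTX : T ≤ X := le_norm_zj T
  set O := core {2}ᶜ X with hO
  have hOn : O ⊴ X := core_nrm _ _
  have hzO := hOn.norm hzX
  have hOo : Odd ♯O := odd_core X
  have hzOa := mem_norm_inf hzO hz.mem_norm_St
  obtain ⟨d, -, h4, h5⟩ := exists_fix_commutator hz hOo hzO
    (ZD.core_not_le hr hz hzX (not_le_St htX (hta ▸ h.ne)))
  have h6 : ⁅T, zpowers z⁆ ≤ ⁅O ⊓ St G a, zpowers z⁆ :=
    commutator_le_commutator_core hr hz.gd hzX hzT hTX (hT.le.trans (So3_le_St _ _ _))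
  have h7 := (factorization_card_mono p (commutator_le_So3 hz h4 (odd_of_le inf_le_left hOo) hzOa
    inf_le_right h5)).trans (hm d (h.of_fix hz hT hzT h4 (h6.trans h5)))
  have hzX3 := mem_norm_inf hz3 (mem_norm_of_mem hzX)
  have h8 : ⁅So3 G a b (z • b) ⊓ X, zpowers z⁆ ≤ ⁅O ⊓ St G a, zpowers z⁆ :=
    commutator_le_commutator_core hr hz.gd hzX hzX3 inf_le_right
      (inf_le_left.trans (So3_le_St _ _ _))
  have h9 : T ⊓ B ≤ ⁅O ⊓ St G a, zpowers z⁆ := by
    have hn := commutator_zpowers_nrm hzX3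
    have e1 := Syl.inf_of_nrm (hT.of_le (le_inf hT.le hTX) inf_le_left) hn
    have e2 := e1.trans le_sup_right (not_dvd_relIndex_of_factorization le_sup_right
      (factorization_card_sup_le (core_piG {p}ᶜ (So3 G a b (z • b)))
        ((hn.le.trans inf_le_left).trans (core_nrm _ _).norm)))
    have e3 := e2.eq_of_le (isPGroup_of_le inf_le_left hT.isPGroup)
      (inf_le_inf_left T le_sup_right) inf_le_right
    exact ((inf_le_inf_left T (commutator_le_core_sup h3 hT hz3)).trans e3.le).trans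
      (inf_le_right.trans h8)
  have hT' := h.syl' hy hz hT
  have hzX' := mem_norm_inf hz' (mem_norm_of_mem hzX)
  have hzO' := mem_norm_inf hzO hz'
  have h10 : (♯(⁅O ⊓ So G b (z • b), zpowers z⁆ : Subgroup G)).factorization p ≤
      (♯B).factorization p := by
    have hn : O ⊓ So G b (z • b) ⊴ So G b (z • b) ⊓ X :=
      ⟨le_inf inf_le_right (inf_le_left.trans hOn.le), le_normalizer_inf
        (inf_le_right.trans hOn.norm) (inf_le_left.trans le_normalizer)⟩
    refine (factorization_commutator_le (N := cj t ⁅O ⊓ St G a, zpowers z⁆)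
      (odd_of_le inf_le_left hOo) hz.ord hzO'
      (Syl.inf_of_nrm (hT'.of_le (le_inf hT'.le hTX) inf_le_left) hn) ?_ ?_).trans
      (by rw [card_cj]; exact h7)
    · rw [← cj_normalizer]
      refine le_trans ?_ (cj_mono t (left_le_normalizer_commutator _ _))
      rw [cj_inf, hOn.cj_eq htX, cj_stab, hta]
      exact inf_le_inf_left _ (So_le_St _ _)
    · refine le_trans ?_ (cj_mono t h9)
      rw [cj_eq_iff_mem_normalizer.2 htS]
      exact (commutator_mono inf_le_left le_rfl).trans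
        (le_inf (commutator_zpowers_le_self hzT) (commutator_mono hT.le le_rfl))
  have h11 : (♯(⁅So G b (z • b), zpowers z⁆ : Subgroup G)).factorization p ≤
      (♯B).factorization p :=
    (factorization_card_mono p (commutator_le_core_sup h' hT' hz')).trans
      ((factorization_card_sup_le (core_piG _ _) (((commutator_zpowers_le_self hzX').trans
        inf_le_left).trans (core_nrm _ _).norm)).trans ((factorization_card_mono p
          (commutator_le_commutator_core hr hz.gd hzX hzX' inf_le_right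
            inf_le_left)).trans h10))
  have h12 : B ≤ ⁅So G b (z • b), zpowers z⁆ := commutator_mono (hz.So3_le' h.ne) le_rfl
  have h13 := sn_commutator_St hz h' hz'
  rw [hz.So_inf_St h.ne] at h13
  have h14 := pgen_eq_of_sn (h13.mono h12 (commutator_zpowers_le_self hz'))
    (not_dvd_relIndex_of_factorization h12 h11)
  refine hz.smul_ne h.ne (le_St_of_not_conf hc (hz.smul_ne h.ne) (hy.norm_ne_top (Y := L) ?_
    ((pgen_le _ _).trans (hBn.le.trans (So3_le_St _ _ _)))) ?_ (hta ▸ hz.conj t)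
    (mul_mem (mul_mem htL hzL) (inv_mem htL)) hzL)
  · refine ne_bot_of_le (le_pgen (isPGroup_of_le (commutator_zpowers_le_self hzT) hT.isPGroup)
      (commutator_mono hT.le le_rfl)) ?_
    rw [Ne, commutator_zpowers_eq_bot]
    exact h.not_le_cent hd hz hT hzT
  · rw [hL, h14]
    exact (left_le_normalizer_commutator _ _).trans (norm_le_norm_pgen _ _)
omit hp in
theorem partIIa (h : Hyp G Ω) (hc : ¬ Conf G Ω) {p : ℕ} (hp : p.Prime) {a : Ω}
    (hd : p ∣ mI (⊤ : Subgroup G) a) : P3 G Ω p := by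
  intro c b z T hz hb hT h1 h2 h3
  have := Fact.mk hp
  rw [h.mI_eq a c] at hd
  obtain ⟨b1, h4, h5⟩ := Set.exists_max_image {b | PPt p c z b}
    (fun d => (♯(⁅So3 G c d (z • d), zpowers z⁆ : Subgroup G)).factorization p) (Set.toFinite _)
    ⟨b, PPt.of_le hz hb hT h1 h2 h3⟩
  obtain ⟨b2, h6, h7⟩ := Set.exists_max_image {b | PPt p c z b ∧
    (♯(⁅So3 G c b1 (z • b1), zpowers z⁆ : Subgroup G)).factorization p ≤
      (♯(⁅So3 G c b (z • b), zpowers z⁆ : Subgroup G)).factorization p}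
    (fun d => ♯(pgen p ⁅So3 G c d (z • d), zpowers z⁆)) (Set.toFinite _) ⟨b1, h4, le_rfl⟩
  obtain ⟨d, h8, h9, h10⟩ := h6.1.exists_orb h hc hd hz
  have h11 := h6.2.trans (factorization_card_mono p h9)
  rw [eq_of_le_of_card_le (pgen_mono p h9) (h7 d ⟨h8, h11⟩)] at h10
  exact h8.false h hc hd hz (fun e he => (h5 e he).trans h11) h10

end Cfsg.Agent.ZD
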