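import Cfsg.Agent.ZD.ZS

/-! Theorem ZD: part IIb (port of `BS/RedIIb`). -/

set_option autoImplicit false
set_option linter.unusedSectionVars false

namespace Cfsg.Agent.ZD

open Subgroup FT MulAction BS

universe u v

variable {G : Type u} [Group G] [Finite G] [ZG G] {Ω : Type v} [Finite Ω] [MulAction G Ω]
  [hG : ZF G Ω]
variable {R T X : Subgroup G} {a b d : Ω} {z : G} {p : ℕ}

/-- the family `F` of part IIb -/
structure FamB (p : ℕ) (a b : Ω) (X : Subgroup G) (z : G) : Prop where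
  ne : b ≠ a
  ne_top : X ≠ ⊤
  mem : z ∈ X
  zi : Zi a z
  rk : Rk2 X
  orb : Orb X a b
  ex : ∃ P ≤ ko X a, IsPGroup p P ∧ z ∈ 𝐍(P) ∧ ¬ P ≤ 𝐂[z]

theorem FamB.not_le (h : FamB p a b X z) : ¬ X ≤ St G a :=
  let ⟨_, hg, e⟩ := h.orb; not_le_St hg (e ▸ h.ne)
/-- the good involutions of `X_a` generate an elementary abelian group modulo `ko` -/
theorem BT.exists_abelem (h : BT X a) : ∃ J, J ⊴ X ⊓ St G a ∧ ko X a ≤ J ∧
    Abelem 2 (bar (ko X a) J) ∧ (∀ u ∈ X, Zi a u → u ∈ J) ∧ ∀ u ∈ J, orderOf u = 2 → Gd u := by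
  obtain ⟨Q, h⟩ := h
  have hN := ZD.ko_nrm X a
  have hN' : ko X a ⊴ X ⊓ St G a := hN.of_le (le_inf hN.le (ko_le_St (Orb.refl X a))) inf_le_left
  set A : Set (Quo (ko X a)) := {w | ∃ u ∈ X, Zi a u ∧ coset _ u = w} with hA
  have h2 : ∀ w ∈ A, w * w = 1 := by
    rintro _ ⟨u, hu, hz, rfl⟩
    rw [← coset_mul (hN.norm hu) (hN.norm hu), sq1 hz.ord, coset_one]
  have h3 : IsMulCommutative (closure A) := by
    rw [comm_iff_le_cent, centralizer_closure, closure_le]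
    rintro _ ⟨u, hu, hz, rfl⟩ _ ⟨v, hv, hz', rfl⟩
    have e := coset_eq_one (h.sq v hv u hu hz' hz)
    have e1 := mul_mem (hN.norm hv) (hN.norm hu)
    rw [coset_mul e1 e1, coset_mul (hN.norm hv) (hN.norm hu), mul_eq_one_iff_eq_inv,
      mul_inv_rev, inv_eq_of_mul_eq_one_right (h2 _ ⟨u, hu, hz, rfl⟩),
      inv_eq_of_mul_eq_one_right (h2 _ ⟨v, hv, hz', rfl⟩)] at e
    exact e
  have hQ : Q ≤ 𝐍(ko X a) := h.nrm.le.trans hN'.norm
  refine ⟨unbar _ (closure A), nrm_unbar_of_nrm_bar hN' ⟨(closure_le _).2 ?_, ?_⟩, le_unbar _,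
    ?_, fun u hu hz => mem_unbar.2 ⟨hN.norm hu, subset_closure ⟨u, hu, hz, rfl⟩⟩, ?_⟩
  · rintro _ ⟨u, hu, hz, rfl⟩
    exact coset_mem_bar _ (mem_inf.2 ⟨hu, hz.fix⟩)
  · rw [le_normalizer_closure_iff]
    rintro g hg _ ⟨u, hu, hz, rfl⟩
    obtain ⟨g, hg', rfl⟩ := (mem_bar' hN'.norm).1 hg
    rw [← coset_conj (hN'.norm hg') (hN.norm hu)]
    exact subset_closure ⟨_, mul_mem (mul_mem hg'.1 hu) (inv_mem hg'.1), hz.conj_of_fix hg'.2, rfl⟩
  · rw [bar_unbar]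
    refine ⟨h3, fun x hx => ?_⟩
    induction hx using closure_induction with
    | mem x hx => rw [pow_two, h2 x hx]
    | one => exact one_pow 2
    | mul x y hx hy h4 h5 =>
      rw [Commute.mul_pow (mem_cent_iff.1 (comm_iff_le_cent.1 h3 hy) x hx), h4, h5, one_mul]
    | inv x _ h4 => rw [inv_pow, h4, inv_one]
  · intro u hu e
    obtain ⟨hu1, hu2⟩ := mem_unbar.1 hu
    obtain ⟨x, hx, e1⟩ := (mem_bar' hQ).1 ((closure_le (bar (ko X a) Q)).2 (by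
      rintro _ ⟨v, hv, hz, rfl⟩
      exact coset_mem_bar _ (h.mem hz hv)) hu2)
    rcases h.inv x hx ((coset_eq_one_iff (mul_mem (hQ hx) (hQ hx))).1 (by
      rw [coset_mul (hQ hx) (hQ hx), e1, ← coset_mul hu1 hu1, sq1 e, coset_one])) with
      h4 | ⟨v, hv, hz, h4⟩
    · rw [coset_eq_one h4, eq_comm, coset_eq_one_iff hu1] at e1
      exact absurd (odd_core _) (not_odd_of_ord2 e e1)
    · have h5 : v * u ∈ ko X a := by
        have h6 := coset_eq_one h4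
        rw [coset_mul (hQ hx) (hN.norm hv), e1, mul_eq_one_comm,
          ← coset_mul (hN.norm hv) hu1] at h6
        exact (coset_eq_one_iff (mul_mem (hN.norm hv) hu1)).1 h6
      obtain ⟨k, e2, -⟩ := exists_conj_of_odd hz.ord e (BS.odd_orderOf (odd_core _) h5)
      exact e2 ▸ hz.gd.conj _

variable [hp : Fact p.Prime]

theorem FamB.ko_nrm (h : FamB p a b X z) : ko X a ⊴ X ⊓ St2 G a b :=
  (ZD.ko_nrm X a).of_le (le_inf (ZD.ko_nrm X a).le (le_inf (ko_le_St (Orb.refl X a)) (ko_le_St h.orb)))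
    inf_le_left
theorem FamB.exists_zi (h : FamB p a b X z) (hy : Hyp G Ω) (hp2 : p ≠ 2)
    (hR : Syl p R (X ⊓ St2 G a b)) : Rk2 (X ⊓ St G a ⊓ 𝐍(zj R)) := by
  obtain ⟨J, hJ, h1, h2, h3, h3'⟩ := (hy.bt h.ne_top h.rk h.zi h.mem h.not_le).exists_abelem
  obtain ⟨P, h4, hP, h5, h6⟩ := h.ex
  have hN := ZD.ko_nrm X a
  have hNo := odd_core (kr X a)
  have hC := core_nrm {2}ᶜ (X ⊓ St2 G a b)
  set D := core {2}ᶜ (X ⊓ St2 G a b) ⊔ R with hD
  have hDo : Odd ♯D := odd_sup (odd_core _) (odd_of_isPGroup hp2 hR.isPGroup) (hR.le.trans hC.norm)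
  have hD1 : D ≤ X ⊓ St2 G a b := sup_le hC.le hR.le
  have hDM : D ≤ X ⊓ St G a := hD1.trans (inf_le_inf_left _ inf_le_left)
  have hND : ko X a ≤ D := (le_core h.ko_nrm (core_piG _ _)).trans le_sup_left
  have hDJ := hDM.trans hJ.norm
  have hS : J ⊔ D ≤ X ⊓ St G a := sup_le hJ.le hDM
  have hSN : J ⊔ D ≤ 𝐍(ko X a) := (hS.trans inf_le_left).trans hN.norm
  have hs : Group.IsSolvable ↥(J ⊔ D) := isSolvable_sup (isSolvable_of_bar (le_sup_left.trans hSN)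
    (sol_of_odd hNo) (isSolvable_of_nil (isNilpotent_of_comm h2.1))) (sol_of_odd hDo) hDJ
  have h0 : ∀ Q ≤ J ⊔ D, IsPGroup 2 Q → Q ≤ J := fun Q hQ h8 =>
    le_of_piG_of_nrm (π := {2}) (sup_le le_normalizer hDJ)
      (by rw [sup_comm, relIndex_sup_of_le_normalizer hDJ]; exact (odd_iff_piG.1 hDo).relIndex J)
      hQ (piG_singleton_iff.2 h8)
  have h7 : ∀ Q ≤ J ⊔ D, IsPGroup 2 Q → IsMulCommutative Q := fun Q hQ h8 =>
    comm_of_bar (hQ.trans hSN) ((piG_singleton_iff.2 h8).inf_eq_bot (odd_iff_piG.1 hNo))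
      (isMulCommutative_of_le (bar_mono _ (h0 Q hQ h8)) h2.1)
  have hR' : Syl p R (J ⊔ D) := Syl.trans (hR.of_le le_sup_right hD1) le_sup_right (by
    rw [← relIndex_bar ⟨hND, le_sup_right.trans hSN⟩ ⟨hND.trans le_sup_right, hSN⟩,
      bar_sup (le_sup_left.trans hSN) (le_sup_right.trans hSN)]
    exact not_dvd_relIndex_of_factorization le_sup_right (factorization_card_sup_le
      (piG_compl_of_isPGroup_ne (isPGroup_iff_mem.2 fun x hx => ⟨1, by simpa using h2.2 x hx⟩)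
        hp2.symm) (bar_le_normalizer _ hDJ)))
  have hO := core_nrm {p}ᶜ (J ⊔ D)
  have h9 : Odd ♯(core {p}ᶜ (J ⊔ D)) := odd_of_no_inv fun t ht e => by
    have ht' := hS (hO.le ht)
    obtain ⟨k, hk, e1⟩ := exists_conj_So ⟨h3' t (h0 _ (zpowers_le.2 (hO.le ht))
      (isPGroup_zpowers2 e) (mem_zpowers t)) e, ht'.2⟩ ht'.1 h.zi h.mem h.ne h.orb
    have h10 : z ∈ core {p}ᶜ (J ⊔ D) := e1 ▸ hO.conj_mem (mem_sup_right (mem_sup_left hk.1)) ht
    refine h6 (commutator_zpowers_eq_bot.1 (le_bot_iff.1 ?_))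
    rw [← (piG_singleton_iff.2 hP).inf_eq_bot (core_piG {p}ᶜ (J ⊔ D))]
    exact le_inf (commutator_zpowers_le_self h5) ((commutator_mono le_rfl (zpowers_le.2 h10)).trans
      (commutator_le_right' (((h4.trans h1).trans le_sup_left).trans hO.norm)))
  obtain ⟨u, huX, hu, hne, hc⟩ := h.rk.exists_zi h.zi h.mem
  refine Rk2.mono (Rk2.of_odd_relIndex (S := J ⊔ D) ⟨u, mem_sup_left (h3 u huX hu), z,
    mem_sup_left (h3 z h.mem h.zi), hu.gd, h.zi.gd, hne, hc⟩ inf_le_left ?_)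
    (inf_le_inf_right _ hS)
  refine not_dvd_relIndex_of_factorization inf_le_left ?_
  conv_lhs => rw [← ZJ_factorisation2 hp2 hs h7 hR']
  exact factorization_card_sup_le (odd_iff_piG.1 h9) (inf_le_left.trans hO.norm)
theorem FamB.syl_ko (h : FamB p a b X z) (hR : Syl p R (X ⊓ St2 G a b)) :
    Syl p (R ⊓ ko X a) (ko X a) := Syl.inf_of_nrm hR h.ko_nrm
theorem FamB.ne_bot (h : FamB p a b X z) (hR : Syl p R (X ⊓ St2 G a b)) : R ≠ ⊥ := by
  obtain ⟨P, h4, hP, -, h6⟩ := h.ex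
  refine ne_bot_of_le inf_le_left (Syl.ne_bot (h.syl_ko hR)
    ((dvd_card_of_isPGroup hP ?_).trans (card_dvd_of_le' h4)))
  rintro rfl
  exact h6 bot_le
theorem FamB.step (h : FamB p a b X z) (hy : Hyp G Ω) (hp2 : p ≠ 2)
    (hR : Syl p R (X ⊓ St2 G a b)) : ∃ z', FamB p a b 𝐍(zj R) z' := by
  have hr := h.exists_zi hy hp2 hR
  obtain ⟨z', hz', -, -, h1, -⟩ := id hr
  have hz : Zi a z' := ⟨h1, hz'.1.2⟩
  obtain ⟨t, -, ht, -, hta⟩ := exists_swap_norm_orb h.zi h.mem h.ne h.orb hR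
  have ho : Orb 𝐍(zj R) a b := ⟨t, mem_norm_zj ht, hta⟩
  have h2 : 𝐍(zj R) ≠ ⊤ := hy.norm_ne_top (zj_ne_bot hR.isPGroup (h.ne_bot hR))
    ((zj_le R).trans (hR.le.trans (inf_le_right.trans inf_le_left)))
  have hr' := hr.mono inf_le_right
  have hN := ZD.ko_nrm X a
  have hNo := odd_core (kr X a)
  have hzN := hN.norm hz'.1.1
  obtain ⟨S, hS, hzS⟩ := exists_inv_syl p (odd_of_le inf_le_left hNo) h1.ord
    (mem_norm_inf hzN (mem_norm_of_mem hz'.2))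
  have hS' : Syl p S (ko X a) := H1.isSylowIn_of_card_ge (h.syl_ko hR) hS.isPGroup
    (hS.le.trans inf_le_left) (hS.card_le (h.syl_ko hR).isPGroup
      (le_inf inf_le_right (inf_le_left.trans (le_norm_zj R))))
  obtain ⟨P, h4, hP, h5, h6⟩ := h.ex
  obtain ⟨k, hk, e⟩ := exists_conj_St2 h.zi h.mem hz hz'.1.1 h.ne h.orb
  have h7 : ¬ S ≤ 𝐂[z'] := syl_not_le_cent hNo h1.ord hzN (isPGroup_cj k hP)
    ((cj_mono k h4).trans (hN.cj_eq hk.1).le) (by rw [← cj_normalizer, ← e]; exact conj_mem_cj h5)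
    (by rwa [← e, ← cj_cent1, cj_le_cj_iff]) hS' hzS
  refine ⟨z', h.ne, h2, hz'.2, hz, hr', ho, _, (hy.bt h2 hr' hz hz'.2
    (not_le_St (mem_norm_zj ht) (hta ▸ h.ne))).commutator_le hz hz'.2 h.ne ho
      (le_inf (hS.le.trans inf_le_right) (hS'.le.trans (le_inf (le_inf (ko_le_St (Orb.refl X a))
        (ko_le_St h.orb)) (ko_le_St (h.orb.smul hz'.1.1))))),
    isPGroup_of_le (commutator_zpowers_le_self hzS) hS.isPGroup, mem_norm_commutator_self _ _,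
    commutator_not_le_cent (odd_of_le hS'.le hNo) h1.ord hzS h7⟩
theorem core_sup_pgroup {O : Subgroup G} (hR : IsPGroup p R) (h : R ≤ 𝐍(O)) :
    core {p}ᶜ (O ⊔ R) = core {p}ᶜ O := by
  have h1 := core_nrm {p}ᶜ (O ⊔ R)
  refine le_antisymm (le_core (h1.of_le (le_of_piG_of_nrm (π := {p}ᶜ) (sup_le le_normalizer h) ?_
    h1.le (core_piG _ _)) le_sup_left) (core_piG _ _)) (le_core ⟨(core_le _ _).trans le_sup_left,
      (sup_le le_normalizer h).trans (normalizer_le_normalizer_core _ _)⟩ (core_piG _ _))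
  rw [compl_compl, sup_comm, relIndex_sup_of_le_normalizer h]
  exact (piG_singleton_iff.2 hR).relIndex O
theorem FamB.conf (h : FamB p a b 𝐍(zj R) z) (hy : Hyp G Ω) (hp2 : p ≠ 2)
    (hR : Syl p R (St2 G a b)) (h1 : R ≠ ⊥) : Conf G Ω := by
  obtain ⟨P, h4, hP, h5, h6⟩ := h.ex
  have h2 := core_le_St_of_ko h.zi h.mem h.rk h.orb hP h4 h5 h6
  obtain ⟨g, hg, e1, e2⟩ := (hy.bt h.ne_top h.rk h.zi h.mem h.not_le).two_trans (Orb.refl _ a) h.orb
    h.orb (h.orb.smul h.mem) h.ne.symm (h.zi.smul_ne h.ne).symm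
  have hZ : zj R ≤ kr 𝐍(zj R) a :=
    le_kr_of_nrm (nrm_normalizer _) ((zj_le R).trans (hR.le.trans inf_le_left))
  have hn : R ≤ 𝐍(So G a b) := hR.le.trans (core_nrm _ _).norm
  have hH : Odd ♯(So G a b ⊔ R : Subgroup G) :=
    odd_sup (odd_core _) (odd_of_isPGroup hp2 hR.isPGroup) hn
  have hH1 : So G a b ⊔ R ≤ St2 G a b := sup_le (So_le a b) hR.le
  have hR' : Syl p R (So G a b ⊔ R) := hR.of_le le_sup_right hH1
  have e3 : cj g ⁅core {p}ᶜ (So G a b ⊔ R), zj R⁆ = ⁅core {p}ᶜ (So G b (z • b)), zj R⁆ := by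
    rw [core_sup_pgroup hR.isPGroup hn, cj_commutator, cj_core, cj_So, e1, e2,
      cj_eq_iff_mem_normalizer.2 hg]
  have e4 := eq_of_le_of_card_le (commutator_zj_le hH hR'
    (((le_inf (core_le _ _) h2).trans (h.zi.So_inf_St h.ne).le).trans
      ((hy.So3_le h.zi h.ne).trans le_sup_left)) (core_piG {p}ᶜ (So G b (z • b)))
    (((hZ.trans (le_inf (kr_le_St h.orb) (kr_le_St (h.orb.smul h.mem)))).trans
      (core_nrm _ _).norm).trans (normalizer_le_normalizer_core _ _)))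
    (by rw [← e3, card_cj])
  refine hy.conf_of_zj h.zi h.ne hH le_sup_left (hH1.trans inf_le_left) hR' h1 h.mem h.not_le ?_
    (not_le_St (cj_eq_iff_mem_normalizer.1 (e3.trans e4)) (e1 ▸ h.ne))
  rw [← e4]
  exact mem_norm_commutator (mem_norm_core _ (h.zi.mem_norm_So b)) h.mem
theorem exists_famB (hy : Hyp G Ω) (hp2 : p ≠ 2) (hb : Big G Ω p) (hz : Zi a z) (hd : d ≠ a)
    (h : p ∣ (𝐂[z]).relIndex (St3 G a d (z • d))) : ∃ b X, FamB p a b X z := by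
  obtain ⟨T0, hT0, h0⟩ := (hz.oc_St3 hd).exists_syl p
  obtain ⟨T, -, hT⟩ := Finite.exists_le_maximal (a := T0) (p := fun T : Subgroup G => IsPGroup p T ∧
    z ∈ 𝐍(T) ∧ ¬ T ≤ 𝐂[z] ∧ ∃ d, d ≠ a ∧ T ≤ St3 G a d (z • d)) ⟨hT0.isPGroup, h0, by
      rw [← relIndex_eq_one, (hz.oc_St3 hd).relIndex_syl hT0 h0]
      exact (Nat.one_lt_pow (hp.out.factorization_pos_of_dvd (relIndex_pos _ _).ne' h).ne'
        hp.out.one_lt).ne', d, hd, hT0.le⟩
  obtain ⟨h1, h2, h3, c, hc, h4⟩ := hT.prop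
  have h5 : T ≤ St G a := h4.trans (St3_le_St _ _ _)
  have key : ∀ d, d ≠ a → T ≤ St G d → ¬ 𝐍(T) ⊓ St2 G d (z • d) ≤ St G a := fun d hd h6 h7 => by
    have h8 := le_St3_of_norm h5 h6 h2
    obtain ⟨S, hS, h9, h10⟩ := (hz.oc_St3 hd).exists_syl_ge h1 h8 h2
    rw [← le_antisymm h9 (hT.le_of_ge ⟨hS.isPGroup, h10, fun e => h3 (h9.trans e), d, hd, hS.le⟩
      h9)] at hS
    rcases hb d (z • d) a T (hz.smul_ne hd) (Syl.of_normalizer_le hS (St3_le_St2' _ _ _)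
      (by rw [← St2_inf_St, inf_comm]; exact le_inf inf_le_right h7)) h5 with e | e
    exacts [hd e.symm, hz.smul_ne' hd e.symm]
  have h6 : ¬ 𝐍(T) ≤ St G a := fun e =>
    key c hc (h4.trans (inf_le_left.trans inf_le_right)) (inf_le_left.trans e)
  have h7 := le_kr_of_nrm (nrm_normalizer T) h5
  obtain ⟨b, ho, hne⟩ := exists_orb_ne h6
  refine ⟨b, _, hne, hy.norm_ne_top (by rintro rfl; exact h3 bot_le) h5, h2, hz, ?_, ho, T,
    le_core ⟨h7, kr_le _ _⟩ (odd_iff_piG.1 (odd_of_isPGroup hp2 h1)), h1, h2, h3⟩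
  by_contra hr
  have hO := core_nrm {2}ᶜ 𝐍(T)
  obtain ⟨d, h8, h9, h10⟩ := exists_fix_commutator hz (odd_core _) (hO.norm h2)
    (core_not_le hr hz h2 h6)
  have h11 := h8.mono hO.le
  have h12 : 𝐍(T) ⊓ St2 G a d ≤ 𝐍(T) ⊓ St2 G d (z • d) := fun g hg => by
    have h13 := conj_mul_mem_core hr hz.gd h2 hg.1
    have h14 : (g * z * g⁻¹ * z) • d = d := h10 (mem_commutator_of_inv
      (mem_inf.2 ⟨h13, mul_mem (hz.conj_of_fix hg.2.1).fix hz.fix⟩) (mem_zpowers z)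
      (BS.odd_orderOf (odd_core _) h13) (inv_conj_mul hz.ord g))
    refine ⟨hg.1, hg.2.2, ?_⟩
    change g • z • d = z • d
    rw [mul_smul, smul_eq_iff_eq_inv_smul, inv2 (ord2_conj hz.ord g), mul_smul, mul_smul,
      show g⁻¹ • d = d from inv_smul_eq_iff.2 hg.2.2.symm] at h14
    exact h14.symm
  refine key d h9 (h7.trans (kr_le_St h11)) ?_
  rw [← eq_of_le_of_card_le h12 (card_St2_eq hz h2 h9 h11).le]
  exact inf_le_right.trans inf_le_left
omit hp in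
theorem partIIb (h : Hyp G Ω) (hc : ¬ Conf G Ω) (hb : BigAll G Ω) : I1 G Ω := by
  intro a d z hz hd
  by_contra h1
  obtain ⟨p, hp, h2⟩ := Nat.exists_prime_and_dvd (relIndex_eq_one.not.2 h1)
  have := Fact.mk hp
  have h3 : p ∣ mI (⊤ : Subgroup G) a := h.relIndex_mul hz hd ▸ h2.mul_left _
  obtain ⟨b, X0, h4⟩ := exists_famB h (h.ne_two h3) (hb p a hp h3) hz hd h2
  obtain ⟨X, ⟨z1, h5⟩, h6⟩ := Set.exists_max_image {X | ∃ z, FamB p a b X z}
    (fun X => (♯(X ⊓ St2 G a b : Subgroup G)).factorization p) (Set.toFinite _) ⟨X0, z, h4⟩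
  obtain ⟨R, hR⟩ := exists_syl p (X ⊓ St2 G a b)
  obtain ⟨z2, h7⟩ := h5.step h (h.ne_two h3) hR
  have h8 : R ≤ 𝐍(zj R) ⊓ St2 G a b := le_inf (le_norm_zj R) (hR.le.trans inf_le_right)
  refine hc (h7.conf h (h.ne_two h3) (Syl.of_normalizer_le ⟨h8, hR.isPGroup,
    not_dvd_relIndex_of_factorization h8 ((h6 _ ⟨z2, h7⟩).trans (Syl.factorization_eq hR).ge)⟩
    inf_le_right ?_) (h5.ne_bot hR))
  rw [inf_comm]
  exact inf_le_inf_right _ (normalizer_le_normalizer_zj R)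

end Cfsg.Agent.ZD
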