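import Cfsg.Agent.ZD.Z2

/-! Theorem ZD, step C: Sylow subgroups of two-point stabilizers fix only two points. -/

set_option autoImplicit false
set_option linter.unusedSectionVars false

namespace Cfsg.Agent.ZD

open Subgroup FT MulAction BS

universe u v

variable {G : Type u} [Group G] [Finite G] {Ω : Type v} [MulAction G Ω]
variable {N Y T S R P O : Subgroup G} {a b c d x y : Ω} {z t u v o g : G} {p : ℕ}

section plain
variable [hp : Fact p.Prime]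

theorem syl_top_of_not_three (hp2 : p ≠ 2) (hT : Syl p T (St2 G a b)) (h : ¬ Three Ω T) :
    Syl p T ⊤ :=
  H1.isSylowIn_of_maximal hT.isPGroup le_top fun _ h1 h2 _ =>
    have h3 := fun (x : Ω) => le_stab_of_not_three (a := x) h1.isNilpotent (odd_of_isPGroup hp2 h1)
      h2 h
    hT.eq_of_le h1 h2 (le_inf (h3 a (hT.le.trans inf_le_left)) (h3 b (hT.le.trans inf_le_right)))
theorem _root_.Cfsg.Agent.BS.Big.not_three (h : Big G Ω p) (hb : b ≠ a)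
    (hT : Syl p T (St2 G a b)) : ¬ Three Ω T := fun h3 =>
  let ⟨c, h1, h2, h4⟩ := h3.exists_ne2 a b; (h a b c T hb hT h4).elim h1 h2
theorem _root_.Cfsg.Agent.BS.Big.syl_top (h : Big G Ω p) (hp2 : p ≠ 2) (hb : b ≠ a)
    (hT : Syl p T (St2 G a b)) : Syl p T ⊤ := syl_top_of_not_three hp2 hT (h.not_three hb hT)
theorem _root_.Cfsg.Agent.BS.Big.two (h : Big G Ω p) (hp2 : p ≠ 2) : Two G Ω := by
  intro a b c hb hc
  obtain ⟨P, hP⟩ := exists_syl p (St2 G a b)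
  obtain ⟨P', hP'⟩ := exists_syl p (St2 G a c)
  obtain ⟨g, hg, e⟩ := ((h.syl_top hp2 hc hP').of_le (hP'.le.trans inf_le_left)
    le_top).exists_cj_eq ((h.syl_top hp2 hb hP).of_le (hP.le.trans inf_le_left) le_top)
  exact ⟨g, hg, (h a c _ P' hc hP' (e ▸ cj_le_stab (hP.le.trans inf_le_right) g)).resolve_left
    fun e1 => hb (smul_left_cancel g (e1.trans (Eq.symm hg)))⟩
/-- a normal `p`-subgroup of a point stabilizer fixes every point -/
theorem _root_.Cfsg.Agent.BS.Big.le_St (h : Big G Ω p) (hp2 : p ≠ 2) (hT : IsPGroup p T)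
    (hn : T ⊴ St G a) (b : Ω) : T ≤ St G b := by
  by_cases hab : b = a
  · exact hab ▸ hn.le
  obtain ⟨P, hP⟩ := exists_syl p (St2 G a b)
  exact (Syl.le_of_normalizes ((h.syl_top hp2 hab hP).of_le (hP.le.trans inf_le_left) le_top)
    hT hn.le ((hP.le.trans inf_le_left).trans hn.norm)).trans (hP.le.trans inf_le_right)
theorem maxThree_big (hT : MaxThree Ω p T) (hp2 : p ≠ 2) (hc : T ≤ St G c)
    (hd : T ≤ St G d) (h : ¬ Syl p T (St2 G c d)) :
    ∃ R, Syl p R 𝐍(T) ∧ R ≤ St G c ∧ R ≤ St G d ∧ ¬ Three Ω R := by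
  obtain ⟨P, hP, h1⟩ := exists_syl_ge hT.pg (le_inf hc hd)
  have h2 := lt_inf_normalizer hP.isPGroup.isNilpotent (lt_of_le_of_ne h1 fun e => h (e ▸ hP))
  have h3 := isPGroup_of_le (inf_le_left : P ⊓ 𝐍(T) ≤ P) hP.isPGroup
  have h4 : ¬ Three Ω (P ⊓ 𝐍(T)) := fun e => h2.ne' (hT.max _ h3 h2.le e)
  obtain ⟨R, hR, h5⟩ := exists_syl_ge h3 inf_le_right
  have h6 := fun (x : Ω) (hx : P ≤ stabilizer G x) => le_stab_of_not_three
    hR.isPGroup.isNilpotent (odd_of_isPGroup hp2 hR.isPGroup) h5 h4 (inf_le_left.trans hx)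
  exact ⟨R, hR, h6 c (hP.le.trans inf_le_left), h6 d (hP.le.trans inf_le_right),
    fun e => h4 (e.anti h5)⟩
/-- an odd normal subgroup of `N` does not fuse the two fixed points of a Sylow subgroup -/
theorem fix_of_syl_not_three (hp2 : p ≠ 2) (hO : O ⊴ N) (ho : Odd ♯O) (hR : Syl p R N)
    (h3 : ¬ Three Ω R) (h1 : o ∈ O) (hx : R ≤ St G x) (hy : R ≤ St G (o • x)) : o • x = x := by
  by_contra h0
  have hY : O ⊔ R ≤ N := sup_le hO.le hR.le
  have hR' : Syl p R ((O ⊔ R) ⊓ St G x) := hR.of_le (le_inf le_sup_right hx) (inf_le_left.trans hY)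
  have h4 : cj o⁻¹ R ≤ (O ⊔ R) ⊓ St G x := le_inf
    (cj_le_of_le (inv_mem (mem_sup_left h1)) le_sup_right) (by simpa using cj_le_stab hy o⁻¹)
  obtain ⟨n, hn, e⟩ := hR'.exists_cj_le (isPGroup_cj _ hR.isPGroup) h4
  rw [← cj_mul] at e
  have h5 : n * o⁻¹ ∈ 𝐍(R) := mem_normalizer_of_cj_le e
  have h6 : (n * o⁻¹) • o • x = x := by rw [mul_smul, inv_smul_smul]; exact hn.2
  have h7 : (n * o⁻¹) • x = o • x := eq_of_not_three h3 (Ne.symm h0) hx hy (le_stab_smul hx h5)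
    fun e => h0 (smul_left_cancel _ (h6.trans e))
  have h8 := smul_eq_of_odd (a := x) (BS.odd_orderOf (odd_sup ho (odd_of_isPGroup hp2 hR.isPGroup)
    (hR.le.trans hO.norm)) (mul_mem hn.1 (inv_mem (mem_sup_left h1)))) (by rw [h7, h6])
  exact h0 (h7.symm.trans h8)

end plain

variable [hZ : ZG G]

/-- an element of the coset `O v` fixes a point: so does a conjugate of `v` -/
theorem exists_gd_fix (hO : O ⊴ N) (ho : Odd ♯O) (hv : Gd v) (hN : v ∈ N) (h1 : o ∈ O)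
    (h2 : (o * v) • x = x) : ∃ u ∈ N, Gd u ∧ u • x = x := by
  have h3 : o * v * (o * v) ∈ O := by
    have := mul_mem h1 (hO.conj_mem hN h1)
    rwa [hv.inv, ← mul_assoc, ← mul_assoc, mul_assoc (o * v)] at this
  obtain ⟨j, hj⟩ := BS.odd_orderOf ho h3
  have h4 : (o * v) ^ (2 * j + 1) * v ∈ O := by
    rw [pow_succ, pow_mul, pow_two, mul_assoc, mul_assoc o v v, hv.sq, mul_one]
    exact mul_mem (pow_mem h3 j) h1
  have h5 : orderOf ((o * v) ^ (2 * j + 1)) = 2 := ord2 (by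
    rw [← (Commute.refl _).mul_pow, ← hj, pow_orderOf_eq_one]) fun e => by
      rw [e, one_mul] at h4
      exact not_odd_of_ord2 hv.ord h4 ho
  have h6 := hO.conj_mem hN h4
  rw [mul_assoc, mul_assoc, mul_inv_cancel, mul_one] at h6
  obtain ⟨k, e, -⟩ := exists_conj_of_odd hv.ord h5 (BS.odd_orderOf ho h6)
  exact ⟨_, pow_mem (mul_mem (hO.le h1) hN) _, e ▸ hv.conj _,
    pow_mem (show _ ∈ stabilizer G x from h2) _⟩

/-- `t` moves `T` as much as possible -/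
structure Bad (a : Ω) (p : ℕ) (T : Subgroup G) (t : G) : Prop where
  pg : IsPGroup p T
  gd : Gd t
  norm : t ∈ 𝐍(T)
  dvd : p ^ (mI (⊤ : Subgroup G) a).factorization p ∣ (𝐂[t]).relIndex T

variable [hG : ZF G Ω] [hp : Fact p.Prime]

theorem Bad.mono (h : Bad a p T t) (hS : IsPGroup p S) (h1 : T ≤ S) (h2 : t ∈ 𝐍(S)) : Bad a p S t :=
  ⟨hS, h.gd, h2, pow_dvd_relIndex_mono hS h1 h.dvd⟩
theorem Hyp.exists_bad (h : Hyp G Ω) (a : Ω) (hd : d ≠ c) (hT : Syl p T (St2 G c d)) :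
    ∃ t, Bad a p T t := by
  obtain ⟨t, h1, h2, h3⟩ := h.exists_swap_norm hd hT
  exact ⟨t, hT.isPGroup, h2, h1, by
    rw [(oc_St2 h2 h3 hd).relIndex_syl hT h1, h.relIndex_swap h2 h3 hd a]⟩
/-- (B2) -/
theorem Bad.not_fix (hB : Bad a p T t) (h : Hyp G Ω) (h3 : P3 G Ω p) (hxy : x ≠ y)
    (hx : T ≤ St G x) (hy : T ≤ St G y) (hu : Gd u) (hn : u ∈ 𝐍(T)) (hc : T ≤ St G c) :
    u • c ≠ c := by
  have key : ∀ t, Bad a p T t → t • c ≠ c := fun t hB e => by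
    obtain ⟨d, h1, h2⟩ : ∃ d, d ≠ c ∧ T ≤ St G d := by
      by_cases e : x = c
      exacts [⟨y, e ▸ hxy.symm, hy⟩, ⟨x, e, hx⟩]
    exact h3 c d t T ⟨hB.gd, e⟩ h1 hB.pg (le_inf (le_inf hc h2) (le_stab_smul h2 hB.norm)) hB.norm
      (h.mI_eq a c ▸ hB.dvd)
  intro e
  obtain ⟨w, -, rfl, h1⟩ := exists_swap hu hB.gd e (key t hB)
  exact key u ⟨hB.pg, hu, hn, relIndex_cent1_conj (h1 _ hn hB.norm) u ▸ hB.dvd⟩ e
theorem Bad.not_rk2 (hB : Bad a p T t) (h : Hyp G Ω) (h3 : P3 G Ω p) (hxy : x ≠ y)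
    (hx : T ≤ St G x) (hy : T ≤ St G y) : ¬ Rk2 𝐍(T) := fun hr =>
  let ⟨_, hc⟩ := exists_zi Ω hB.gd
  hB.not_fix h h3 hxy hx hy hB.gd hB.norm (hr.le_St hc hB.norm
    (odd_of_isPGroup (h.ne_two (h3.dvd h a)) hB.pg) le_rfl) hc.fix
theorem Bad.not_maxThree (hB : Bad a p T t) (h : Hyp G Ω) (h3 : P3 G Ω p) : ¬ MaxThree Ω p T := by
  intro hT
  have hp2 := h.ne_two (h3.dvd h a)
  obtain ⟨x, y, w, h1, h2, h4, hx, hy, hw⟩ := hT.three
  have h0 := fun u c => hB.not_fix (u := u) (c := c) h h3 h1 hx hy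
  have hf := hB.not_rk2 h h3 h1 hx hy
  have hO := core_nrm {2}ᶜ 𝐍(T)
  have htriv : ∀ (x : Ω) (o : G), T ≤ St G x → o ∈ core {2}ᶜ 𝐍(T) → o • x = x := by
    intro x o hx ho
    have hy := le_stab_smul hx (hO.le ho)
    by_contra h1
    by_cases hs : Syl p T (St2 G x (o • x))
    · obtain ⟨v, v1, v2, v3⟩ := h.exists_swap_norm h1 hs
      obtain ⟨u, u1, u2, u3⟩ := exists_gd_fix (x := x) hO (odd_core _) v2 v1 (inv_mem ho)
        (by rw [mul_smul, v3, inv_smul_smul])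
      exact h0 u x u2 u1 hx u3
    · obtain ⟨R, r1, r2, r3, r4⟩ := maxThree_big hT hp2 hx hy hs
      exact h1 (fix_of_syl_not_three hp2 hO (odd_core _) r1 r4 ho r2 r3)
  have key : ∀ y : Ω, x ≠ y → T ≤ St G y → t • x = y := fun y h1 hy => by
    by_cases hs : Syl p T (St2 G x y)
    · obtain ⟨v, v1, v2, v3⟩ := h.exists_swap_norm h1.symm hs
      rw [← htriv y _ hy (mul_mem_core hf hB.gd hB.norm v2 v1), mul_smul, ← v3, smul_smul2 v2.ord]
    obtain ⟨R, r1, r2, r3, r4⟩ := maxThree_big hT hp2 hx hy hs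
    refine eq_of_not_three r4 h1 r2 r3 (fun r hr => ?_) fun e => h0 t x hB.gd hB.norm hx e.symm
    have := htriv _ _ (le_stab_smul hx hB.norm) (conj_mul_mem_core hf hB.gd hB.norm (r1.le hr))
    rwa [mul_smul, smul_smul2 hB.gd.ord, mul_smul, mul_smul,
      mem_stabilizer_iff.1 (inv_mem (r2 hr))] at this
  exact h4 ((key y h1 hy).symm.trans (key w h2 hw))
/-- case A -/
theorem Bad.not_three (hB : Bad a p T t) (h : Hyp G Ω) (h3 : P3 G Ω p) (hd : d ≠ c)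
    (hP : Syl p P (St2 G c d)) (hP3 : ¬ Three Ω P) : ¬ Three Ω T := by
  intro hT
  have hp2 := h.ne_two (h3.dvd h a)
  have hP' := syl_top_of_not_three hp2 hP hP3
  obtain ⟨T, -, ⟨⟨t, hB⟩, hT⟩, hmax⟩ := Finite.exists_le_maximal
    (p := fun X : Subgroup G => (∃ t, Bad a p X t) ∧ Three Ω X) ⟨⟨t, hB⟩, hT⟩
  obtain ⟨x, y, -, hxy, -, -, hx, hy, -⟩ := id hT
  obtain ⟨R, hR, hn⟩ := (oc_of_not_rk2 (hB.not_rk2 h h3 hxy hx hy) hB.gd hB.norm le_rfl
    (le_normalizer hB.norm)).exists_syl p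
  have h1 : T ≤ R := hR.le_of_normalizes hB.pg le_normalizer hR.le
  have hB' := hB.mono hR.isPGroup h1 hn
  obtain ⟨g, -, h2⟩ := hP'.exists_le_cj hR.isPGroup le_top
  have h4 : ¬ Three Ω R := fun e => by
    have e1 := le_antisymm h1 (hmax ⟨⟨t, hB'⟩, e⟩ h1)
    rw [← e1] at hR
    obtain ⟨g, -, e2⟩ := hP'.exists_cj_eq (hR.of_normalizer_le le_top inf_le_right)
    exact hP3 (e2 ▸ hT.cj g)
  have hc := h2.trans (cj_le_stab (hP.le.trans inf_le_left) g)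
  have hd' := h2.trans (cj_le_stab (hP.le.trans inf_le_right) g)
  have hne : g • c ≠ g • d := fun e => hd (smul_left_cancel g e).symm
  have h5 : t • g • c = g • d := eq_of_not_three h4 hne hc hd' (le_stab_smul hc hn)
    (hB'.not_fix h h3 hne hc hd' hB.gd hn hc).symm
  have h6 := (oc_St2 hB.gd h5 hne.symm).relIndex_dvd hR.isPGroup (le_inf hc hd') hn
  rw [h.relIndex_swap hB.gd h5 hne.symm a] at h6
  obtain ⟨n, e⟩ := (piNum_singleton_iff hp.out (relIndex_pos 𝐂[t] R).ne').1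
    ((piG_singleton_iff.2 hR.isPGroup).relIndex 𝐂[t])
  have h7 : (𝐂[t]).relIndex R ≤ (𝐂[t]).relIndex T := by
    rw [e] at h6 ⊢
    exact Nat.le_of_dvd (relIndex_pos _ _) ((pow_dvd_pow p ((hp.out.pow_dvd_iff_le_factorization
      (h.mI_pos a).ne').1 h6)).trans hB.dvd)
  have h8 : ∀ X, T ≤ X → X ≤ R → t ∈ 𝐍(X) := fun X b1 b2 =>
    H1.mem_normalizer_of_conj_mem fun s hs => by
    obtain ⟨r, hr, k, hk, rfl⟩ := le_sup_of_relIndex_le h1 h7 (b2 hs)
    rw [mul_assoc, mul_assoc, (show Commute k t from mem_cent1_iff.1 hk).inv_right.eq, ← mul_assoc,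
      ← mul_assoc]
    exact mul_mem (b1 (conj_mem_of_mem_normalizer hB.norm hr)) ((X.mul_mem_cancel_left (b1 hr)).1 hs)
  refine hB.not_maxThree h h3 ⟨hB.pg, hT, fun X b1 b2 b3 => ?_⟩
  by_contra b4
  have c1 := lt_inf_normalizer b1.isNilpotent (lt_of_le_of_ne b2 (Ne.symm b4))
  have c2 := isPGroup_of_le (inf_le_left : X ⊓ 𝐍(T) ≤ X) b1
  obtain ⟨k, hk, c3⟩ := hR.exists_cj_le c2 inf_le_right
  have c4 : T ≤ cj k (X ⊓ 𝐍(T)) := (cj_eq_iff_mem_normalizer.2 hk).ge.trans (cj_mono k c1.le)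
  have c5 := card_le_of_le (hmax ⟨⟨t, hB.mono (isPGroup_cj k c2) c4 (h8 _ c4 c3)⟩,
    (b3.anti inf_le_left).cj k⟩ c4)
  rw [card_cj] at c5
  exact (card_lt_of_lt c1).not_ge c5
omit hp in
theorem stepC (h : Hyp G Ω) (hp : p.Prime) (h3 : P3 G Ω p) : Big G Ω p := by
  haveI := Fact.mk hp
  intro c d x S hd hS hx
  by_contra h1
  push Not at h1
  have h2 : Three Ω S := ⟨c, d, x, hd.symm, h1.1.symm, h1.2.symm, hS.le.trans inf_le_left,
    hS.le.trans inf_le_right, hx⟩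
  obtain ⟨T, hT, -⟩ := exists_maxThree hS.isPGroup h2
  obtain ⟨a, b, -, hab, -, -, ha, hb, -⟩ := id hT.three
  obtain ⟨P, hP, h4⟩ := exists_syl_ge hT.pg (le_inf ha hb)
  by_cases h5 : Three Ω P
  · rw [hT.max P hP.isPGroup h4 h5] at hP
    obtain ⟨t, ht⟩ := h.exists_bad c hab.symm hP
    exact ht.not_maxThree h h3 hT
  · obtain ⟨t, ht⟩ := h.exists_bad c hd hS
    exact ht.not_three h h3 hab.symm hP h5 h2

end Cfsg.Agent.ZD
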