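import Cfsg.Agent.ZD.ZIII
import Cfsg.Agent.ZD.ZK
import Cfsg.Agent.ZD.ZC
import Cfsg.Agent.BS.RedCH

/-! Theorem ZD, part IV (port of `BS/RedIV`). -/

set_option autoImplicit false
set_option linter.unusedSectionVars false

namespace Cfsg.Agent.ZD

open Subgroup FT MulAction BS

universe u v

variable {G : Type u} [Group G] [Finite G] [ZG G] {Ω : Type v} [MulAction G Ω] [hG : ZF G Ω]
variable {A E D K Y R : Subgroup G} {a b c : Ω} {z t k y v : G} {p : ℕ}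

theorem Hyp.comm_of (h : Hyp G Ω) (h1 : ∀ z z' : G, Zi a z → Zi a z' → z * z' = z' * z) :
    Comm G Ω := fun c z z' hz hz' => by
  obtain ⟨g, -, rfl⟩ := h.orb c a
  simpa using h1 _ _ (hz.conj g) (hz'.conj g)
theorem Hyp.not_kk (h : Hyp G Ω) (hn : ¬ Comm G Ω) : ¬ ∃ K : Subgroup G, K ≠ ⊥ ∧ KK K a :=
  fun ⟨_, h0, hK⟩ => hn (h.comm_of fun _ _ hz hz' => hK.comm h0 (fun _ _ hu hw =>
    let ⟨g, e1, e2⟩ := h.exists_conj_zi hu hw; ⟨g, e1, e2⟩) hz hz')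
theorem Hyp.V_eq (h : Hyp G Ω) (ht : Gd t) (hb : t • a ≠ a) (hz : Zi a z)
    (h1 : So G a (t • a) ⊓ 𝐂[t] ≤ 𝐂[z]) : So G a (t • a) ⊓ 𝐂[t] = So G a (t • a) ⊓ 𝐂[z] := by
  refine eq_of_le_of_card_le (le_inf inf_le_left h1) (le_of_eq ?_)
  have h2 := card_inf_mul_relIndex 𝐂[z] (So G a (t • a))
  rw [← card_inf_mul_relIndex 𝐂[t] (So G a (t • a)), h.relIndex_swap_So ht rfl hb a,
    h.relIndex_fix_So hz hb a, inf_comm, inf_comm 𝐂[t]] at h2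
  exact Nat.eq_of_mul_eq_mul_right (h.mI_pos a) h2

/-- the good involutions at `a` centralizing a subgroup of `V` -/
theorem exists_GL1 (h : Hyp G Ω) (h1 : I1 G Ω) (ht : Gd t) (hb : t • a ≠ a) (hz : Zi a z)
    (hV : So G a (t • a) ⊓ 𝐂[t] = So G a (t • a) ⊓ 𝐂[z]) (hY : Y ≤ St G a) (a1 : t ∈ 𝐂(Y))
    (a2 : z ∈ 𝐂(Y)) (h0 : Y ≠ ⊥) (hk : k ∈ So G a (t • a)) (h2 : k ≠ 1) (h3 : t * k * t⁻¹ = k⁻¹)
    (h4 : k ∈ 𝐂(Y)) : ∃ E, GL1 E (𝐂(Y) ⊓ So G a (t • a)) t z := by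
  have a3 := not_le_St a1 hb
  have a4 : ¬ k * z = z * k := fun e => h2 (eq_one_of_inv_of_zi hz ht hb hk h3 e)
  have a5 := h.bt (h.ne_top_of_le_norm h0 hY (cent_le_norm Y)) (by_contra fun e =>
      a4 (mem_cent1_iff.1 (h1.le_cent_of_not_rk2 a3 hz a2 e ⟨h4, So_le_St _ _ hk⟩))) hz a2 a3
  have a6 : ∀ u, (u = 1 ∨ u ∈ 𝐂(Y) ∧ Zi a u) → u * u = 1 := by
    rintro u (rfl | ⟨-, hu⟩)
    exacts [one_mul _, sq1 hu.ord]
  let E : Subgroup G :=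
    { carrier := {u | u = 1 ∨ u ∈ 𝐂(Y) ∧ Zi a u}
      one_mem' := Or.inl rfl
      inv_mem' := fun {u} hu => by rwa [inv_eq_of_mul_eq_one_right (a6 u hu)]
      mul_mem' := by
        rintro u w (rfl | hu) hw
        · rwa [one_mul]
        rcases hw with rfl | hw
        · exact Or.inr (by rwa [mul_one])
        by_cases e : u = w
        · exact Or.inl (e ▸ sq1 hu.2.ord)
        · exact Or.inr ⟨mul_mem hu.1 hw.1, hu.2.mul hw.2 e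
            (h1.comm_of_bt a5 a3 hw.2 hw.1 hu.2 hu.1)⟩ }
  refine ⟨E, ⟨comm_iff_le_cent.2 fun x hx => mem_cent_iff.2 fun y hy => comm_of_sq a6 hy hx,
    fun x hx => by rw [pow_two, a6 x hx]⟩, odd_of_le inf_le_right (odd_So _ _),
    le_normalizer_of_conj_mem ?_, ht.sq, mem_norm_inf (le_normalizer a1) (mem_norm_So ht rfl),
    Or.inr ⟨a2, hz⟩, ne1 hz.ord, by rw [inf_assoc 𝐂(Y), inf_assoc 𝐂(Y), hV], fun y hy e => ?_,
    ⟨_, Or.inr ⟨mul_mem (mul_mem h4 a2) (inv_mem h4), hz.conj_of_fix (So_le_St _ _ hk)⟩,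
      ne1 (ord2_conj hz.ord k), fun e => a4 (mul_inv_eq_iff_eq_mul.1 e)⟩⟩
  · rintro g hg u (rfl | hu)
    · simp
    · exact Or.inr ⟨mul_mem (mul_mem hg.1 hu.1) (inv_mem hg.1), hu.2.conj_of_fix (So_le_St _ _ hg.2)⟩
  · have hy' := (show _ ∨ _ from hy).resolve_left e
    obtain ⟨d, hd, e⟩ := exists_conj_So hz a2 hy'.2 hy'.1 hb ⟨t, a1, rfl⟩
    exact ⟨d, ⟨(core_le _ _ hd.1).1, hd.2⟩, e⟩

/-- (U) -/
theorem kk_of_cent (h : Hyp G Ω) (h1 : I1 G Ω) (ht : Gd t) (hb : t • a ≠ a) (hz : Zi a z)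
    (hV : So G a (t • a) ⊓ 𝐂[t] = So G a (t • a) ⊓ 𝐂[z]) (hA : A ≤ So G a (t • a))
    (hn : So G a (t • a) ≤ 𝐍(A)) (h0 : A ⊓ 𝐂[t] ≠ ⊥) (hk : k ∈ So G a (t • a)) (h2 : k ≠ 1)
    (h3 : t * k * t⁻¹ = k⁻¹) (h4 : k ∈ 𝐂(A ⊓ 𝐂[t]))
    (h5 : ∀ k ∈ So G a (t • a), t * k * t⁻¹ = k⁻¹ → k ∈ 𝐂(A ⊓ 𝐂[t]) → (∀ l ∈ So G a (t • a),
      t * l * t⁻¹ = l⁻¹ → l ∈ 𝐂(A ⊓ 𝐂[t]) → l * k = k * l) → k ∈ 𝐂(A)) :
    ∃ K : Subgroup G, K ≠ ⊥ ∧ KK K a := by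
  obtain ⟨E, hE⟩ := exists_GL1 h h1 ht hb hz hV ((inf_le_left.trans hA).trans (So_le_St _ _))
    (le_cent1_iff.1 inf_le_right)
    (le_cent1_iff.1 (((inf_le_inf_right _ hA).trans hV.le).trans inf_le_right)) h0 hk h2 h3 h4
  have a1 : ∀ k ∈ GK (𝐂(A ⊓ 𝐂[t]) ⊓ So G a (t • a)) t, ∀ z, Zi a z → k * z = z * k → k = 1 :=
    fun k hk z hz => eq_one_of_inv_of_zi hz ht hb (GK_le _ _ hk).2 (hE.t_K hk)
  refine ⟨_, hE.K_ne_bot, (GK_le _ t).trans (inf_le_right.trans (So_le_St _ _)), a1,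
    fun z' hz' k hk h6 => ?_⟩
  obtain ⟨d, hd, rfl⟩ := h.exists_conj_So hz hz' hb
  have a2 : cj d⁻¹ (GK (𝐂(A ⊓ 𝐂[t]) ⊓ So G a (t • a)) t) ≤ 𝐂(A ⊓ 𝐂[t]) ⊓ So G a (t • a) :=
    fun x hx => by
      rw [mem_cj, inv_inv] at hx
      have a3 := GK_le _ _ hx
      have a4 := h5 _ a3.2 (hE.t_K hx) a3.1 fun l b1 b2 b3 => hE.K_comm (hE.mem_K.2 ⟨⟨b3, b1⟩, b2⟩) hx
      have := (nrm_inf_centralizer hn).conj_mem' hd ⟨a3.2, a4⟩
      rw [show d⁻¹ * (d * x * d⁻¹) * d = x by group] at this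
      exact ⟨cent_anti inf_le_left this.2, this.1⟩
  have a3 : d⁻¹ * k * d ∈ cj d⁻¹ (GK (𝐂(A ⊓ 𝐂[t]) ⊓ So G a (t • a)) t) := by
    rw [mem_cj]; simpa [mul_assoc] using hk
  have a4 : ∀ x ∈ cj d⁻¹ (GK (𝐂(A ⊓ 𝐂[t]) ⊓ So G a (t • a)) t), x * z = z * x → x = 1 :=
    fun x hx e => by
      rw [mem_cj, inv_inv] at hx
      simpa using a1 _ hx _ hz' (conj_comm d e)
  obtain ⟨l, hl, e⟩ := hE.trans_of_card a2 (card_cj _ _) a4
    (mul_mem hE.zE (conj_mem_of_mem_normalizer (hE.norm (a2 a3)) hE.zE)) fun e => h6 (by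
      have := a4 _ a3 (by
        rwa [mul_eq_one_iff_inv_eq, inv2 hz.ord, eq_mul_inv_iff_mul_eq, eq_comm] at e)
      rw [show k = d * (d⁻¹ * k * d) * d⁻¹ by group, this]; group)
  rw [mem_cj, inv_inv] at hl
  refine ⟨_, hl, ?_⟩
  calc _ = d * (z * (d⁻¹ * k * d * z * (d⁻¹ * k * d)⁻¹)) * d⁻¹ := by group
    _ = _ := by rw [← e]; group

/-- `K = [D, t]` is abelian and inverted by `t` -/
theorem exists_K (h : Hyp G Ω) (hc : ¬ Conf G Ω) (h1 : I1 G Ω) (h4 : C4 G Ω) (hn : ¬ Comm G Ω)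
    (ht : Gd t) (hb : t • a ≠ a) : IsMulCommutative ↥⁅So G a (t • a), zpowers t⁆ ∧
      ∀ k ∈ ⁅So G a (t • a), zpowers t⁆, t * k * t⁻¹ = k⁻¹ := by
  obtain ⟨z, hz, hV⟩ := h4.exists_V h ht hb
  have a1 := h.not_kk (a := a) hn
  have a2 := odd_So (G := G) a (t • a)
  have a3 := mem_norm_So ht (rfl : t • a = _)
  have a4 : ∀ A ≤ So G a (t • a), So G a (t • a) ≤ 𝐍(A) → t ∈ 𝐍(A) → IsMulCommutative A →
      ∀ x ∈ A, t * x * t⁻¹ = x⁻¹ := fun A b1 b2 b3 b4 x hx => by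
    have b5 := odd_of_le b1 a2
    have b6 := comm_iff_le_cent.1 b4
    by_cases h0 : A ⊓ 𝐂[t] = ⊥
    · obtain ⟨c, hc, y, -, e, rfl⟩ := exists_cent_mul_inverted b5 ht.ord b3 hx
      rwa [mem_bot.1 (h0.le hc), one_mul]
    by_cases h2 : A ≤ 𝐂[t]
    · exact absurd (le_St_of_not_conf hc hb (h.norm_ne_top (ne_bot_of_le inf_le_left h0)
        (b1.trans (So_le_St _ _))) b2 hz (cent_le_norm A (le_cent1_iff.1
          (((le_inf b1 h2).trans hV.le).trans inf_le_right)))) (not_le_St b3 hb)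
    obtain ⟨x, hx, h3⟩ := SetLike.not_le_iff_exists.1 h2
    obtain ⟨c, hc, y, hy, e, rfl⟩ := exists_cent_mul_inverted b5 ht.ord b3 hx
    refine absurd (kk_of_cent h h1 ht hb hz hV b1 b2 h0 (b1 hy) (by
      rintro rfl; exact h3 (by rw [mul_one]; exact hc.2)) e (cent_anti inf_le_left (b6 hy))
      fun k _ _ c3 c4 => mem_cent_iff.2 fun x hx => ?_) a1
    obtain ⟨c, hc, y, hy, e, rfl⟩ := exists_cent_mul_inverted b5 ht.ord b3 hx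
    rw [mul_assoc, c4 y (b1 hy) e (cent_anti inf_le_left (b6 hy)), ← mul_assoc,
      mem_cent_iff.1 c3 c hc, mul_assoc]
  have h0 : IsMulCommutative ↥⁅So G a (t • a), zpowers t⁆ := by
    by_contra h0
    obtain ⟨A, b1, b2, -, b4, ⟨k, b5, b6, b7, b8⟩, b9⟩ := exists_inv_sub a2 ht.ord a3 a4 h0
    exact a1 (kk_of_cent h h1 ht hb hz hV b1 b2 b4 b5 b6 b7 (cent_anti inf_le_left b8)
      fun k c1 c2 c3 _ => b9 k c1 c2 c3)
  have a5 := commutator_zpowers_nrm a3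
  exact ⟨h0, a4 _ a5.le a5.norm (mem_norm_commutator_self _ _) h0⟩

/-- the structure of the two-point stabilizer in the last case -/
structure KS (a : Ω) (t : G) (K : Subgroup G) : Prop where
  gd : Gd t
  ne : t • a ≠ a
  nrm : K ⊴ St2 G a (t • a)
  le : K ≤ So G a (t • a)
  comm : IsMulCommutative K
  mem : ∀ k ∈ So G a (t • a), k ∈ K ↔ t * k * t⁻¹ = k⁻¹

theorem exists_KS (h : Hyp G Ω) (hc : ¬ Conf G Ω) (h1 : I1 G Ω) (h4 : C4 G Ω) (hn : ¬ Comm G Ω)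
    (ht : Gd t) (hb : t • a ≠ a) : ∃ K, KS a t K :=
  let ⟨a1, a2⟩ := exists_K h hc h1 h4 hn ht hb
  ⟨_, ht, hb, (oc_St2 ht rfl hb).commutator_core ▸ (oc_St2 ht rfl hb).nrm,
    commutator_zpowers_le_self (mem_norm_So ht rfl), a1, fun k hk => ⟨a2 k,
      mem_commutator_of_inv hk (mem_zpowers t) (BS.odd_orderOf (odd_So _ _) hk)⟩⟩

namespace KS

variable (s : KS a t K)
include s

theorem inv (hk : k ∈ K) : t * k * t⁻¹ = k⁻¹ := (s.mem k (s.le hk)).1 hk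
theorem odd : Odd ♯K := odd_of_le s.le (odd_So _ _)
theorem free (hk : k ∈ K) (hz : Zi a z) (e : k * z = z * k) : k = 1 :=
  eq_one_of_inv_of_zi hz s.gd s.ne (s.le hk) (s.inv hk) e
theorem inj (hz : Zi a z) (hk : k ∈ K) (hy : y ∈ K) (e : k * z * k⁻¹ = y * z * y⁻¹) : k = y :=
  (inv_mul_eq_one.1 (s.free (mul_mem (inv_mem hy) hk) hz (by
    calc _ = y⁻¹ * (k * z * k⁻¹) * k := by group
      _ = _ := by rw [e]; group))).symm
theorem trans (hz : Zi a z) (hy : Zi a y) : ∃ k ∈ K, k * z * k⁻¹ = y :=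
  let ⟨k, b1, b2, b3, b4, b5, _⟩ := exists_inverted_conj hz.gd hy.gd s.gd hz.fix hy.fix s.ne
  ⟨k, (s.mem k (mem_So_of_inv s.gd rfl s.ne ⟨b1, b2⟩ b5 b3)).2 b3, b4⟩
theorem exists_mul (hy : y ∈ St2 G a (t • a)) :
    ∃ v ∈ St2 G a (t • a) ⊓ 𝐂[t], ∃ k ∈ K, y = v * k :=
  let ⟨v, hv, k, hk, e1, e2⟩ := (oc_St2 s.gd rfl s.ne).exists_cent_mul hy
  ⟨v, hv, k, (s.mem k ((oc_St2 s.gd rfl s.ne).le_core hk)).2 e1, e2⟩
theorem card (h : Hyp G Ω) (c : Ω) : ♯K = mI (⊤ : Subgroup G) c := by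
  have h1 := oc_St2 s.gd rfl s.ne
  rw [← h.relIndex_swap s.gd rfl s.ne c, ← card_inf_mul_relIndex 𝐂[t] K,
    show 𝐂[t] ⊓ K = ⊥ from eq_bot_iff.2 fun k hk => eq_one_of_inv_of_cent
      (BS.odd_orderOf s.odd hk.2) (s.inv hk.2) (mem_cent1_iff.1 hk.1), card_bot, one_mul]
  exact le_antisymm (relIndex_le_of_le s.nrm.le) (relIndex_le_of_exists_mul s.nrm.le fun x hx =>
    let ⟨v, hv, k, hk, e⟩ := s.exists_mul (inv_mem hx)
    ⟨k⁻¹, inv_mem hk, v⁻¹, inv_mem hv.2, by rw [← mul_inv_rev, ← e, inv_inv]⟩)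
/-- an element of prime order of `V` and `O(D) ∩ V` are centralized by a good involution at `a` -/
theorem exists_cent (h : Hyp G Ω) (h4 : C4 G Ω) (hv : v ∈ St2 G a (t • a) ⊓ 𝐂[t])
    (hp : (orderOf v).Prime) : ∃ z, Zi a z ∧ v * z = z * v ∧ So G a (t • a) ⊓ 𝐂[t] ≤ 𝐂[z] := by
  have h1 : v ∈ 𝐍(So G a (t • a) ⊓ 𝐂[t]) :=
    mem_norm_inf ((core_nrm _ _).norm hv.1) (le_normalizer hv.2)
  rcases hp.eq_two_or_odd' with e | e
  swap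
  · obtain ⟨c, hc⟩ := exists_zi Ω s.gd
    obtain ⟨z, hz, h2⟩ := h4 a c t _ (odd_sup (odd_of_le inf_le_left (odd_So a (t • a)))
      (by rwa [Nat.card_zpowers]) (zpowers_le.2 h1)) hc (sup_le inf_le_right (zpowers_le.2 hv.2))
      (sup_le (inf_le_left.trans (So_le_St _ _)) (zpowers_le.2 hv.1.1))
    exact ⟨z, hz, mem_cent_iff.1 h2 v (mem_sup_right (mem_zpowers v)),
      le_cent1_iff.2 (cent_anti le_sup_left h2)⟩
  obtain ⟨z, hz, hV⟩ := h4.exists_V h s.gd s.ne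
  obtain ⟨k, hk, e1⟩ := s.trans hz (hz.conj_of_fix hv.1.1)
  have h0 : ∀ g x y : G, g * (x * y * x⁻¹) * g⁻¹ = g * x * g⁻¹ * (g * y * g⁻¹) * (g * x * g⁻¹)⁻¹ :=
    fun g x y => by group
  have h2 : v * k * v⁻¹ = k⁻¹ := by
    refine eq_inv_of_mul_eq_one_left (s.inj hz (mul_mem (s.nrm.conj_mem hv.1 hk) hk) (one_mem K) ?_)
    calc _ = v * k * v⁻¹ * (k * z * k⁻¹) * (v * k * v⁻¹)⁻¹ := by group
      _ = v * (k * z * k⁻¹) * v⁻¹ := by rw [h0 v k z, ← e1]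
      _ = v * v * z * (v * v)⁻¹ := by rw [e1]; group
      _ = _ := by rw [sq1 e]
  have h3 : ∀ w ∈ So G a (t • a) ⊓ 𝐂[t], w * z * w⁻¹ = z := fun w hw => by
    rw [mem_cent1_iff.1 (hV.le hw).2, mul_inv_cancel_right]
  have h5 : ∀ w ∈ So G a (t • a) ⊓ 𝐂[t], w * k * w⁻¹ = k := fun w hw => by
    refine s.inj hz (s.nrm.conj_mem (So_le _ _ hw.1) hk) hk ?_
    conv_lhs => rw [← h3 w hw, ← h0, e1]
    conv_rhs => rw [e1, ← h3 _ (conj_mem_of_mem_normalizer' h1 hw)]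
    group
  obtain ⟨n, hn⟩ := BS.odd_orderOf s.odd hk
  have h6 : k ^ (n + 1) * k ^ (n + 1) = k := by
    rw [← pow_add, show n + 1 + (n + 1) = 2 * n + 1 + 1 by ring, ← hn, pow_succ,
      pow_orderOf_eq_one, one_mul]
  refine ⟨_, hz.conj_of_fix (pow_mem (s.nrm.le hk).1 (n + 1)), mul_inv_eq_iff_eq_mul.1 ?_,
    fun w hw => mem_cent1_iff.2 (mul_inv_eq_iff_eq_mul.1 ?_)⟩
  · rw [h0, ← conj_pow, h2, ← e1, inv_pow]
    generalize k ^ (n + 1) = l at h6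
    rw [← h6]; group
  · rw [h0, ← conj_pow, h5 w hw, h3 w hw]
/-- `D = K V` is a Frobenius group -/
theorem cent (h : Hyp G Ω) (h1 : I1 G Ω) (h4 : C4 G Ω) (hn : ¬ Comm G Ω) (hk : k ∈ K) (b1 : k ≠ 1) :
    St2 G a (t • a) ⊓ 𝐂[k] ≤ K := fun d hd => by
  obtain ⟨v, hv, y, b2, rfl⟩ := s.exists_mul hd.1
  have b3 : v ∈ 𝐂[k] :=
    (mul_mem_cancel_right (cent_le_cent1 hk (comm_iff_le_cent.1 s.comm b2))).1 hd.2
  by_cases b4 : v = 1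
  · rwa [b4, one_mul]
  obtain ⟨q, hq, c1⟩ := Nat.exists_prime_and_dvd (orderOf_eq_one_iff.not.2 b4)
  obtain ⟨w, c2, c3⟩ := exists_orderOf_eq_prime (H := zpowers v) hq (by rwa [Nat.card_zpowers])
  have c4 := zpowers_le.2 hv c2
  obtain ⟨z, hz, c5, c6⟩ := s.exists_cent h h4 c4 (c3 ▸ hq)
  obtain ⟨E, hE⟩ := exists_GL1 h h1 s.gd s.ne hz (h.V_eq s.gd s.ne hz c6) (zpowers_le.2 c4.1.1)
    (le_cent1_iff.1 (zpowers_le.2 c4.2)) (le_cent1_iff.1 (zpowers_le.2 (mem_cent1_iff.2 c5)))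
    (zpowers_ne_bot.2 fun e => hq.one_lt.ne (by rw [← c3, e, orderOf_one])) (s.le hk) b1 (s.inv hk)
    (le_cent1_iff.1 (zpowers_le.2 (zpowers_le.2 b3 c2)))
  have b0 : ∀ k ∈ GK (𝐂(zpowers w) ⊓ So G a (t • a)) t, k ∈ K := fun k hk =>
    (s.mem k (GK_le _ _ hk).2).2 (hE.t_K hk)
  have b5 : ∀ k ∈ GK (𝐂(zpowers w) ⊓ So G a (t • a)) t, ∀ z, Zi a z → k * z = z * k → k = 1 :=
    fun k hk z hz => s.free (b0 k hk) hz
  refine absurd ⟨_, hE.K_ne_bot, (GK_le _ t).trans (inf_le_right.trans (So_le_St _ _)), b5,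
    fun z' hz' k hk h6 => ?_⟩ (h.not_kk hn)
  obtain ⟨d, hd, rfl⟩ := s.trans hz hz'
  obtain ⟨l, hl, e⟩ := hE.K_trans (mul_mem hE.zE (conj_mem_of_mem_normalizer (hE.K_norm hk) hE.zE))
    fun e => h6 (b5 k hk z hz (by
      rwa [mul_eq_one_iff_inv_eq, inv2 hz.ord, eq_mul_inv_iff_mul_eq, eq_comm] at e))
  have b6 : ∀ k ∈ GK (𝐂(zpowers w) ⊓ So G a (t • a)) t, d * k = k * d := fun k hk =>
    mem_cent_iff.1 (comm_iff_le_cent.1 s.comm (b0 k hk)) d hd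
  refine ⟨l, hl, ?_⟩
  calc _ = d * z * d⁻¹ * (k * d) * z * (k * d)⁻¹ := by group
    _ = d * (l * z * l⁻¹) * d⁻¹ := by rw [← b6 k hk, e]; group
    _ = d * l * z * (d * l)⁻¹ := by group
    _ = _ := by rw [b6 l hl]; group
/-- `K` is a Hall subgroup of `D` -/
theorem le_of_pgroup [hp : Fact p.Prime] (h : Hyp G Ω) (h1 : I1 G Ω) (h4 : C4 G Ω) (hn : ¬ Comm G Ω)
    (hd : p ∣ mI (⊤ : Subgroup G) c) (hR : IsPGroup p R) (h2 : R ≤ St2 G a (t • a)) : R ≤ K := by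
  obtain ⟨S, hS, h3⟩ := exists_syl_ge hR h2
  haveI := hS.isPGroup.isNilpotent
  obtain ⟨k, a1, a2⟩ := exists_ne_one_of_ne_bot (H2.inf_centralizer_ne_bot_of_nilpotent
    (inf_le_left : S ⊓ K ≤ S) (le_normalizer_inf le_normalizer (hS.le.trans s.nrm.norm))
    ((hS.inf_of_nrm s.nrm).ne_bot (s.card h c ▸ hd)))
  exact h3.trans ((le_inf hS.le (le_cent1_iff.2 a1.2)).trans (s.cent h h1 h4 hn a1.1.2 a2))

end KS

/-- (K#) -/
theorem KS.fix (s : KS a t K) (h : Hyp G Ω) (hc : ¬ Conf G Ω) (hb : BigAll G Ω) (h1 : I1 G Ω)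
    (h4 : C4 G Ω) (hn : ¬ Comm G Ω) (hk : k ∈ K) (h2 : k ≠ 1) (h3 : k • c = c) :
    c = a ∨ c = t • a := by
  by_contra h5
  push Not at h5
  obtain ⟨q, hq, c1⟩ := Nat.exists_prime_and_dvd (orderOf_eq_one_iff.not.2 h2)
  obtain ⟨w, c2, c3⟩ := exists_orderOf_eq_prime (H := zpowers k) hq (by rwa [Nat.card_zpowers])
  haveI := Fact.mk hq
  have c4 := zpowers_le.2 hk c2
  have c5 : q ∣ mI (⊤ : Subgroup G) a := s.card h a ▸ c3 ▸ orderOf_dvd_card' c4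
  have c6 : IsPGroup q (zpowers w) := isPGroup_zpowers (k := 1) (by
    rw [pow_one, ← c3, pow_orderOf_eq_one])
  have c7 : zpowers w ≤ St G c := zpowers_le.2 (zpowers_le.2 (show k ∈ St G c from h3) c2)
  have c8 : zpowers w ≤ St2 G a (t • a) := zpowers_le.2 (s.nrm.le c4)
  have key : ∀ {x u K'}, KS x u K' → zpowers w ≤ St G x → zpowers w ≤ St G (u • x) →
      w ∈ K' ∧ u ∈ 𝐍(zpowers w) := fun s' b1 b2 =>
    have b3 := s'.le_of_pgroup h h1 h4 hn c5 c6 (le_inf b1 b2) (mem_zpowers w)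
    ⟨b3, by rw [← cj_eq_iff_mem_normalizer, cj_zpowers, s'.inv b3, zpowers_inv]⟩
  have d1 := (key s (c8.trans inf_le_left) (c8.trans inf_le_right)).2
  have d2 : ¬ Rk2 𝐍(zpowers w) := fun hr => by
    obtain ⟨e, he⟩ := exists_zi Ω s.gd
    have := h1.le_cent he (b := a) (fun e1 => s.ne (e1 ▸ he.fix)) (hr.le_St he d1
      (odd_of_le (zpowers_le.2 c4) s.odd) le_rfl) (c8.trans inf_le_left) d1 (mem_zpowers w)
    exact hq.one_lt.ne (by rw [← c3, eq_one_of_inv_of_cent (BS.odd_orderOf s.odd c4) (s.inv c4)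
      (mem_cent1_iff.1 this), orderOf_one])
  obtain ⟨u, hu, rfl⟩ := h.exists_swap h5.1
  obtain ⟨K', s'⟩ := exists_KS h hc h1 h4 hn hu h5.1
  have d3 := (key s' (c8.trans inf_le_left) c7).2
  obtain ⟨r, hr, e⟩ := h.exists_swap h5.2.symm
  obtain ⟨K'', s''⟩ := exists_KS h hc h1 h4 hn hr (e ▸ h5.2.symm)
  have d4 := (key s'' c7 (e ▸ c8.trans inf_le_right)).1
  obtain ⟨R, hR⟩ := exists_syl q (St2 G (u • a) (t • a))
  have d5 := hb q a hq c5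
  have d6 : (t * u) • u • a = t • a := by rw [mul_smul, smul_smul2 hu.ord]
  refine h5.2 ((fix_of_syl_not_three (h.ne_two c5) (core_nrm _ _) (odd_core _)
    ((d5.syl_top (h.ne_two c5) h5.2.symm hR).of_le ?_ le_top) (d5.not_three h5.2.symm hR)
    (mul_mem_core d2 s.gd d1 hu d3) (hR.le.trans inf_le_left)
    (d6 ▸ hR.le.trans inf_le_right)).symm.trans d6)
  refine (s''.le_of_pgroup h h1 h4 hn c5 hR.isPGroup (e ▸ hR.le)).trans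
    ((comm_iff_le_cent.1 s''.comm).trans ((cent_anti (zpowers_le.2 d4)).trans (cent_le_norm _)))

theorem partIV (h : Hyp G Ω) (hc : ¬ Conf G Ω) (hb : BigAll G Ω) (h1 : I1 G Ω) (h4 : C4 G Ω) :
    Comm G Ω := by
  by_contra hn
  obtain ⟨z, -, -, -, hz, -⟩ := h.rk2
  obtain ⟨a, hz⟩ := exists_zi Ω hz
  obtain ⟨b, h2⟩ := h.two a
  obtain ⟨t, ht, rfl⟩ := h.exists_swap h2
  obtain ⟨K, s⟩ := exists_KS h hc h1 h4 hn ht h2
  have a1 : CHH K (St2 G a (t • a)) (St G a) z := ⟨⟨s.nrm, inf_le_left, s.comm,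
    fun k hk b1 g hg b2 => ⟨hg, (s.fix h hc hb h1 h4 hn b2 (conj_ne_one b1)
      (conj_fix (s.nrm.le hk).2 g)).resolve_left fun e =>
        h2 (smul_left_cancel g (e.trans (mem_stabilizer_iff.1 hg).symm))⟩,
    fun k => s.cent h h1 h4 hn⟩, hz.fix, ne1 hz.ord, fun g hg =>
    let ⟨k, hk, e⟩ := s.trans hz (hz.conj_of_fix hg)
    ⟨k, hk, mem_cent1_iff.2 (by
      rw [show k⁻¹ * g * z = k⁻¹ * (g * z * g⁻¹) * g by group, ← e]; group)⟩,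
    fun k hk e => s.free hk hz (mem_cent1_iff.1 e)⟩
  refine hn (h.comm_of (a := a) fun u w hu hw => ?_)
  obtain ⟨v, -, b1, b2, b3⟩ := h.rk2.exists_zi hz (mem_top z)
  obtain ⟨k, hk, rfl⟩ := s.trans hz b1
  obtain ⟨c, hc, rfl⟩ := s.trans hz hu
  obtain ⟨d, hd, rfl⟩ := s.trans hz hw
  have := mem_cent1_iff.1 (a1.comm' ⟨k, a1.KL hk, mem_cent1_iff.2 b3, fun e => b2 (by
    rw [mem_cent1_iff.1 e, mul_inv_cancel_right])⟩ (a1.KL (mul_mem (inv_mem hd) hc)))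
  calc _ = d * (d⁻¹ * c * z * (d⁻¹ * c)⁻¹ * z) * d⁻¹ := by group
    _ = _ := by rw [this]; group

end Cfsg.Agent.ZD
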