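import Cfsg.Agent.ZD.Z3
import Cfsg.Agent.H8.ZS4

/-! Theorem ZD: the induction. -/

set_option autoImplicit false
set_option linter.unusedSectionVars false
set_option linter.style.haveILetI false

namespace Cfsg.Agent.ZD

open Subgroup FT MulAction BS

universe u

variable {G : Type u} [Group G] [Finite G] [hZ : ZG G] {Ω : Type u} [MulAction G Ω] [hG : ZF G Ω]
variable {N M L : Subgroup G} {a b c : Ω} {z z' u v x : G}

variable (G Ω) in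
/-- good involutions at all points, rank at least two -/
structure Pre : Prop where
  pt : ∀ a : Ω, ∃ z : G, Zi a z
  two : ∀ a : Ω, ∃ b : Ω, b ≠ a
  rk2 : Rk2 (⊤ : Subgroup G)

theorem Pre.orb (h : Pre G Ω) (a b : Ω) : Orb (⊤ : Subgroup G) a b :=
  let ⟨_, hz⟩ := h.pt a; let ⟨_, hw⟩ := h.pt b; orb_of_zi hz (mem_top _) hw (mem_top _)
theorem not_mem_kr (h1 : ¬ N ≤ St G a) (hu : Gd u) : u ∉ kr N a := fun h =>
  let ⟨_, ho, hb⟩ := exists_orb_ne h1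
  hb (fix_eq hu (kr_le_St ho h) (kr_le_St (Orb.refl N a) h))
theorem odd_or_gd (h1 : ¬ N ≤ St G a) (hu : Gd u) (hv : Gd v) (h : u * v * (u * v) ∈ kr N a) :
    Odd (orderOf (u * v)) ∨ ∃ k : ℕ, Gd ((u * v) ^ (2 * k + 1)) := by
  refine or_iff_not_imp_left.2 fun h2 => ?_
  obtain ⟨n, h3, -⟩ := hu.half hv h2
  obtain ⟨k, rfl | rfl⟩ := Nat.even_or_odd' n
  · exact absurd (by rw [pow_mul, pow_two]; exact pow_mem h k) (not_mem_kr h1 h3)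
  · exact ⟨k, h3⟩
theorem sq_mem_ko (h1 : ¬ N ≤ St G a) (hz : Zi a z) (hN : z ∈ N) (hv : Gd v)
    (h : z * v * (z * v) ∈ kr N a) : z * v * (z * v) ∈ ko N a := by
  refine hz.commutator_le_ko hN h1 le_rfl (mem_commutator_of_inv h (mem_zpowers z) ?_ ?_)
  · rcases odd_or_gd h1 hz.gd hv h with e | ⟨k, e⟩
    · exact e.of_dvd_nat (by rw [← pow_two]; exact orderOf_pow_dvd 2)
    · exact (odd_two_mul_add_one k).of_dvd_nat (orderOf_dvd_of_pow_eq_one (by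
        rw [(Commute.refl _).mul_pow, e.sq]))
  · rw [mul_inv_rev, mul_inv_rev, hz.gd.inv, hv.inv]
    simp only [← mul_assoc, hz.gd.sq, one_mul]

/-- the regular normal subgroup, from Shult's theorem -/
theorem Pre.reg (h : Pre G Ω) (hc : Comm G Ω) (a : Ω) : ∃ R : Subgroup G, R ⊴ St G a ∧ R ≤ LZ ⊤ ∧
    IsPGroup 2 R ∧ (∀ b c, b ≠ a → c ≠ a → ∃ x ∈ R, x • b = c) ∧
    (∀ u ∈ LZ (⊤ : Subgroup G), orderOf u = 2 → Gd u) ∧
    ∀ y ∈ LZ (⊤ : Subgroup G), y • a = a → ∃ n : ℕ, Odd n ∧ y ^ n ∈ R := by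
  classical
  let δ : G → Ω := fun w => if e : Gd w then (exists_zi Ω e).choose else a
  have h1 : ∀ w, Gd w → Zi (δ w) w := fun w e => by
    simp only [δ, dif_pos e]; exact (exists_zi Ω e).choose_spec
  have h2 : ∀ {w c}, Zi c w → δ w = c := fun e => (h1 _ e.gd).eq e
  obtain ⟨z, hz⟩ := h.pt a
  obtain ⟨b, hb⟩ := h.two a
  obtain ⟨t, -, ht, rfl⟩ := exists_swap_orb hz (mem_top z) hb (h.orb a b)
  have hs : H8.ZD.Sw hZ.D δ :=
    { ord := hZ.ord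
      cnj := fun x hx y hy => by have := Gd.conj hy x; rwa [Gd.inv hx] at this
      eqv := fun x hx y hy => h2 (by simpa only [Gd.inv hx] using (h1 y hy).conj x)
      comm := fun x hx y hy e => hc _ x y (h1 x hx) (e ▸ h1 y hy)
      mul := fun x hx y hy e e' => Gd.mul hx hy e' (hc _ x y (h1 x hx) (e ▸ h1 y hy))
      odd := fun x hx y hy e => odd_mul hx hy (h1 x hx).fix ((h1 y hy).smul_ne e)
      two := ⟨z, hz.gd, _, (hz.conj t).gd, by rw [h2 hz, h2 (hz.conj t)]; exact hb.symm⟩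
      rk := let ⟨u, _, b1, b2, _⟩ := h.rk2.exists_zi hz (mem_top z)
        ⟨u, b1.gd, z, hz.gd, b2, by rw [h2 hz, h2 b1]⟩ }
  have e0 : LZ (⊤ : Subgroup G) = closure hZ.D := by
    rw [LZ]; congr 1; ext w; exact and_iff_right (mem_top w)
  have h3 : ∀ c, c ∈ δ '' hZ.D := fun c => let ⟨w, hw⟩ := h.pt c; ⟨w, hw.gd, h2 hw⟩
  obtain ⟨R, K, hR⟩ := H7.exists_loc hs hz.gd (H8.ZD.core_of_step H8.ZS.coreStep _ _ rfl) (h3 a) ht
    rfl hb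
  have hL : closure hZ.D ⊓ St G a ⊴ St G a := (e0 ▸ LZ_nrm ⊤).inf_right le_top
  have h4 : R ≤ core {2} (closure hZ.D ⊓ St G a) := le_pcore ⟨hR.le, hR.nrm⟩ hR.sz.suz.pS
  have h5 : closure hZ.D ⊓ St2 G a (t • a) ⊔ R = closure hZ.D ⊓ St G a := by
    refine le_antisymm (sup_le (inf_le_inf_left _ inf_le_left) hR.le) fun g hg => ?_
    obtain ⟨x, a1, a2⟩ := hR.trans (g • t • a) (h3 _) fun e => hb (smul_left_cancel g
      (e.trans (Eq.symm hg.2)))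
    rw [sup_comm, ← mul_inv_cancel_left x g]
    have a3 := mul_mem (inv_mem (hR.le a1)) hg
    refine mul_mem (mem_sup_left a1) (mem_sup_right ⟨a3.1, a3.2, mem_stabilizer_iff.2 ?_⟩)
    rw [mul_smul, ← a2, inv_smul_smul]
  rw [e0]
  refine ⟨_, hL.core {2}, (core_le _ _).trans inf_le_left, core_isPGroup _, fun b c b1 b2 => ?_,
    hR.inv2, fun y b1 b2 => ?_⟩
  · obtain ⟨x, a1, rfl⟩ := hR.trans b (h3 b) b1
    obtain ⟨y, a2, rfl⟩ := hR.trans c (h3 c) b2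
    exact ⟨y * x⁻¹, h4 (mul_mem a2 (inv_mem a1)), by rw [mul_smul, inv_smul_smul]⟩
  · obtain ⟨s, r, e, b3, b4, b5, b6⟩ := exists_piPart {2} y
    have b7 : zpowers y ≤ closure hZ.D ⊓ St G a := zpowers_le.2 ⟨b1, b2⟩
    have b8 : s ∈ R := zpowers_le.1 (le_of_piG_of_nrm (π := {2}) hR.nrm (by
      rw [← h5, relIndex_sup_of_le_normalizer ((le_sup_left.trans h5.le).trans hR.nrm)]
      exact (odd_iff_piG.1 hR.sz.odd).relIndex _) (zpowers_le.2 (b7 b3)) (piG_zpowers.2 b5))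
    refine ⟨orderOf r, by rw [← Nat.card_zpowers, odd_iff_piG, piG_zpowers]; exact b6, h4 ?_⟩
    rw [e, (show Commute s r from mem_cent_iff.1 (comm_iff_le_cent.1 (comm_of_isCyclic
      inferInstance) b4) s b3).mul_pow, pow_orderOf_eq_one, mul_one]
    exact pow_mem b8 _

/-- a quotient of `N` acting on the orbit of `a` -/
structure Md {H : Type u} [Group H] (a : Ω) [MulAction H (OS N a)] (M : Subgroup G) (π : N →* H) :
    Prop where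
  surj : Function.Surjective π
  ker : ∀ n : N, π n = 1 ↔ n.1 ∈ M
  smul : ∀ (n : N) (c : OS N a), ((π n • c : OS N a) : Ω) = n.1 • c.1
  nl : ¬ N ≤ St G a
  zi : ∃ z ∈ N, Zi a z
  rk : Rk2 N

namespace Md

variable {H : Type u} [Group H] [Finite H] [MulAction H (OS N a)] {π : N →* H} (h : Md a M π)
include h

theorem smul_eq {n : N} {c d : OS N a} : π n • c = d ↔ n.1 • c.1 = d.1 := by
  rw [Subtype.ext_iff, h.smul]
theorem mem_kr {n : N} (e : π n = 1) : n.1 ∈ kr N a :=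
  BS.mem_kr.2 ⟨n.2, fun b hb => h.smul_eq.1 (show π n • (⟨b, hb⟩ : OS N a) = _ by rw [e, one_smul])⟩
theorem ord {n : N} (e : Gd n.1) : orderOf (π n) = 2 :=
  ord2 (by rw [← map_mul, show n * n = 1 from Subtype.ext e.sq, map_one])
    fun e1 => not_mem_kr h.nl e (h.mem_kr e1)
/-- the good involutions of the quotient -/
@[reducible] def zg : ZG H where
  D := {w | ∃ n : N, Gd n.1 ∧ π n = w}
  ord := by rintro _ ⟨n, e, rfl⟩; exact h.ord e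
  conj := by
    rintro _ ⟨n, e, rfl⟩ g
    obtain ⟨g, rfl⟩ := h.surj g
    exact ⟨g * n * g⁻¹, e.conj g, by simp⟩
  mul := by
    rintro _ ⟨n, e, rfl⟩ _ ⟨m, e', rfl⟩ h1 h2
    have h3 : π (n * m) * π (n * m) = 1 := by
      rw [map_mul, mul_assoc, ← mul_assoc (π m), ← h2, mul_assoc, sq1 (h.ord e'), mul_one,
        sq1 (h.ord e)]
    rcases odd_or_gd h.nl e e' (h.mem_kr (n := n * m * (n * m)) (by rw [map_mul, h3])) with h4 | ⟨k, h4⟩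
    · have := H3.eq_one_of_odd_of_mul_self h3 ((show Odd (orderOf (n * m)) by
        rwa [← orderOf_coe]).of_dvd_nat (orderOf_map_dvd π _))
      rw [map_mul, mul_eq_one_iff_eq_inv, inv2 (h.ord e')] at this
      exact absurd this h1
    · exact ⟨(n * m) ^ (2 * k + 1), h4, by
        rw [map_pow, pow_succ, pow_mul, pow_two, h3, one_pow, one_mul, map_mul]⟩
theorem zf : @ZF H (OS N a) _ _ h.zg :=
  letI := h.zg
  ⟨by
    rintro _ ⟨n, e, rfl⟩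
    obtain ⟨c, hc⟩ := exists_zi Ω e
    obtain ⟨z, h1, h2⟩ := h.zi
    exact ⟨⟨c, orb_of_zi h2 h1 hc n.2⟩, h.smul_eq.2 hc.fix⟩, by
    rintro _ ⟨n, e, rfl⟩ c d h1 h2
    exact Subtype.ext (fix_eq e (h.smul_eq.1 h1) (h.smul_eq.1 h2))⟩
theorem zi_of {n : N} {c : OS N a} (e : Zi c.1 n.1) : @Zi H _ h.zg _ _ c (π n) :=
  letI := h.zg; ⟨⟨n, e.gd, rfl⟩, h.smul_eq.2 e.fix⟩
theorem pre : @Pre H _ h.zg (OS N a) _ := by
  letI := h.zg
  obtain ⟨z, hN, hz⟩ := h.zi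
  refine ⟨fun c => ?_, fun c => ?_, ?_⟩
  · obtain ⟨w, hw, e⟩ := exists_zi_of_orb c.2 hz hN
    exact ⟨_, h.zi_of (n := ⟨w, hw⟩) e⟩
  · obtain ⟨b, hb, h3⟩ := exists_orb_ne h.nl
    by_cases e : (c : Ω) = a
    · exact ⟨⟨b, hb⟩, fun e1 => h3 ((congrArg Subtype.val e1).trans e)⟩
    · exact ⟨OS.pt N a, fun e1 => e (congrArg Subtype.val e1).symm⟩
  · obtain ⟨u, hu, v, hv, h3, h4, h5, h6⟩ := h.rk
    refine ⟨π ⟨u, hu⟩, mem_top _, π ⟨v, hv⟩, mem_top _, ⟨_, h3, rfl⟩, ⟨_, h4, rfl⟩, fun e => ?_, by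
      rw [← map_mul, ← map_mul]; exact congrArg _ (Subtype.ext h6)⟩
    have := h.ord (n := ⟨u, hu⟩ * ⟨v, hv⟩) (h3.mul h4 h5 h6)
    rw [map_mul, e, sq1 (h.ord h4)] at this
    exact ne1 this rfl
theorem LZ_eq : @LZ H _ h.zg ⊤ = ((LZ N).subgroupOf N).map π := by
  letI := h.zg
  refine le_antisymm (LZ_le_iff.2 ?_) (map_le_iff_le_comap.2 fun n hn => ?_)
  · rintro _ - ⟨n, e, rfl⟩
    exact mem_map_of_mem π (mem_LZ n.2 e)
  · obtain ⟨m, h1, h2⟩ := (LZ_le_iff (K := ((LZ ⊤).comap π).map N.subtype)).2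
      (fun z hz e => ⟨⟨z, hz⟩, mem_LZ (mem_top _) (show Gd (π ⟨z, hz⟩) from ⟨_, e, rfl⟩), rfl⟩) hn
    exact Subtype.ext h2 ▸ h1
theorem sq_mem (hc : @Comm H _ h.zg (OS N a) _) (ho : Orb N a c) (hz : Zi c z) (hN : z ∈ N)
    (hz' : Zi c z') (hN' : z' ∈ N) : z * z' * (z * z') ∈ M := by
  have := hc ⟨c, ho⟩ _ _ (h.zi_of (n := ⟨z, hN⟩) hz) (h.zi_of (n := ⟨z', hN'⟩) hz')
  refine (h.ker (⟨z, hN⟩ * ⟨z', hN'⟩ * (⟨z, hN⟩ * ⟨z', hN'⟩))).1 ?_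
  rw [map_mul, map_mul, mul_assoc, ← mul_assoc (π ⟨z', hN'⟩), ← this, mul_assoc,
    sq1 (h.ord hz'.gd), mul_one, sq1 (h.ord hz.gd)]
theorem comm (hc : ∀ c, Orb N a c → ∀ z ∈ N, ∀ z' ∈ N, Zi c z → Zi c z' → z * z' * (z * z') ∈ M) :
    @Comm H _ h.zg (OS N a) _ := by
  letI := h.zg
  rintro c _ _ ⟨⟨n, e, rfl⟩, h1⟩ ⟨⟨m, e', rfl⟩, h2⟩
  have := (h.ker (n * m * (n * m))).2 (hc c c.2 _ n.2 _ m.2 ⟨e, h.smul_eq.1 h1⟩ ⟨e', h.smul_eq.1 h2⟩)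
  rwa [map_mul, map_mul, mul_eq_one_iff_eq_inv, mul_inv_rev, inv2 (h.ord e), inv2 (h.ord e')] at this

omit h in
theorem bt (h : Md a (ko N a) π) (hc : @Comm H _ h.zg (OS N a) _) : BT N a := by
  letI := h.zg
  haveI := h.zf
  obtain ⟨R, h1, h2, h3, h4, h5, h6⟩ := h.pre.reg hc (OS.pt N a)
  have k1 : ∀ n : N, π n ∈ R → n.1 • a = a := fun n e => h.smul_eq.1 (h1.le e)
  have k2 : ∀ n : N, n.1 ∈ LZ N → π n ∈ LZ ⊤ := fun n e => h.LZ_eq.ge (mem_map_of_mem π e)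
  refine ⟨(R.comap π).map N.subtype ⊓ LZ N, ⟨?_, le_normalizer_inf (le_normalizer_of_conj_mem ?_)
    (inf_le_left.trans (LZ_nrm N).norm)⟩, inf_le_right, fun b c hb hc' b1 b2 => ?_, ?_, ?_, ?_,
    fun z hN z' hN' hz hz' => h.sq_mem hc (Orb.refl N a) hz hN hz' hN', fun y b1 b2 => ?_⟩
  · rintro _ ⟨⟨x, hx, rfl⟩, -⟩
    exact ⟨x.2, k1 x hx⟩
  · rintro g hg _ ⟨x, hx, rfl⟩
    refine ⟨⟨g, hg.1⟩ * x * ⟨g, hg.1⟩⁻¹, mem_comap.2 ?_, rfl⟩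
    rw [map_mul, map_mul, map_inv]
    exact h1.conj_mem (h.smul_eq.2 hg.2) hx
  · obtain ⟨x, hx, e⟩ := h4 ⟨b, hb⟩ ⟨c, hc'⟩ (fun e => b1 (congrArg Subtype.val e))
      fun e => b2 (congrArg Subtype.val e)
    obtain ⟨n, hn, rfl⟩ := h.LZ_eq.le (h2 hx)
    exact ⟨n, ⟨⟨n, hx, rfl⟩, hn⟩, h.smul_eq.1 e⟩
  · rintro _ ⟨⟨x, hx, rfl⟩, -⟩ b hb b1 b2
    replace hx : π x ∈ R := hx
    refine (h.ker x).1 (by_contra fun e => ?_)
    obtain ⟨w, c1, c2⟩ := H3.exists_involution_of_ne_bot (isPGroup_of_le (zpowers_le.2 hx) h3)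
      (zpowers_eq_bot.not.2 e)
    exact b1 (congrArg Subtype.val (fix_eq (h5 w (h2 (zpowers_le.2 hx c1)) c2)
      (zpowers_le.2 (show π x ∈ St H (⟨b, hb⟩ : OS N a) from h.smul_eq.2 b2) c1)
      (h1.le (zpowers_le.2 hx c1))))
  · rintro _ ⟨⟨x, hx, rfl⟩, -⟩
    obtain ⟨n, e⟩ := isPGroup_iff_mem.1 h3 _ hx
    exact ⟨n, (h.ker (x ^ 2 ^ n)).1 (by rw [map_pow, e])⟩
  · rintro _ ⟨⟨x, hx, rfl⟩, -⟩ b1
    refine or_iff_not_imp_left.2 fun b2 => ?_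
    obtain ⟨n, e, e1⟩ := h5 _ (h2 hx) (ord2 (by rw [← map_mul]; exact (h.ker _).2 b1)
      fun e => b2 ((h.ker x).1 e))
    exact ⟨n, n.2, ⟨e, k1 n (e1 ▸ hx)⟩, (h.ker (x * n)).1 (by rw [map_mul, ← e1, sq1 (h.ord e)])⟩
  · obtain ⟨n, c1, c2⟩ := h6 _ (k2 ⟨y, LZ_le N b1⟩ b1) (h.smul_eq.2 b2)
    exact ⟨n, c1, ⟨⟨y, LZ_le N b1⟩ ^ n, mem_comap.2 (by rwa [map_pow]), rfl⟩, pow_mem b1 n⟩

end Md

theorem exists_md (hM : M ⊴ N) (h0 : M ≤ kr N a) (hz : Zi a z) (hN : z ∈ N) (h2 : Rk2 N)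
    (h3 : ¬ N ≤ St G a) : ∃ (H : Type u) (_ : Group H) (_ : Finite H) (_ : MulAction H (OS N a))
      (π : N →* H), Md a M π := by
  haveI : (M.subgroupOf N).Normal := (normal_subgroupOf_iff_le_normalizer hM.le).2 hM.norm
  letI : MulAction (N ⧸ M.subgroupOf N) (OS N a) := MulAction.compHom _
    (QuotientGroup.lift (M.subgroupOf N) (toPermHom N (OS N a)) fun n hn => Qt.mem_ker.2 (h0 hn))
  exact ⟨N ⧸ M.subgroupOf N, inferInstance, inferInstance, inferInstance, QuotientGroup.mk' _,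
    QuotientGroup.mk'_surjective _, fun n => QuotientGroup.eq_one_iff n, fun _ _ => rfl, h3,
    ⟨z, hN, hz⟩, h2⟩

theorem bt_of_sq (hz : Zi a z) (hN : z ∈ N) (h2 : Rk2 N) (h3 : ¬ N ≤ St G a)
    (hc : ∀ c, Orb N a c → ∀ z ∈ N, ∀ z' ∈ N, Zi c z → Zi c z' → z * z' * (z * z') ∈ kr N a) :
    BT N a := by
  obtain ⟨H, _, _, _, π, h⟩ := exists_md (ko_nrm N a) (ko_le N a) hz hN h2 h3
  refine h.bt (h.comm fun c ho z b1 z' b2 b3 b4 => ?_)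
  rw [ko_eq ho]
  refine sq_mem_ko (fun e => h3 fun g hg => ?_) b3 b1 b4.gd (kr_eq ho ▸ hc c ho z b1 z' b2 b3 b4)
  obtain ⟨y, hy, rfl⟩ := ho.symm
  rw [mem_stabilizer_iff, mem_stabilizer_iff.1 (e hy), mem_stabilizer_iff.1 (e hg)]

/-- the minimal situation has commuting good involutions in the point stabilizer -/
def HypThm : Prop := ∀ (G Ω : Type u) [Group G] [Finite G] [ZG G] [MulAction G Ω] [ZF G Ω],
  Hyp G Ω → Comm G Ω
/-- the inductive statement -/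
def CommInd (n : ℕ) : Prop := ∀ (G Ω : Type u) [Group G] [Finite G] [ZG G] [MulAction G Ω] [ZF G Ω],
  Nat.card G = n → Pre G Ω → (∀ x : G, (∀ b : Ω, x • b = b) → x = 1) → Comm G Ω

theorem bt_of_ind (H : ∀ n ≤ ♯N, CommInd.{u} n) (hz : Zi a z) (hN : z ∈ N) (h2 : Rk2 N)
    (h3 : ¬ N ≤ St G a) : BT N a := by
  obtain ⟨K, _, _, _, π, h⟩ := exists_md (kr_nrm N a) le_rfl hz hN h2 h3
  letI := h.zg
  haveI := h.zf
  refine bt_of_sq hz hN h2 h3 fun c ho z b1 z' b2 b3 b4 => h.sq_mem (H _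
    (Nat.card_le_card_of_surjective _ h.surj) K _ rfl h.pre fun w hw => ?_) ho b3 b1 b4 b2
  obtain ⟨n, rfl⟩ := h.surj w
  exact (h.ker n).2 (mem_kr.2 ⟨n.2, fun b hb => h.smul_eq.1 (hw ⟨b, hb⟩)⟩)

theorem commInd (H1 : HypThm.{u}) (n : ℕ) : CommInd.{u} n := by
  induction n using Nat.strong_induction_on with
  | _ n ih =>
  intro G Ω _ _ _ _ _ hn h hf
  have h1 : ∀ (N : Subgroup G) (a : Ω), N ≠ ⊤ → Rk2 (N ⊓ St G a) → ¬ N ≤ St G a → BT N a :=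
    fun N a h1 h2 h3 => by
      obtain ⟨u, hu, -, -, h4, -⟩ := id h2
      exact bt_of_ind (fun k hk => ih k (hk.trans_lt (hn ▸ card_top (G := G) ▸
        card_lt_of_lt (lt_top_iff_ne_top.2 h1)))) ⟨h4, hu.2⟩ hu.1 (h2.mono inf_le_left) h3
  by_cases hs : IsSimpleGroup G
  · exact H1 G Ω ⟨hs, h.pt, h.two, h.rk2, h1⟩
  intro a z z' hz hz'
  haveI : Nontrivial G := ⟨⟨z, 1, hz.gd.ne_one⟩⟩
  obtain ⟨L, hL, h2, h3⟩ : ∃ L : Subgroup G, L.Normal ∧ L ≠ ⊥ ∧ L ≠ ⊤ := by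
    by_contra e
    exact hs ⟨fun L hL => by_contra fun e1 => e ⟨L, hL, not_or.1 e1⟩⟩
  have hLn : L ⊴ ⊤ := nrm_top_iff.2 hL
  obtain ⟨w, hw, h4⟩ : ∃ w ∈ L, Gd w := by
    by_contra h4
    push Not at h4
    have h5 : core {2}ᶜ L = ⊥ := eq_bot_iff.2 fun x hx => hf x fun c =>
      let ⟨v, hv⟩ := h.pt c
      h.rk2.le_St hv (mem_top v) (odd_core L) (hLn.core _).norm hx
    refine h2 (eq_bot_iff.2 fun x hx => hf x fun c => ?_)
    obtain ⟨v, hv⟩ := h.pt c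
    have h6 : ∀ u ∈ L ⊔ zpowers v, Gd u → u * v ∈ L := fun u hu e => by
      obtain ⟨y, hy, s, hs, rfl⟩ := (mem_sup_of_le_normalizer' (le_top.trans hLn.norm)).1 hu
      rcases H3.eq_one_or_eq_of_mem_zpowers hv.gd.sq hs with rfl | rfl
      · exact absurd e (h4 _ (by simpa using hy))
      · rwa [mul_assoc, hv.gd.sq, mul_one]
    have h7 := (oc_of_not_rk2 (N := L ⊔ zpowers v) (fun ⟨u, a1, s, a2, a3, a4, a5, a6⟩ =>
      h4 _ (by simpa [mul_assoc, a4.inv] using mul_mem (h6 u a1 a3) (inv_mem (h6 s a2 a4)))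
        (a3.mul a4 a5 a6)) hv.gd (mem_sup_right (mem_zpowers v)) le_sup_left
        (hLn.norm (mem_top v))).le_core
    rw [h5, le_bot_iff, commutator_zpowers_eq_bot] at h7
    exact hv.cent_le (h7 hx)
  have h5 : ∀ c u, Zi c u → u ∈ L := fun c u hu => by
    obtain ⟨d, hd⟩ := exists_zi Ω h4
    obtain ⟨g, -, rfl⟩ := h.orb d c
    obtain ⟨b, hb⟩ := h.two (g • d)
    obtain ⟨k, -, rfl⟩ := exists_conj_St2 (hd.conj g) (mem_top _) hu (mem_top _) hb (h.orb _ b)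
    exact hL.conj_mem _ (hL.conj_mem _ hw g) k
  have h6 : ∀ c, Orb L a c := fun c =>
    let ⟨w, hw⟩ := h.pt c; orb_of_zi hz (h5 _ z hz) hw (h5 _ w hw)
  obtain ⟨u, -, b1, b2, b3⟩ := h.rk2.exists_zi hz (mem_top _)
  obtain ⟨b, hb⟩ := h.two a
  obtain ⟨g, b4, b5⟩ := h6 b
  have h7 := hf _ fun c => ko_le_St (h6 c) ((h1 L a h3 ⟨u, ⟨h5 _ u b1, b1.fix⟩, z, ⟨h5 _ z hz, hz.fix⟩,
    b1.gd, hz.gd, b2, b3⟩ (not_le_St b4 (b5 ▸ hb))).sq_mem hz (h5 _ z hz) hz' (h5 _ z' hz'))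
  rwa [mul_eq_one_iff_eq_inv, mul_inv_rev, hz.gd.inv, hz'.gd.inv] at h7

theorem btAll_of (H1 : HypThm.{u}) : BtAll.{u} := fun _ _ _ _ _ _ _ _ _ _ hz hN h2 h3 =>
  bt_of_ind (fun n _ => commInd H1 n) hz hN h2 h3

end Cfsg.Agent.ZD
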