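import Cfsg.Agent.ZD.ZI
import Cfsg.Agent.ZD.ZIIa
import Cfsg.Agent.ZD.ZIIb
import Cfsg.Agent.ZD.ZIV
import Cfsg.Agent.ZD.ZW

/-! Theorem ZD. -/

set_option autoImplicit false

namespace Cfsg.Agent.ZD

universe u

theorem hypThm : HypThm.{u} := fun G Ω _ _ _ _ _ h => by
  haveI := h.finite
  by_cases hc : Conf G Ω
  · exact partI h hc
  have hb : BigAll G Ω := fun p a hp hd => stepC h hp (partIIa h hc hp hd)
  have h1 := partIIb h hc hb
  exact partIV h hc hb h1 (partIII h hb h1)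

theorem btAll : BtAll.{u} := btAll_of hypThm

end Cfsg.Agent.ZD
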