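import Cfsg.Agent.ZD.ZS
import Cfsg.Agent.BS.RedIII

/-! Theorem ZD, part III: odd subgroups centralized by a good involution. -/

set_option autoImplicit false
set_option linter.unusedSectionVars false

namespace Cfsg.Agent.ZD

open Subgroup FT MulAction BS
open scoped commutatorElement

universe u v

variable {G : Type u} [Group G] [Finite G] [ZG G] {Ω : Type v} [MulAction G Ω] [hG : ZF G Ω]
variable {N Q Y T : Subgroup G} {a b c : Ω} {z z' t u g k x : G} {p : ℕ}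

/-- an odd subgroup `Y` moving `a` and normalized by `N` moves `a` to a point fixed by `[N_a, z]` -/
theorem exists_fix_conj_mul (hY : Odd ♯Y) (hN : N ≤ 𝐍(Y)) (h : ¬ Y ≤ St G a) (hz : Zi a z)
    (hzN : z ∈ N) : ∃ y ∈ Y, y • a ≠ a ∧ ∀ n ∈ N, n • a = a → (n * z * n⁻¹ * z) • y • a = y • a := by
  obtain ⟨A, ⟨h1, h2, h3⟩, hm⟩ := exists_minimal_of_wellFoundedLT
    (fun A : Subgroup G => A ≤ Y ∧ N ≤ 𝐍(A) ∧ ¬ A ≤ St G a) ⟨Y, le_rfl, hN, h⟩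
  have h4 : ⁅A, A⁆ ≤ St G a := by
    by_contra h4
    exact (der_lt (odd_order_solvable (odd_of_le h1 hY)) fun e => h3 (e.le.trans bot_le)).not_ge
      (hm ⟨(der_le A).trans h1, le_normalizer_der h2, h4⟩ (der_le A))
  have h5 : ∀ s ∈ N, Zi a s → ∀ x ∈ A, s • x • a = x⁻¹ • a := fun s hs hs' x hx => by
    have h6 := h4 (commutator_mem_commutator (inv_mem (conj_mem_of_mem_normalizer (h2 hs) hx))
      (inv_mem hx))
    have h7 : (x * s * x) • a = a := by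
      refine (fix_eq hs'.gd hs'.fix ?_).symm
      rw [smul_smul, show s * (x * s * x) = x * s * x * s⁻¹ * ⁅(s * x * s⁻¹)⁻¹, x⁻¹⁆ by
        nth_rw 2 [← inv2 hs'.ord]; rw [commutatorElement_def]; group, mul_smul,
        mem_stabilizer_iff.1 h6, mul_smul, inv2 hs'.ord, hs'.fix]
    rwa [mul_smul, mul_smul, ← eq_inv_smul_iff] at h7
  obtain ⟨y, hy, h6⟩ := SetLike.not_le_iff_exists.1 h3
  refine ⟨y, h1 hy, h6, fun n hn e => ?_⟩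
  rw [mul_smul, h5 z hzN hz y hy, h5 _ (mul_mem (mul_mem hn hzN) (inv_mem hn)) (hz.conj_of_fix e) _
    (inv_mem hy), inv_inv]
theorem I1.comm_of_fix (h : I1 G Ω) (hz : Zi a z) (hb : b ≠ a) (hx : x • a = a)
    (h1 : (x * z * x⁻¹ * z) • b = b) : x * z = z * x := by
  have h2 : (x * z * x⁻¹ * z) • a = a := by rw [mul_smul, hz.fix, (hz.conj_of_fix hx).fix]
  refine comm_of_conj_mul hz.ord (odd_mul_of_fix_two (hz.gd.conj x) hz.gd hb h1 h2)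
    (h a b z hz hb ⟨⟨h2, h1⟩, ?_⟩)
  have := conj_fix h1 z
  rw [inv_conj_mul hz.ord] at this
  exact (inv_mem_iff (S := Subgroup G) (H := St G (z • b))).1 this
/-- (III-r1) -/
theorem I1.le_cent_of_not_rk2 (h : I1 G Ω) (h1 : ¬ N ≤ St G a) (hz : Zi a z) (hN : z ∈ N)
    (h2 : ¬ Rk2 N) : N ⊓ St G a ≤ 𝐂[z] := fun x hx => by
  obtain ⟨y, -, h3, h4⟩ := exists_fix_conj_mul (odd_core N) (core_nrm _ _).norm
    (core_not_le h2 hz hN h1) hz hN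
  exact mem_cent1_iff.2 (h.comm_of_fix hz h3 hx.2 (h4 x hx.1 hx.2))
theorem I1.le_cent (h : I1 G Ω) (hz : Zi a z) (hb : b ≠ a) (h1 : T ≤ St G a) (h2 : T ≤ St G b)
    (hn : z ∈ 𝐍(T)) : T ≤ 𝐂[z] := (le_St3_of_norm h1 h2 hn).trans (h a b z hz hb)
/-- (III-c) -/
theorem I1.kr_le (h : I1 G Ω) (h1 : ¬ N ≤ St G a) (hz : Zi a z) (hN : z ∈ N) : kr N a ≤ 𝐂[z] :=
  let ⟨_, hb, h2⟩ := exists_orb_ne h1
  h.le_cent hz h2 (kr_le_St (Orb.refl N a)) (kr_le_St hb) ((kr_nrm N a).norm hN)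
omit hG in
theorem not_le_St_of_orb (h1 : ¬ N ≤ St G a) (h2 : Orb N a b) : ¬ N ≤ St G b := fun e =>
  h1 fun g hg => by
    obtain ⟨y, hy, rfl⟩ := h2.symm
    rw [mem_stabilizer_iff, mem_stabilizer_iff.1 (e hy), mem_stabilizer_iff.1 (e hg)]
theorem I1.mem_cent_kr (h : I1 G Ω) (h1 : ¬ N ≤ St G a) (hz : Zi a z) (hN : z ∈ N)
    (hu : Gd u) (huN : u ∈ N) : u ∈ 𝐂(kr N a) := by
  obtain ⟨c, hc⟩ := exists_zi Ω hu
  have h2 := orb_of_zi hz hN hc huN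
  rw [kr_eq h2, ← le_cent1_iff]
  exact h.kr_le (not_le_St_of_orb h1 h2) hc huN
theorem I1.comm_of_mem_ko (h : I1 G Ω) (h1 : ¬ N ≤ St G a) (hz : Zi a z) (hN : z ∈ N)
    (hx : x * z * x⁻¹ * z ∈ ko N a) : x * z = z * x :=
  comm_of_conj_mul hz.ord (BS.odd_orderOf (odd_ko N a) hx) (h.kr_le h1 hz hN (ko_le N a hx))
theorem I1.comm_of_bt (h : I1 G Ω) (hB : BT N a) (h1 : ¬ N ≤ St G a) (hz : Zi a z) (hN : z ∈ N)
    (hz' : Zi a z') (hN' : z' ∈ N) : z' * z = z * z' :=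
  h.comm_of_mem_ko h1 hz hN (by rw [inv2 hz'.ord, mul_assoc]; exact hB.sq_mem hz' hN' hz hN)
theorem I1.exists_cent_of_bt (h : I1 G Ω) (hB : BT N a) (hb : Orb N a b) (hc : Orb N a c)
    (h1 : b ≠ a) (h2 : c ≠ a) (h3 : c ≠ b) (hY : Y ≤ N ⊓ St3 G a b c) :
    ∃ z ∈ N, Zi a z ∧ z ∈ 𝐂(Y) := by
  obtain ⟨z, hN, hz, h4⟩ := hB.exists_zi hb hc h1 h2 h3 hY
  obtain ⟨g, hg, rfl⟩ := hb
  exact ⟨z, hN, hz, mem_cent_iff.2 fun y hy => h.comm_of_mem_ko (fun e => h1 (e hg)) hz hN (h4 y hy)⟩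
/-- a subgroup of a proper subgroup `N` fixing three points of the orbit of the good points -/
theorem I1.exists_cent (h : I1 G Ω) (hy : Hyp G Ω) (h0 : N ≠ ⊤) (hz : Zi a z) (hN : z ∈ N)
    (hb : Orb N a b) (hc : Orb N a c) (h1 : b ≠ a) (h2 : c ≠ a) (h3 : c ≠ b)
    (hY : Y ≤ N ⊓ St3 G a b c) : ∃ z ∈ N, Zi a z ∧ z ∈ 𝐂(Y) := by
  have h4 : ¬ N ≤ St G a := let ⟨_, hg, e⟩ := hb; not_le_St hg (e ▸ h1)
  by_cases h5 : Rk2 N
  · exact h.exists_cent_of_bt (hy.bt h0 h5 hz hN h4) hb hc h1 h2 h3 hY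
  · exact ⟨z, hN, hz, le_cent1_iff.1 ((hY.trans (inf_le_inf_left _ (St3_le_St _ _ _))).trans
      (h.le_cent_of_not_rk2 h4 hz hN h5))⟩
/-- an involution of `Q` is good -/
theorem BQ.gd (h : BQ N a Q) (ht : t ∈ Q) (e : orderOf t = 2) : Gd t := by
  rcases h.inv t ht (by rw [sq1 e]; exact one_mem _) with h1 | ⟨v, -, hv, h1⟩
  · exact absurd (odd_ko N a) (not_odd_of_ord2 e h1)
  · obtain ⟨k, e1, -⟩ := exists_conj_of_odd e hv.ord (BS.odd_orderOf (odd_ko N a) h1)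
    exact Gd.of_conj (e1 ▸ hv.gd)
/-- an odd subgroup of `N_a` fixes a second point of the orbit -/
theorem BQ.exists_fix (h : BQ N a Q) (ho : Orb N a b) (hb : b ≠ a) (hY : Odd ♯Y)
    (h1 : Y ≤ N ⊓ St G a) : ∃ c, Orb N a c ∧ c ≠ a ∧ Y ≤ St G c := by
  have hn := h.le_N.trans (ko_nrm N a).norm
  have hYQ := h1.trans h.nrm.norm
  have hM : Q ⊔ Y ≤ N ⊓ St G a := sup_le h.nrm.le h1
  have hs : Group.IsSolvable ↥(Q ⊔ Y) := isSolvable_sup (isSolvable_of_bar hn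
    (sol_of_odd (odd_ko N a)) (isSolvable_of_isPGroup h.isPGroup_bar)) (sol_of_odd hY) hYQ
  have h2 : ∀ g ∈ N ⊓ St G a, g • b ≠ a := fun g hg e =>
    hb (smul_left_cancel g (e.trans (mem_stabilizer_iff.1 hg.2).symm))
  obtain ⟨H, hH⟩ := exists_hall {2}ᶜ (isSolvable_of_le (inf_le_left : (Q ⊔ Y) ⊓ St G b ≤ _) hs)
  obtain ⟨g, hg, h3⟩ := (hH.trans inf_le_left (by
    rw [inf_relIndex_left, compl_compl, le_antisymm (relIndex_le_of_exists_mul le_sup_left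
      fun g hg => ?_) (relIndex_le_of_le le_sup_left)]
    · exact (piG_singleton_iff.2 h.isPGroup_bar).of_dvd
        (card_bar hn ▸ relIndex_dvd_of_le_left Q (ko_le_St ho))
    obtain ⟨x, hx, e⟩ := h.trans b (g • b) ho (ho.smul (hM hg).1) hb (h2 g (hM hg))
    exact ⟨x, hx, x⁻¹ * g, by rw [mem_stabilizer_iff, mul_smul, ← e, inv_smul_smul], by group⟩)
    ).exists_le_cj hs le_sup_right (odd_iff_piG.1 hY)
  exact ⟨g • b, ho.smul (hM hg).1, h2 g (hM hg), h3.trans (cj_le_stab (hH.le.trans inf_le_right) g)⟩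
theorem Big.exists_fix [Fact p.Prime] (hb : Big G Ω p) (hy : Hyp G Ω) (hp2 : p ≠ 2) (a : Ω)
    (hT : IsPGroup p T) : ∃ c : Ω, T ≤ St G c := by
  obtain ⟨b, hba⟩ := hy.two a
  obtain ⟨P, hP⟩ := exists_syl p (St2 G a b)
  obtain ⟨S, hS, h1⟩ := exists_syl_ge hP.isPGroup le_top
  obtain ⟨g, -, h2⟩ := Syl.exists_le_cj hS hT le_top
  refine ⟨g • a, h2.trans (cj_le_stab (le_stab_of_not_three hS.isPGroup.isNilpotent
    (odd_of_isPGroup hp2 hS.isPGroup) h1 ?_ (hP.le.trans inf_le_left)) g)⟩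
  intro h3
  obtain ⟨c, h4, h5, h6⟩ := h3.exists_ne2 a b
  exact (hb a b c P hba hP h6).elim h4 h5
/-- two injective maps with disjoint images -/
theorem false_of_matching (hz : Zi c z) (hN : z ∈ N) (M : Ω → Ω → Prop)
    (h1 : ∀ x y, M x y → M y x) (h2 : ∀ x y y', Orb N c x → M x y → M x y' → y = y')
    (h3 : ∀ u ∈ N, Gd u → ∃ x, Orb N c x ∧ u • x ≠ x ∧ M x (u • x)) : False := by
  have : Nonempty Ω := ⟨c⟩
  choose! f f1 f2 f3 using h3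
  choose! w w1 w2 using fun x (h : Orb N c x) => exists_zi_of_orb h hz hN
  let F : {u : G // u ∈ N ∧ Gd u} → {u : G // u ∈ N ∧ Gd u} := fun u =>
    ⟨u * w (f u) * u.1⁻¹, mul_mem (mul_mem u.2.1 (w1 _ (f1 _ u.2.1 u.2.2))) (inv_mem u.2.1),
      (w2 _ (f1 _ u.2.1 u.2.2)).gd.conj _⟩
  have key : ∀ u ∈ N, Gd u → ∀ v ∈ N, Gd v → ∀ y, Orb N c y → M (v • y) y →
      u * w (f u) * u⁻¹ = v * w y * v⁻¹ → f u = y ∧ u = v := fun u a1 a2 v b1 b2 y b3 b4 e => by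
    have e1 : u • f u = v • y := ((w2 _ (f1 u a1 a2)).conj u).eq (e ▸ (w2 y b3).conj v)
    obtain rfl : f u = y := h2 _ _ _ (b3.smul b1) (e1 ▸ h1 _ _ (f3 u a1 a2)) b4
    exact ⟨rfl, swap_unique (w2 _ b3).gd a2 b2 (w2 _ b3).fix (f2 u a1 a2) e⟩
  have o := (f1 z hN hz.gd).smul hN
  obtain ⟨u, hu⟩ := Finite.surjective_of_injective (f := F) (fun u v e => Subtype.ext
    (key u u.2.1 u.2.2 v v.2.1 v.2.2 _ (f1 _ v.2.1 v.2.2) (h1 _ _ (f3 _ v.2.1 v.2.2))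
      (congrArg Subtype.val e)).2)
    ⟨z * w (z • f z) * z⁻¹, mul_mem (mul_mem hN (w1 _ o)) (inv_mem hN), (w2 _ o).gd.conj _⟩
  obtain ⟨e1, e2⟩ := key u u.2.1 u.2.2 z hN hz.gd _ o
    (by rw [smul_smul2 hz.ord]; exact f3 z hN hz.gd) (congrArg Subtype.val hu)
  rw [e2] at e1
  exact f2 z hN hz.gd e1.symm
/-- (III-p), the case `p ∣ m` -/
theorem exists_cent_of_big [Fact p.Prime] (hy : Hyp G Ω) (h1 : I1 G Ω) (hp2 : p ≠ 2)
    (hb : Big G Ω p) (hT : IsPGroup p T) (ht : Zi c t) (h2 : T ≤ 𝐂[t]) (h3 : T ≤ St G a) :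
    ∃ z, Zi a z ∧ T ≤ 𝐂[z] := by
  by_contra h0
  push Not at h0
  obtain ⟨T, -, hT⟩ := Finite.exists_le_maximal (a := T) (p := fun X : Subgroup G => IsPGroup p X ∧
    (∃ (c : Ω) (z : G), Zi c z ∧ X ≤ 𝐂[z]) ∧ ∃ b : Ω, X ≤ St G b ∧ ∀ z, Zi b z → ¬ X ≤ 𝐂[z])
    ⟨hT, ⟨c, t, ht, h2⟩, a, h3, h0⟩
  clear * - hy h1 hp2 hb hT
  obtain ⟨⟨hT, ⟨c, z, hz, hzT⟩, b, hbT, h0⟩, hmax⟩ := hT
  have hm : ∀ U : Subgroup G, IsPGroup p U → T < U → ∀ (d : Ω) (u : G), Zi d u → U ≤ 𝐂[u] → ∀ x : Ω,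
      U ≤ St G x → ∃ v ∈ 𝐍(T), Zi x v := fun U a1 a2 d u a3 a4 x a5 => by
    by_contra a6
    exact a2.not_ge (hmax ⟨a1, ⟨d, u, a3, a4⟩, x, a5, fun v b1 b2 =>
      a6 ⟨v, cent_le_norm T (le_cent1_iff.1 (a2.le.trans b2)), b1⟩⟩ a2.le)
  have hzN : z ∈ 𝐍(T) := cent_le_norm T (le_cent1_iff.1 hzT)
  have hbc : b ≠ c := fun e => h0 z (e ▸ hz) hzT
  have hc : ∀ u ∈ 𝐍(T), Gd u → T ≤ 𝐂[u] := fun u a1 a2 => by
    by_cases e : u • c = c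
    · exact h1.le_cent ⟨a2, e⟩ hbc (hzT.trans hz.cent_le) hbT a1
    · exact le_cent1_iff.2 (mem_cent_of_ne_fix hz.gd a2 hz.fix e (le_cent1_iff.1 hzT) a1)
  have hbad : ∀ u ∈ 𝐍(T), ¬ Zi b u := fun u a1 a2 => h0 u a2 (hc u a1 a2.gd)
  have hO : ∀ x, Orb 𝐍(T) c x → x ≠ b := fun x a1 e =>
    let ⟨u, a2, a3⟩ := exists_zi_of_orb a1 hz hzN; hbad u a2 (e ▸ a3)
  have hne : 𝐍(T) ≠ ⊤ := hy.norm_ne_top (by
    rintro rfl
    exact let ⟨u, hu⟩ := hy.pt b; h0 u hu bot_le) hbT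
  have hns : ∀ x y w : Ω, y ≠ x → w ≠ x → w ≠ y → T ≤ St G w → ∀ S, Syl p S (𝐍(T) ⊓ St2 G x y) →
      T ≤ S → T < S := fun x y w a1 a2 a3 a4 S a5 a6 => lt_of_le_of_ne a6 fun e =>
    (hb x y w T a1 (Syl.of_normalizer_le (e ▸ a5) inf_le_right (inf_comm _ _).le) a4).elim a2 a3
  have K1 : ∀ u ∈ 𝐍(T), Gd u → ∃ k ∈ LZ 𝐍(T) ⊓ St G b, k ≠ 1 ∧ u * k * u⁻¹ = k⁻¹ ∧
      IsPGroup p (zpowers k) ∧ ∀ x, Orb 𝐍(T) c x → k • x = x → u • x ≠ x := fun u a1 a2 => by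
    obtain ⟨d, hd⟩ := exists_zi Ω a2
    have a3 : b ≠ d := fun e => hbad u a1 (e ▸ hd)
    obtain ⟨R, a4, a5, a6⟩ := (oc_inf_St2 a2 a1 rfl (hd.smul_ne a3)).exists_syl_ge hT
      (le_inf le_normalizer (le_inf hbT (le_St_smul hbT a1))) a1
    have a7 := hns b _ d (hd.smul_ne a3) a3.symm (hd.smul_ne' a3).symm
      ((hc u a1 a2).trans hd.cent_le) R a4 a5
    obtain ⟨r, a8, a9⟩ := SetLike.not_le_iff_exists.1 fun e : R ≤ 𝐂[u] =>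
      let ⟨v, b1, b2⟩ := hm R a4.isPGroup a7 d u hd e b
        (a4.le.trans (inf_le_right.trans inf_le_left)); hbad v b1 b2
    have b1 := commutator_zpowers_le_self a6 (conj_mul_mem_commutator a2.ord a8)
    have b2 := isPGroup_of_le (zpowers_le.2 b1) a4.isPGroup
    have b3 : r * u * r⁻¹ * u ≠ 1 := fun e => a9 (mem_cent1_iff.2 (by
      rwa [mul_eq_one_iff_eq_inv, a2.inv, mul_inv_eq_iff_eq_mul] at e))
    refine ⟨_, ⟨mul_mem (mem_LZ (mul_mem (mul_mem (a4.le a8).1 a1) (inv_mem (a4.le a8).1))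
      (a2.conj r)) (mem_LZ a1 a2), (a4.le b1).2.1⟩, b3, inv_conj_mul a2.ord r, b2,
      fun x b4 b5 e => b3 (eq_one_of_inv_of_cent (BS.odd_orderOf (odd_of_isPGroup hp2 b2)
        (mem_zpowers _)) (inv_conj_mul a2.ord r) (mem_cent1_iff.1
          (h1 x b u ⟨a2, e⟩ (hO x b4).symm ⟨⟨b5, (a4.le b1).2.1⟩, (a4.le b1).2.2⟩)))⟩
  have hnc : ¬ 𝐍(T) ≤ St G c := fun e =>
    let ⟨_, a1, _, _, _, a2⟩ := K1 z hzN hz.gd
    a2 c (Orb.refl _ _) (e (LZ_le _ a1.1)) hz.fix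
  have K2 : ∀ X ≤ 𝐍(T), IsPGroup p X → ∃ x, Orb 𝐍(T) c x ∧ X ≤ St G x := fun X a1 a2 => by
    obtain ⟨c', a3, a4⟩ := exists_orb_ne hnc
    have a5 := le_kr_of_nrm (nrm_normalizer T) (hzT.trans hz.cent_le)
    obtain ⟨P, a6, a7⟩ := exists_syl_ge hT (le_inf le_normalizer
      (le_inf (hzT.trans hz.cent_le) (a5.trans (kr_le_St a3))))
    obtain ⟨U, b1, b2⟩ := exists_syl_ge a6.isPGroup (a6.le.trans (inf_le_inf_left _ inf_le_left))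
    have b3 := (hns c c' b a4 hbc (hO c' a3).symm hbT P a6 a7).trans_le b2
    obtain ⟨S, b4, b5⟩ := exists_syl_ge b1.isPGroup (b1.le.trans inf_le_left)
    obtain ⟨n, b6, b7⟩ := Syl.exists_le_cj b4 a2 a1
    suffices ∃ x, Orb 𝐍(T) c x ∧ S ≤ St G x from
      let ⟨x, c1, c2⟩ := this; ⟨n • x, c1.smul b6, b7.trans (cj_le_stab c2 n)⟩
    by_cases e : S ⊓ 𝐍(U) ≤ St G c
    · refine ⟨c, Orb.refl _ _, ?_⟩
      rw [← eq_of_normalizer_le_of_nil b4.isPGroup.isNilpotent b5 (b1.eq_of_le (isPGroup_of_le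
        inf_le_left b4.isPGroup) (le_inf b5 le_normalizer) (le_inf (inf_le_left.trans b4.le) e)).le]
      exact b1.le.trans inf_le_right
    obtain ⟨g, c1, c2⟩ := SetLike.not_le_iff_exists.1 e
    have c3 := b1.le.trans inf_le_right
    have c4 := (Orb.refl 𝐍(T) c).smul (b4.le c1.1)
    obtain ⟨u, -, c5, c6⟩ := h1.exists_cent hy hne hz hzN c4 (c4.smul (b4.le c1.1)) c2
      (fun e => c2 (smul_eq_of_odd (BS.odd_orderOf (odd_of_isPGroup hp2 b4.isPGroup) c1.1) e))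
      (fun e => c2 (smul_left_cancel g e)) (le_inf (b1.le.trans inf_le_left)
        (le_inf (le_inf c3 (le_St_smul c3 c1.2)) (le_St_smul (le_St_smul c3 c1.2) c1.2)))
    obtain ⟨x, c7⟩ := Big.exists_fix hb hy hp2 c b4.isPGroup
    obtain ⟨v, c8, c9⟩ := hm U b1.isPGroup b3 c u c5 (le_cent1_iff.2 c6) x (b5.trans c7)
    exact ⟨x, orb_of_zi hz hzN c9 c8, c7⟩
  have K3 : ∀ u ∈ 𝐍(T), Gd u → ∃ x, Orb 𝐍(T) c x ∧ u • x ≠ x ∧ ∃ k ∈ LZ 𝐍(T) ⊓ St G b,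
      k • x = x ∧ k • u • x = u • x ∧ ∀ v, Zi x v → k * v ≠ v * k := fun u a1 a2 => by
    obtain ⟨k, b1, b2, b3, b4, b5⟩ := K1 u a1 a2
    obtain ⟨x, c1, c2⟩ := K2 _ (zpowers_le.2 (LZ_le _ b1.1)) b4
    have c3 : k • x = x := c2 (mem_zpowers k)
    have c4 := conj_fix c3 u
    rw [b3] at c4
    exact ⟨x, c1, b5 x c1 c3, k, b1, c3, inv_smul_eq_iff.1 c4 |>.symm, fun v hv e =>
      b2 (eq_one_of_inv_of_comm hv.gd a2 hv.fix (b5 x c1 c3)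
        (BS.odd_orderOf (odd_of_isPGroup hp2 b4) (mem_zpowers _)) e b3)⟩
  by_cases hr : Rk2 𝐍(T)
  swap
  · obtain ⟨x, a1, -, k, a2, a3, -, a4⟩ := K3 z hzN hz.gd
    obtain ⟨v, a5, a6⟩ := exists_zi_of_orb a1 hz hzN
    exact a4 v a6 (mem_cent1_iff.1 (h1.le_cent_of_not_rk2 (not_le_St_of_orb hnc a1) a6 a5 hr
      ⟨LZ_le _ a2.1, a3⟩))
  refine false_of_matching hz hzN (fun x y => ∃ k ∈ LZ 𝐍(T) ⊓ St G b, k • x = x ∧ k • y = y ∧ x ≠ y ∧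
    Orb 𝐍(T) x y ∧ ∀ w, Orb 𝐍(T) x w → k • w = w → w = x ∨ w = y)
    (fun x y ⟨k, a1, a2, a3, a4, a5, a6⟩ =>
      ⟨k, a1, a3, a2, a4.symm, a5.symm, fun w b1 b2 => (a6 w (a5.trans b1) b2).symm⟩)
    (fun x y y' a0 ⟨k, a1, a2, _, a4, a5, a6⟩ ⟨k', b1, b2, _, _, _, b6⟩ => ?_) fun u a1 a2 => ?_
  · obtain ⟨v, c1, c2⟩ := exists_zi_of_orb a0 hz hzN
    obtain ⟨Q, hQ⟩ := hy.bt hne hr c2 c1 (not_le_St_of_orb hnc a0)
    obtain ⟨w, c3, c4, c5⟩ := hQ.exists_fix a5 a4.symm (Y := LZ 𝐍(T) ⊓ St G b ⊓ St G x)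
      (odd_of_no_inv fun i hi e => by
        obtain ⟨n, ⟨j, rfl⟩, c3⟩ := hQ.odd i hi.1.1 hi.2
        rw [pow_succ, pow_mul, pow_two, sq1 e, one_pow, one_mul] at c3
        exact hO x a0 (fix_eq (hQ.gd c3 e) hi.2 hi.1.2))
      (inf_le_inf_right _ (inf_le_left.trans (LZ_le _)))
    exact ((a6 w c3 (c5 ⟨a1, a2⟩)).resolve_left c4).symm.trans
      ((b6 w c3 (c5 ⟨b1, b2⟩)).resolve_left c4)
  · obtain ⟨x, b1, b2, k, b3, b4, b5, b6⟩ := K3 u a1 a2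
    refine ⟨x, b1, b2, k, b3, b4, b5, b2.symm, ⟨u, a1, rfl⟩, fun w c1 c2 => ?_⟩
    by_contra c3
    push Not at c3
    obtain ⟨v, c4, c5⟩ := exists_zi_of_orb b1 hz hzN
    obtain ⟨v', -, c6, c7⟩ := h1.exists_cent hy hne c5 c4 ⟨u, a1, rfl⟩ c1 b2 c3.1 c3.2
      (zpowers_le.2 ⟨LZ_le _ b3.1, ⟨b4, b5⟩, c2⟩)
    exact b6 v' c6 (mem_cent_iff.1 c7 k (mem_zpowers k))
/-- (III-p), the case `p ∤ m` -/
theorem exists_cent_of_not_dvd [Fact p.Prime] (hy : Hyp G Ω) (hd : ¬ p ∣ mI (⊤ : Subgroup G) a)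
    (hT : IsPGroup p T) (h : T ≤ St G a) : ∃ z, Zi a z ∧ T ≤ 𝐂[z] := by
  obtain ⟨z, hz⟩ := hy.pt a
  obtain ⟨S, hS⟩ := exists_syl p (St G a ⊓ 𝐂[z])
  have h1 := relIndex_cent1_St hz (mem_top z) (hy.not_le a)
  rw [top_inf_eq] at h1
  obtain ⟨g, hg, h2⟩ := Syl.exists_le_cj (Syl.trans hS inf_le_left
    (by rwa [inf_relIndex_left, h1])) hT h
  exact ⟨_, hz.conj_of_fix hg, by
    rw [← cj_cent1]; exact h2.trans (cj_mono g (hS.le.trans inf_le_right))⟩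
/-- (III-p) -/
theorem exists_cent_of_pgroup (hy : Hyp G Ω) (hb : BigAll G Ω) (h1 : I1 G Ω) (hp : p.Prime)
    (hT : IsPGroup p T) (ht : Zi c t) (h2 : T ≤ 𝐂[t]) (h3 : T ≤ St G a) :
    ∃ z, Zi a z ∧ T ≤ 𝐂[z] := by
  have := Fact.mk hp
  by_cases hd : p ∣ mI (⊤ : Subgroup G) a
  · exact exists_cent_of_big hy h1 (hy.ne_two hd) (hb p a hp hd) hT ht h2 h3
  · exact exists_cent_of_not_dvd hy hd hT h3
theorem partIII (h : Hyp G Ω) (hb : BigAll G Ω) (h1 : I1 G Ω) : C4 G Ω := by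
  intro a c t Y hY ht h2 h3
  by_cases hca : c = a
  · exact ⟨t, hca ▸ ht, le_cent1_iff.1 h2⟩
  by_cases h0 : Y = ⊥
  · obtain ⟨z, hz⟩ := h.pt a
    exact ⟨z, hz, by rw [h0, cent_bot]; exact mem_top z⟩
  obtain ⟨q, hq, h4⟩ : ∃ q : ℕ, q.Prime ∧ core {q} Y ≠ ⊥ := by
    by_contra h4
    push Not at h4
    exact fit_ne_bot (odd_order_solvable hY) h0
      (eq_bot_iff.2 (fit_le_of_forall_pcore fun q hq => (h4 q hq.out).le))
  have := Fact.mk hq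
  have h5 := core_le {q} Y
  obtain ⟨z, hz, h6⟩ := exists_cent_of_pgroup h hb h1 hq (core_isPGroup Y) ht (h5.trans h2)
    (h5.trans h3)
  have hzN := cent_le_norm _ (le_cent1_iff.1 h6)
  have htN := cent_le_norm _ (le_cent1_iff.1 (h5.trans h2))
  obtain ⟨w, -, h7⟩ := h1.exists_cent h (h.norm_ne_top h4 (h5.trans h3)) hz hzN
    (orb_of_zi hz hzN ht htN) ⟨t, htN, rfl⟩ hca (ht.smul_ne (Ne.symm hca))
    (ht.smul_ne' (Ne.symm hca)) (le_inf (core_nrm _ _).norm (le_inf (le_inf h3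
      (h2.trans ht.cent_le)) (le_St_smul h3 (cent_le_norm _ (le_cent1_iff.1 h2)))))
  exact ⟨w, h7⟩
/-- (V) -/
theorem C4.exists_V (h : C4 G Ω) (hy : Hyp G Ω) (ht : Gd t) (hb : t • a ≠ a) :
    ∃ z, Zi a z ∧ So G a (t • a) ⊓ 𝐂[t] = So G a (t • a) ⊓ 𝐂[z] := by
  obtain ⟨c, hc⟩ := exists_zi Ω ht
  obtain ⟨z, hz, h1⟩ := h a c t (So G a (t • a) ⊓ 𝐂[t]) (odd_of_le inf_le_left (odd_core _)) hc
    inf_le_right (inf_le_left.trans (So_le_St _ _))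
  refine ⟨z, hz, eq_of_le_of_card_le (le_inf inf_le_left (le_cent1_iff.2 h1)) (le_of_eq ?_)⟩
  have h2 := card_inf_mul_relIndex 𝐂[z] (So G a (t • a))
  rw [← card_inf_mul_relIndex 𝐂[t] (So G a (t • a)), hy.relIndex_swap_So ht rfl hb a,
    hy.relIndex_fix_So hz hb a, inf_comm, inf_comm 𝐂[t]] at h2
  exact Nat.eq_of_mul_eq_mul_right (hy.mI_pos a) h2
/-- (K#) -/
theorem eq_one_of_inv_of_zi (hz : Zi a z) (ht : Gd t) (hb : t • a ≠ a)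
    (hk : k ∈ So G a (t • a)) (h1 : t * k * t⁻¹ = k⁻¹) (h2 : k * z = z * k) : k = 1 :=
  eq_one_of_inv_of_comm hz.gd ht hz.fix hb (BS.odd_orderOf (odd_core _) hk) h2 h1

end Cfsg.Agent.ZD
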