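import Cfsg.Agent.ZD.Z3
import Cfsg.Agent.ZD.ZIII
import Cfsg.Agent.ZD.ZK
import Cfsg.Agent.H3.StronglyEmb

/-! Theorem ZD implies S1913. -/

set_option autoImplicit false
set_option linter.unusedSectionVars false

namespace Cfsg.Agent.ZD

open Subgroup FT MulAction BS

universe u v

variable {G : Type u} [Group G] [Finite G] {Ω : Type v} [MulAction G Ω]
variable {D : Set G} {a b : Ω} {c d e g u w x : G}

/-- the dihedral group generated by two involutions whose product has odd or twice odd order -/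
theorem dih13 (hu : u * u = 1) (dd : d * d = 1) (h : Odd (orderOf (d * (u * d * u)))) :
    ∃ k : ℕ, ∃ c, c = (d * u) ^ k * d * ((d * u) ^ k)⁻¹ ∧ c = (d * (u * d * u)) ^ k * d ∧
      c * u = u * c ∧ u * c * d = d * (u * c) := by
  obtain ⟨k, hk⟩ := h
  have i1 : ∀ n : ℕ, d * ((d * u) ^ n)⁻¹ = (d * u) ^ n * d := fun n => by
    induction n with
    | zero => simp
    | succ n ih =>
      rw [pow_succ', mul_inv_rev, ← mul_assoc, ih, mul_inv_rev, inv_eq_of_mul_eq_one_right hu,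
        inv_eq_of_mul_eq_one_right dd, ← pow_succ', pow_succ]
      simp only [mul_assoc]
  set x := d * u with hx
  have e0 : d * (u * d * u) = x ^ 2 := by simp only [hx, _root_.sq, mul_assoc]
  have e1 : x ^ k * d * (x ^ k)⁻¹ = x ^ (2 * k) * d := by
    rw [mul_assoc, i1, ← mul_assoc, ← pow_add, two_mul]
  have e2 : x ^ (2 * k + 1) * x ^ (2 * k + 1) = 1 := by
    rw [← pow_add, ← two_mul, pow_mul, ← e0, ← hk, pow_orderOf_eq_one]
  have e3 : x ^ (2 * k) * d = x ^ (2 * k + 1) * u := by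
    rw [pow_succ, mul_assoc, hx, mul_assoc, hu, mul_one]
  have e4 : d * x ^ (2 * k + 1) = x ^ (2 * k + 1) * d := by
    rw [← i1, inv_eq_of_mul_eq_one_right e2]
  have e5 : u * x ^ (2 * k + 1) = x ^ (2 * k + 1) * u := by
    have : u = d * x := by rw [hx, ← mul_assoc, dd, one_mul]
    conv_lhs => rw [this]
    conv_rhs => rw [this]
    rw [mul_assoc, ← pow_succ', ← mul_assoc, ← e4, mul_assoc, ← pow_succ]
  have e6 : u * (x ^ (2 * k + 1) * u) = x ^ (2 * k + 1) := by rw [← e5, ← mul_assoc, hu, one_mul]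
  refine ⟨k, _, rfl, by rw [e1, e0, pow_mul], ?_, ?_⟩
  · rw [e1, e3, e6, mul_assoc, hu, mul_one]
  · rw [e1, e3, e6, e4]

/-- the members of `D` centralizing `u` generate `L_u` -/
abbrev Lu (D : Set G) (u : G) : Subgroup G := closure {x | x ∈ D ∧ x * u = u * x}

omit [Finite G] in
theorem mem_Lu (hx : x ∈ D) (h : x * u = u * x) : x ∈ Lu D u := Subgroup.subset_closure ⟨hx, h⟩
omit [Finite G] in
theorem Lu_le (D : Set G) (u : G) : Lu D u ≤ 𝐂[u] :=
  (closure_le _).2 fun _ h => mem_cent1_iff.2 h.2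

/-- the permutation form of the hypotheses of S1913 -/
structure S13 (Ω : Type v) [MulAction G Ω] (D : Set G) : Prop where
  ord : ∀ d ∈ D, orderOf d = 2
  conj : ∀ d ∈ D, ∀ g : G, g * d * g⁻¹ ∈ D
  ex : ∀ d ∈ D, ∃ a : Ω, d • a = a
  uniq : ∀ d ∈ D, ∀ a b : Ω, d • a = a → d • b = b → a = b
  pt : ∀ a : Ω, ∃ d ∈ D, d • a = a ∧ ∃ S, Syl 2 S ⊤ ∧ S ≤ 𝐂[d]
  two : ∃ a b : Ω, a ≠ b
  Y : ∀ u : G, orderOf u = 2 → ∀ c ∈ D, ∀ d ∈ D, ∀ a : Ω, c * u = u * c → d * u = u * d →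
    c • a = a → d • a ≠ a → u ∉ Lu D u

namespace S13

variable (h : S13 Ω D)
include h

theorem fix_of_comm (hd : d ∈ D) (h1 : d • a = a) (hc : g * d = d * g) : g • a = a :=
  h.uniq d hd _ _ (by rw [smul_smul, ← hc, mul_smul, h1]) h1
/-- (X) -/
theorem odd_mul (hc : c ∈ D) (hd : d ∈ D) (h1 : c • a = a) (h2 : d • a ≠ a) :
    Odd (orderOf (c * d)) := by
  by_contra h0
  obtain ⟨h3, h4, h5⟩ := H3.half_pow_central (sq1 (h.ord c hc)) (sq1 (h.ord d hd))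
    (Nat.not_odd_iff_even.1 h0)
  exact h.Y _ h3 c hc d hd a h4.eq.symm h5.eq.symm h1 h2 (pow_mem (mul_mem
    (mem_Lu (hc) (h4.eq.symm)) (mem_Lu (hd) (h5.eq.symm))) _)
/-- (O2) -/
theorem not_mem_of_ker (hu : orderOf u = 2) (h1 : ∀ a : Ω, u • a = a) : u ∉ Lu D u := by
  have key : ∀ a : Ω, ∃ e ∈ D, e • a = a ∧ e * u = u * e := fun a => by
    obtain ⟨d, hd, h2, S, hS, h3⟩ := h.pt a
    obtain ⟨g, hg, h4⟩ := Syl.exists_le_cj (hS.of_le (h3.trans fun x hx =>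
      h.fix_of_comm hd h2 (mem_cent1_iff.1 hx)) le_top) (isPGroup_zpowers2 hu)
      (zpowers_le.2 (show u ∈ St G a from h1 a))
    refine ⟨_, h.conj d hd g, by simpa only [mem_stabilizer_iff.1 hg] using conj_fix h2 g, ?_⟩
    exact (mem_cent1_iff.1 ((cj_cent1 g d).le (cj_mono g h3 (h4 (mem_zpowers u))))).symm
  obtain ⟨a, b, hab⟩ := h.two
  obtain ⟨c, hc, h2, h3⟩ := key a
  obtain ⟨d, hd, h4, h5⟩ := key b
  exact h.Y u hu c hc d hd a h3 h5 h2 fun e => hab (h.uniq d hd a b e h4)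
/-- (N1) -/
theorem exists_move (hw : orderOf w = 2) (hK : w ∈ closure D) : ∃ a : Ω, w • a ≠ a := by
  by_contra h0
  push Not at h0
  set φ := toPermHom G Ω
  have hM : ∀ x, x ∈ φ.ker ↔ ∀ a : Ω, x • a = a := fun x => by
    rw [MonoidHom.mem_ker, Equiv.ext_iff]; rfl
  have hO : core {2}ᶜ φ.ker ⊴ ⊤ := (nrm_top_iff.2 inferInstance).core _
  have h1 : ∀ d ∈ D, d * (w * d * w) ∈ core {2}ᶜ φ.ker := fun d hd => by
    have dd := sq1 (h.ord d hd)
    set X := (𝐂[φ d]).comap φ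
    have hX : φ.ker ≤ X := fun x hx => mem_cent1_iff.2 (by rw [MonoidHom.mem_ker.1 hx]; simp)
    have hdX : d ∈ X := mem_cent1_iff.2 rfl
    obtain ⟨O, a1, a2, a3⟩ := H3.zstar_commute (G := X) (u := ⟨d, hdX⟩) (Subtype.ext dd)
      fun k hk => by
        by_contra hne
        have b1 : d * (k * d * k.1⁻¹) = k * d * k.1⁻¹ * d := congrArg Subtype.val hk
        have b2 := sq1 (h.ord _ (h.conj d hd k))
        have b3 : d * (d * (k * d * k.1⁻¹)) = d * (k * d * k.1⁻¹) * d := by rw [mul_assoc d, ← b1]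
        have b4 : k * d * k.1⁻¹ * (d * (k * d * k.1⁻¹)) = d * (k * d * k.1⁻¹) * (k * d * k.1⁻¹) := by
          rw [← mul_assoc, ← b1]
        refine h.not_mem_of_ker (u := d * (k * d * k.1⁻¹)) (ord2 ?_ fun e => hne (Subtype.ext ?_))
          ((hM _).1 (MonoidHom.mem_ker.2 ?_)) (mul_mem (mem_Lu (hd) (b3))
            (mem_Lu (h.conj d hd k) (b4)))
        · rw [mul_assoc d, b4, mul_assoc d, b2, mul_one, dd]
        · exact (eq_inv_of_mul_eq_one_right e).trans (inv_eq_of_mul_eq_one_right dd)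
        · rw [map_mul, map_mul, map_mul, mem_cent1_iff.1 k.2, map_inv, mul_inv_cancel_right,
            ← map_mul, dd, map_one]
    have hw' := (hM w).2 h0
    have a4 := mem_map_of_mem X.subtype (a3 ⟨w, hX hw'⟩)
    simp only [coe_subtype, coe_mul, InvMemClass.coe_inv, inv2 hw, inv2 (h.ord d hd)] at a4
    refine le_core (N := O.map X.subtype ⊓ φ.ker) ⟨inf_le_right, le_normalizer_inf
      (hX.trans (nrm_map_subtype O).norm) le_normalizer⟩ (PiG.of_le (odd_iff_piG.1 (by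
        rwa [card_map_of_injective X.subtype_injective])) inf_le_left)
      (mem_inf.2 ⟨by simpa only [mul_assoc] using a4, ?_⟩)
    rw [← mul_assoc, ← mul_assoc]
    have a5 := (inferInstance : φ.ker.Normal).conj_mem w hw' d
    rw [inv2 (h.ord d hd)] at a5
    exact mul_mem a5 hw'
  obtain ⟨o, ho, l, hl, e⟩ := (mem_sup_of_le_normalizer' (le_top.trans hO.norm)).1
    ((closure_le (core {2}ᶜ φ.ker ⊔ Lu D w)).2 (fun d hd => by
      obtain ⟨k, c, e1, e2, e3, -⟩ := dih13 (sq1 hw) (sq1 (h.ord d hd))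
        (BS.odd_orderOf (odd_core _) (h1 d hd))
      rw [← inv_mul_eq_iff_eq_mul] at e2
      rw [← e2]
      exact mul_mem (mem_sup_left (inv_mem (pow_mem (h1 d hd) k)))
        (mem_sup_right (mem_Lu (e1 ▸ h.conj d hd _) (e3)))) hK)
  obtain ⟨n, hn⟩ := BS.odd_orderOf (odd_core _) ho
  have h2 : Commute w l⁻¹ := (show Commute l w from mem_cent1_iff.1 (Lu_le D w hl)).symm.inv_right
  have h3 := pow_orderOf_eq_one o
  rw [hn, eq_mul_inv_of_mul_eq e, h2.mul_pow, pow_succ w, pow_mul, pow_two, sq1 hw, one_pow,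
    one_mul, mul_eq_one_iff_eq_inv] at h3
  exact h.not_mem_of_ker hw h0 ((congrArg (· ∈ Lu D w) h3).mpr (inv_mem (pow_mem (inv_mem hl) _)))
theorem exists_conj (hc : c ∈ D) (hd : d ∈ D) (h1 : c • a = a) (h2 : d • a ≠ a) {N : Subgroup G}
    (h3 : c ∈ N) (h4 : d ∈ N) : ∃ g ∈ N, g * c * g⁻¹ = d :=
  let ⟨k, e, _⟩ := exists_conj_of_odd (h.ord c hc) (h.ord d hd) (h.odd_mul hc hd h1 h2)
  ⟨_, pow_mem (mul_mem h3 h4) k, e⟩
theorem dih (hu : orderOf u = 2) (hK : u ∈ closure D) : ∃ c ∈ D, ∃ d ∈ D, ∃ a : Ω,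
    c * u = u * c ∧ u * c * d = d * (u * c) ∧ d • a = a ∧ c • a ≠ a := by
  obtain ⟨a, ha⟩ := h.exists_move hu hK
  obtain ⟨d, hd, h1, -⟩ := h.pt a
  have h2 := h.odd_mul hd (h.conj d hd u) h1 fun e =>
    ha (h.uniq _ (h.conj d hd u) _ _ (conj_fix h1 u) e)
  rw [inv2 hu] at h2
  obtain ⟨k, c, e1, -, e3, e4⟩ := dih13 (sq1 hu) (sq1 (h.ord d hd)) h2
  have hc : c ∈ D := e1 ▸ h.conj d hd _
  exact ⟨c, hc, d, hd, a, e3, e4, h1, fun e => ha (h.fix_of_comm hc e e3.symm)⟩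
/-- products of commuting members are members -/
theorem mul (hx : x ∈ D) (he : e ∈ D) (hne : x ≠ e) (hc : x * e = e * x) : x * e ∈ D := by
  by_contra hn
  have xx := sq1 (h.ord x hx)
  have ee := sq1 (h.ord e he)
  have hu : orderOf (x * e) = 2 := ord2 (by
    rw [mul_assoc, ← mul_assoc e, ← hc, mul_assoc x, ee, mul_one, xx]) fun e1 =>
      hne ((eq_inv_of_mul_eq_one_left e1).trans (inv_eq_of_mul_eq_one_right ee))
  have hK := mul_mem (subset_closure hx) (subset_closure he)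
  have hL : x * e ∈ Lu D (x * e) := mul_mem (mem_Lu (hx) (by rw [mul_assoc, ← hc]))
    (mem_Lu (he) (by rw [← mul_assoc, ← hc]))
  generalize x * e = u at *
  obtain ⟨c, hc, d, hd, a, h1, h2, h3, h4⟩ := h.dih hu hK
  have cc := sq1 (h.ord c hc)
  have k1 : c * (u * c) = u * c * c := by rw [← mul_assoc, h1]
  obtain ⟨c', hc', d', hd', a', l1, l2, l3, l4⟩ := h.dih (u := u * c)
    (ord2 (by rw [mul_assoc, k1, mul_assoc, cc, mul_one, sq1 hu]) fun e =>
      hn (by rwa [eq_inv_of_mul_eq_one_left e, inv_eq_of_mul_eq_one_right cc]))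
    (mul_mem hK (subset_closure hc))
  obtain ⟨g, hg, e⟩ : ∃ g ∈ 𝐂[u * c], g * c * g⁻¹ = c' := by
    obtain ⟨b, hb⟩ := h.ex c hc
    by_cases e : c' • b = b
    · obtain ⟨g, hg, e1⟩ := h.exists_conj hd hc h3 h4 (mem_cent1_iff.2 h2.symm) (mem_cent1_iff.2 k1)
      obtain ⟨g', hg', e2⟩ := h.exists_conj hd hc' h3 (fun e2 => h4 (h.uniq c' hc' _ _ e e2 ▸ hb))
        (mem_cent1_iff.2 h2.symm) (mem_cent1_iff.2 l1)
      exact ⟨g' * g⁻¹, mul_mem hg' (inv_mem hg), by rw [← e1, ← e2]; group⟩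
    · exact h.exists_conj hc hc' hb e (mem_cent1_iff.2 k1) (mem_cent1_iff.2 l1)
  rw [mem_cent1_iff] at hg
  have e2 : g * u * g⁻¹ = u * c * c' := by
    rw [← e, ← mul_assoc (u * c), ← mul_assoc (u * c), ← hg, mul_assoc g (u * c), mul_assoc u, cc,
      mul_one]
  refine h.Y u hu _ (h.conj d' hd' g⁻¹) _ (h.conj c' hc' g⁻¹) (g⁻¹ • a') ?_ ?_ (conj_fix l3 _)
    (fun e3 => l4 ?_) hL
  · calc _ = g⁻¹ * (d' * (g * u * g⁻¹)) * g := by group
      _ = _ := by rw [e2, ← l2, ← e2]; group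
  · calc _ = g⁻¹ * (c' * (g * u * g⁻¹)) * g := by group
      _ = _ := by rw [e2, ← mul_assoc c', l1, ← e2]; group
  · simpa [mul_smul] using e3

end S13

/-- an involution of `LZ ⊤` is good -/
theorem BtAll.gd (H : BtAll.{u}) {Ω : Type u} [MulAction G Ω] [ZG G] [ZF G Ω] {a b : Ω} {z t : G}
    (hz : Zi a z) (h1 : ¬ (⊤ : Subgroup G) ≤ St G a) (ht : orderOf t = 2) (h2 : t ∈ LZ ⊤)
    (h3 : t • a = a) : Gd t := by
  by_cases hr : Rk2 (⊤ : Subgroup G)
  · obtain ⟨Q, hQ⟩ := H G Ω ⊤ a z hz (mem_top z) hr h1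
    obtain ⟨n, ⟨j, rfl⟩, h4⟩ := hQ.odd t h2 h3
    rw [pow_succ, pow_mul, pow_two, sq1 ht, one_pow, one_mul] at h4
    exact hQ.gd h4 ht
  obtain ⟨o, ho, y, hy, rfl⟩ := (mem_sup_of_le_normalizer' (le_top.trans (core_nrm {2}ᶜ ⊤).norm)).1
    ((LZ_le_iff (K := core {2}ᶜ ⊤ ⊔ zpowers z)).2 (fun u _ hu => by
      rw [← mul_mem_cancel_right (mem_sup_right (mem_zpowers z))]
      exact mem_sup_left (mul_mem_core hr hu (mem_top u) hz.gd (mem_top z))) h2)
  rcases mem_zpowers2 hz.ord hy with rfl | rfl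
  · exact absurd (odd_core _) (not_odd_of_ord2 ht (by rwa [mul_one]))
  · obtain ⟨k, e, -⟩ := exists_conj_of_odd ht hz.ord (by
      rw [mul_assoc, hz.gd.sq, mul_one]; exact BS.odd_orderOf (odd_core _) ho)
    exact Gd.of_conj (e ▸ hz.gd)

theorem s1913_of (HB : BtAll.{u}) (P : Sylow 2 G) (z : G) (hz2 : orderOf z = 2)
    (hzP : z ∈ (Subgroup.center ↥(P : Subgroup G)).map (P : Subgroup G).subtype)
    (H : Subgroup G) (hH : H ≠ ⊤) (hi : ∀ g : G, z ∈ H.map (MulAut.conj g).toMonoidHom ↔ g ∈ H)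
    (hii : ∀ u : G, orderOf u = 2 → u * z = z * u → ¬ Subgroup.centralizer ({u} : Set G) ≤ H →
      Cfsg.IsStronglyEmbedded (H.subgroupOf (Subgroup.closure {x : G | IsConj z x ∧ x * u = u * x}))) :
    Cfsg.IsStronglyEmbedded (H.subgroupOf (Subgroup.normalClosure ({z} : Set G))) := by
  have hs : ∀ g : G, g • ((1 : G) : G ⧸ H) = (1 : G) ↔ g ∈ H := fun g => by
    rw [← mem_stabilizer_iff, stabilizer_quotient]
  have hq : ∀ a : G ⧸ H, ∃ g : G, a = g • ((1 : G) : G ⧸ H) := fun a => by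
    induction a using QuotientGroup.induction_on with
    | H g => exact ⟨g, by simp⟩
  have hz : ∀ a : G ⧸ H, z • a = a ↔ a = (1 : G) := fun a => by
    obtain ⟨g, rfl⟩ := hq a
    rw [hs, ← hi, ← inv_smul_eq_iff, smul_smul, smul_smul, hs, mem_map_equiv, ← inv_mem_iff]
    simp [inv2 hz2, mul_assoc]
  have hc : ∀ (g : G) (a : G ⧸ H), (g * z * g⁻¹) • a = a ↔ a = g • ((1 : G) : G ⧸ H) := fun g a => by
    rw [mul_smul, mul_smul, smul_eq_iff_eq_inv_smul, hz, inv_smul_eq_iff]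
  obtain ⟨g0, hg0⟩ : ∃ g, g ∉ H := by
    by_contra e
    push Not at e
    exact hH (eq_top_iff.2 fun g _ => e g)
  have hD : ∀ x, IsConj z x ↔ ∃ g, g * z * g⁻¹ = x := fun x => isConj_iff
  have hS : S13 (G ⧸ H) {x | IsConj z x} := by
    refine ⟨fun d hd => ?_, fun d hd g => hd.trans (isConj_iff.2 ⟨g, rfl⟩), fun d hd => ?_,
      fun d hd a b h1 h2 => ?_, fun a => ?_, ⟨_, _, (hs g0).not.2 hg0⟩,
      fun u hu c hc' d hd a h1 h2 h3 h4 h5 => ?_⟩
    · obtain ⟨g, rfl⟩ := (hD d).1 hd; exact ord2_conj hz2 g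
    · obtain ⟨g, rfl⟩ := (hD d).1 hd; exact ⟨_, (hc g _).2 rfl⟩
    · obtain ⟨g, rfl⟩ := (hD d).1 hd; rw [(hc g a).1 h1, (hc g b).1 h2]
    · obtain ⟨g, rfl⟩ := hq a
      obtain ⟨y, hy, rfl⟩ := hzP
      refine ⟨_, (hD _).2 ⟨g, rfl⟩, (hc g _).2 rfl, cj g P,
        (H1.sylow_isSylowIn_top P).cj_of_mem (mem_top g), ?_⟩
      rw [← cj_cent1]
      exact cj_mono g fun x hx => mem_cent1_iff.2
        (congrArg Subtype.val (mem_center_iff.1 hy ⟨x, hx⟩))
    · obtain ⟨g, rfl⟩ := (hD c).1 hc'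
      obtain rfl := (hc g a).1 h3
      have a1 : g⁻¹ * u * g * z = z * (g⁻¹ * u * g) := by
        calc _ = g⁻¹ * (u * (g * z * g⁻¹)) * g := by group
          _ = _ := by rw [← h1]; group
      have a2 : ∀ x : G, x * u = u * x → g⁻¹ * x * g * (g⁻¹ * u * g) = g⁻¹ * u * g * (g⁻¹ * x * g) :=
        fun x hx => by simpa using conj_comm g⁻¹ hx
      have a3 : g⁻¹ * u * g ∈ Lu {x | IsConj z x} (g⁻¹ * u * g) := by
        have := mem_map_of_mem (MulAut.conj g⁻¹).toMonoidHom h5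
        rw [MonoidHom.map_closure, show (MulAut.conj g⁻¹).toMonoidHom u = g⁻¹ * u * g by simp] at this
        refine Subgroup.closure_mono ?_ this
        rintro _ ⟨x, hx, rfl⟩
        exact ⟨hx.1.trans (isConj_iff.2 ⟨g⁻¹, by simp⟩), by simpa using a2 x hx.2⟩
      have a4 : orderOf (g⁻¹ * u * g) = 2 := by simpa using ord2_conj hu g⁻¹
      obtain ⟨b1, -, b2⟩ := (H3.isStronglyEmbedded_iff _).1 (hii _ a4 a1 fun e => h4 (by
        have := (hs _).2 (e (mem_cent1_iff.2 (a2 d h2)))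
        rwa [mul_smul, mul_smul, inv_smul_eq_iff] at this))
      have b3 : g⁻¹ * u * g ∈ H :=
        (hs _).1 ((hz _).1 (by rw [smul_smul, ← a1, mul_smul, (hz _).2 rfl]))
      refine b1 (eq_top_iff.2 fun k _ => b2 k ⟨_, a3⟩ b3 (by rw [← orderOf_coe]; exact a4) ?_)
      rw [mem_subgroupOf]
      change k.1 * (g⁻¹ * u * g) * k.1⁻¹ ∈ H
      rwa [mem_cent1_iff.1 (Lu_le _ _ k.2), mul_inv_cancel_right]
  let _ : ZG G := ⟨_, hS.ord, hS.conj, fun _ a _ b => hS.mul a b⟩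
  have : ZF G (G ⧸ H) := ⟨hS.ex, hS.uniq⟩
  have hzi : Zi ((1 : G) : G ⧸ H) z := ⟨IsConj.refl z, (hz _).2 rfl⟩
  have hzK : z ∈ normalClosure ({z} : Set G) := subset_normalClosure rfl
  refine (H3.isStronglyEmbedded_iff _).2 ⟨fun e => hg0 ?_, ⟨⟨z, hzK⟩, (hs z).1 hzi.fix,
    by rw [← orderOf_coe]; exact hz2⟩, fun g t h1 h2 h3 => ?_⟩
  · exact (hs _).1 ((hc g0 _).1 ((hs _).2 (subgroupOf_eq_top.1 e
      (normalClosure_normal.conj_mem z hzK g0)))).symm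
  · have h4 : Gd t.1 := HB.gd (b := ((1 : G) : G ⧸ H)) hzi (not_le_St (mem_top g0) ((hs g0).not.2 hg0))
      (by rwa [orderOf_coe]) ((closure_le (LZ ⊤)).2 (fun x hx => mem_LZ (mem_top x) (by
        obtain ⟨y, rfl, h⟩ := Group.mem_conjugatesOfSet_iff.1 hx; exact h)) t.2) ((hs _).2 h1)
    exact (hs _).1 (fix_of_conj h4 ((hs _).2 h1) ((hs _).2 h3))

end Cfsg.Agent.ZD
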