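import Cfsg.Agent.BS.RedS2
import Cfsg.Agent.BS.Trans

/-! Theorem ZD: a class of good involutions with unique fixed points. Definitions, and the
predicate `OC Y z` (`[Y, z]` has odd order). See `notes/zd_plan.md`. -/

set_option autoImplicit false
set_option linter.unusedSectionVars false

namespace Cfsg.Agent.ZD

open Subgroup FT MulAction BS

universe u v

/-- a conjugation invariant set of involutions, closed under products of commuting members -/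
class ZG (G : Type u) [Group G] where
  D : Set G
  ord : ∀ d ∈ D, orderOf d = 2
  conj : ∀ d ∈ D, ∀ g : G, g * d * g⁻¹ ∈ D
  mul : ∀ d ∈ D, ∀ e ∈ D, d ≠ e → d * e = e * d → d * e ∈ D

/-- `t` is a good involution -/
def Gd {G : Type u} [Group G] [h : ZG G] (t : G) : Prop := t ∈ h.D

/-- good involutions fix exactly one point -/
class ZF (G : Type u) (Ω : Type v) [Group G] [MulAction G Ω] [ZG G] : Prop where
  ex : ∀ t : G, Gd t → ∃ a : Ω, t • a = a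
  uniq : ∀ t : G, Gd t → ∀ a b : Ω, t • a = a → t • b = b → a = b

section defs

variable {G : Type u} [Group G] [ZG G] {Ω : Type v} [MulAction G Ω]

/-- `z` is a good involution fixing `a` -/
structure Zi (a : Ω) (z : G) : Prop where
  gd : Gd z
  fix : z • a = a

/-- the number of good involutions of `N` fixing `a` -/
noncomputable def mI (N : Subgroup G) (a : Ω) : ℕ := {z : G | z ∈ N ∧ Zi a z}.ncard

/-- `N` contains two distinct commuting good involutions -/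
def Rk2 (N : Subgroup G) : Prop := ∃ u ∈ N, ∃ v ∈ N, Gd u ∧ Gd v ∧ u ≠ v ∧ u * v = v * u

/-- the subgroup generated by the good involutions of `N` -/
def LZ (N : Subgroup G) : Subgroup G := closure {z | z ∈ N ∧ Gd z}

/-- the core of the kernel of `N` on the orbit of `a` -/
abbrev ko (N : Subgroup G) (a : Ω) : Subgroup G := core {2}ᶜ (kr N a)

/-- the core of the two-point stabilizer -/
abbrev So (G : Type u) [Group G] {Ω : Type v} [MulAction G Ω] (a b : Ω) : Subgroup G :=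
  core {2}ᶜ (St2 G a b)

/-- `Q` exhibits `N` as a group of Bender type at `a` -/
structure BQ (N : Subgroup G) (a : Ω) (Q : Subgroup G) : Prop where
  nrm : Q ⊴ N ⊓ St G a
  le : Q ≤ LZ N
  trans : ∀ b c, Orb N a b → Orb N a c → b ≠ a → c ≠ a → ∃ x ∈ Q, x • b = c
  free : ∀ x ∈ Q, ∀ b, Orb N a b → b ≠ a → x • b = b → x ∈ ko N a
  two : ∀ x ∈ Q, ∃ n : ℕ, x ^ 2 ^ n ∈ ko N a
  inv : ∀ x ∈ Q, x * x ∈ ko N a → x ∈ ko N a ∨ ∃ z ∈ N, Zi a z ∧ x * z ∈ ko N a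
  sq : ∀ z ∈ N, ∀ z' ∈ N, Zi a z → Zi a z' → z * z' * (z * z') ∈ ko N a
  odd : ∀ y ∈ LZ N, y • a = a → ∃ n : ℕ, Odd n ∧ y ^ n ∈ Q

/-- `N` is of Bender type at `a` -/
def BT (N : Subgroup G) (a : Ω) : Prop := ∃ Q, BQ N a Q

variable (G Ω)

/-- the minimal situation -/
structure Hyp : Prop where
  simple : IsSimpleGroup G
  pt : ∀ a : Ω, ∃ z : G, Zi a z
  two : ∀ a : Ω, ∃ b : Ω, b ≠ a
  rk2 : Rk2 (⊤ : Subgroup G)
  ih : ∀ (N : Subgroup G) (a : Ω), N ≠ ⊤ → Rk2 (N ⊓ St G a) → ¬ N ≤ St G a → BT N a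

/-- configuration (*) -/
def Conf : Prop := ∃ (a b : Ω) (N : Subgroup G) (z : G), b ≠ a ∧ N ≠ ⊤ ∧ So G a b ≤ N ∧ z ∈ N ∧
  Zi a z ∧ ¬ N ≤ St G a

/-- good involutions with the same fixed point commute -/
def Comm : Prop := ∀ (a : Ω) (z z' : G), Zi a z → Zi a z' → z * z' = z' * z

/-- `G_{a,b,zb}` centralizes `z` -/
def I1 : Prop := ∀ (a b : Ω) (z : G), Zi a z → b ≠ a → St3 G a b (z • b) ≤ 𝐂[z]

/-- the triple property for the prime `p` -/
def P3 (p : ℕ) : Prop := ∀ (a b : Ω) (z : G) (T : Subgroup G), Zi a z → b ≠ a → IsPGroup p T →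
  T ≤ St3 G a b (z • b) → z ∈ 𝐍(T) →
  ¬ p ^ (mI (⊤ : Subgroup G) a).factorization p ∣ (𝐂[z]).relIndex T

/-- `Big p` for all primes dividing the number of good involutions of a point stabilizer -/
def BigAll : Prop := ∀ (p : ℕ) (a : Ω), p.Prime → p ∣ mI (⊤ : Subgroup G) a → Big G Ω p

/-- an odd subgroup centralizing a good involution and fixing a second point is centralized by a
good involution at each of its fixed points -/
def C4 : Prop := ∀ (a c : Ω) (t : G) (Y : Subgroup G), Odd ♯Y → Zi c t → Y ≤ 𝐂[t] →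
  Y ≤ St G a → ∃ z, Zi a z ∧ z ∈ 𝐂(Y)

end defs

section oc

variable {G : Type u} [Group G] [Finite G] {Y T S P W : Subgroup G} {z x : G} {p : ℕ}

/-- the involution `z` normalizes `Y` and `[Y, z]` has odd order -/
structure OC (Y : Subgroup G) (z : G) : Prop where
  ord : orderOf z = 2
  norm : z ∈ 𝐍(Y)
  odd : Odd ♯(⁅Y, zpowers z⁆ : Subgroup G)

theorem OC.of_odd (hY : Odd ♯Y) (hz : orderOf z = 2) (hn : z ∈ 𝐍(Y)) : OC Y z :=
  ⟨hz, hn, odd_of_le (commutator_zpowers_le_self hn) hY⟩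

namespace OC

variable (h : OC Y z)
include h

theorem mono (h1 : W ≤ Y) (h2 : z ∈ 𝐍(W)) : OC W z :=
  ⟨h.ord, h2, odd_of_le (commutator_mono h1 le_rfl) h.odd⟩
theorem le : ⁅Y, zpowers z⁆ ≤ Y := commutator_zpowers_le_self h.norm
theorem nrm : ⁅Y, zpowers z⁆ ⊴ Y := commutator_zpowers_nrm h.norm
theorem le_core : ⁅Y, zpowers z⁆ ≤ core {2}ᶜ Y := FT.le_core h.nrm (odd_iff_piG.1 h.odd)
theorem odd_conj_mul (hx : x ∈ Y) : Odd (orderOf (x * z * x⁻¹ * z)) :=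
  BS.odd_orderOf h.odd (conj_mul_mem_commutator h.ord hx)
/-- `Y = [Y, z] C_Y(z)` -/
theorem exists_mul (hx : x ∈ Y) : ∃ y ∈ ⁅Y, zpowers z⁆, z * y * z⁻¹ = y⁻¹ ∧
    ∃ c ∈ Y ⊓ 𝐂[z], x = y * c := by
  have h1 := conj_mul_mem_commutator h.ord hx
  obtain ⟨k, e1, -⟩ := exists_conj_of_odd (ord2_conj h.ord x) h.ord (h.odd_conj_mul hx)
  have h2 := pow_mem h1 k
  refine ⟨_, inv_mem h2, by rw [← conj_inv, ← conj_pow, inv_conj_mul h.ord, inv_pow],
    (x * z * x⁻¹ * z) ^ k * x, mem_inf.2 ⟨mul_mem (h.le h2) hx, ?_⟩, (inv_mul_cancel_left _ _).symm⟩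
  rw [mem_cent1_iff, ← mul_inv_eq_iff_eq_mul, mul_inv_rev]
  simpa only [mul_assoc] using e1
theorem exists_cent_mul (hx : x ∈ Y) : ∃ c ∈ Y ⊓ 𝐂[z], ∃ y ∈ ⁅Y, zpowers z⁆,
    z * y * z⁻¹ = y⁻¹ ∧ x = c * y := by
  obtain ⟨y, hy, e, c, hc, e1⟩ := h.exists_mul (inv_mem hx)
  exact ⟨c⁻¹, inv_mem hc, y⁻¹, inv_mem hy, by rw [← conj_inv, e], by
    rw [← mul_inv_rev, ← e1, inv_inv]⟩
theorem sup_eq : ⁅Y, zpowers z⁆ ⊔ (Y ⊓ 𝐂[z]) = Y :=
  le_antisymm (sup_le h.le inf_le_left) fun _ hx =>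
    let ⟨_, hy, _, _, hc, e⟩ := h.exists_mul hx
    e ▸ mul_mem (mem_sup_left hy) (mem_sup_right hc)
/-- `[W, z] = [Y, z]` for `[Y, z] ≤ W ≤ Y` -/
theorem commutator_eq (h1 : ⁅Y, zpowers z⁆ ≤ W) (h2 : W ≤ Y) :
    ⁅W, zpowers z⁆ = ⁅Y, zpowers z⁆ := by
  refine le_antisymm (commutator_mono h2 le_rfl) (commutator_zpowers_le h.ord fun g hg => ?_)
  obtain ⟨y, hy, -, c, hc, rfl⟩ := h.exists_mul hg
  rw [show y * c * z * (y * c)⁻¹ * z = y * (c * z * c⁻¹) * y⁻¹ * z by group, mem_cent1_iff.1 hc.2,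
    mul_inv_cancel_right]
  exact conj_mul_mem_commutator h.ord (h1 hy)
theorem idem : ⁅⁅Y, zpowers z⁆, zpowers z⁆ = ⁅Y, zpowers z⁆ := h.commutator_eq le_rfl h.le
theorem commutator_core : ⁅core {2}ᶜ Y, zpowers z⁆ = ⁅Y, zpowers z⁆ :=
  h.commutator_eq h.le_core (core_le _ _)
theorem le_of_le (h1 : ⁅Y, zpowers z⁆ ≤ W) : ⁅Y, zpowers z⁆ ≤ ⁅W, zpowers z⁆ :=
  h.idem.ge.trans (commutator_mono h1 le_rfl)
theorem not_le_cent (h1 : ¬ Y ≤ 𝐂[z]) : ¬ ⁅Y, zpowers z⁆ ≤ 𝐂[z] := by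
  rwa [← commutator_zpowers_eq_bot, h.idem, commutator_zpowers_eq_bot]
theorem relIndex_eq (h1 : ⁅Y, zpowers z⁆ ≤ W) (h2 : W ≤ Y) :
    (𝐂[z]).relIndex W = (𝐂[z]).relIndex Y :=
  le_antisymm (relIndex_le_of_le h2) (relIndex_le_of_exists_mul h2 fun _ hx =>
    let ⟨y, hy, _, c, hc, e⟩ := h.exists_mul hx; ⟨y, h1 hy, c, hc.2, e⟩)
theorem relIndex_commutator : (𝐂[z]).relIndex ⁅Y, zpowers z⁆ = (𝐂[z]).relIndex Y :=
  h.relIndex_eq le_rfl h.le
theorem odd_relIndex : Odd ((𝐂[z]).relIndex Y) :=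
  h.relIndex_commutator ▸ h.odd.of_dvd_nat (relIndex_dvd_card' _ _)
/-- (0.2) -/
theorem relIndex_dvd [Fact p.Prime] (hT : IsPGroup p T) (h1 : T ≤ Y) (hn : z ∈ 𝐍(T)) :
    (𝐂[z]).relIndex T ∣ (𝐂[z]).relIndex Y := by
  rw [← (h.mono h1 hn).relIndex_commutator, ← h.relIndex_commutator]
  exact relIndex_cent1_dvd h.odd h.ord (mem_norm_commutator_self _ _)
    (isPGroup_of_le (h.mono h1 hn).le hT) (commutator_mono h1 le_rfl) (mem_norm_commutator_self _ _)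
theorem relIndex_syl [Fact p.Prime] (hT : Syl p T Y) (hn : z ∈ 𝐍(T)) :
    (𝐂[z]).relIndex T = p ^ ((𝐂[z]).relIndex Y).factorization p := by
  rw [← h.relIndex_commutator, ← relIndex_cent1_syl h.odd h.ord (mem_norm_commutator_self _ _)
    (hT.inf_of_nrm h.nrm) (mem_norm_inf hn (mem_norm_commutator_self _ _))]
  exact ((h.mono hT.le hn).relIndex_eq
    (le_inf (h.mono hT.le hn).le (commutator_mono hT.le le_rfl)) inf_le_left).symm
/-- a Sylow subgroup of `C_Y(z)` together with `[Y, z]` has `p'`-index -/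
theorem not_dvd_relIndex [Fact p.Prime] (hP : Syl p P (Y ⊓ 𝐂[z])) :
    ¬ p ∣ (⁅Y, zpowers z⁆ ⊔ P).relIndex Y := by
  have h1 := (hP.bar (N := ⁅Y, zpowers z⁆) (inf_le_left.trans h.nrm.norm)).not_dvd
  rwa [relIndex_bar' ((hP.le.trans inf_le_left).trans h.nrm.norm) (inf_le_left.trans h.nrm.norm),
    sup_comm (Y ⊓ _), h.sup_eq, sup_comm] at h1
theorem exists_syl (p : ℕ) [Fact p.Prime] : ∃ S, Syl p S Y ∧ z ∈ 𝐍(S) := by
  obtain ⟨P, hP⟩ := FT.exists_syl p (Y ⊓ 𝐂[z])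
  have h1 : P ≤ 𝐍(⁅Y, zpowers z⁆) := (hP.le.trans inf_le_left).trans h.nrm.norm
  have h2 : z ∈ 𝐍(P) := cent_le_norm _ (le_cent1_iff.1 (hP.le.trans inf_le_right))
  have h3 := h.not_dvd_relIndex hP
  by_cases e : p = 2
  · subst e
    refine ⟨P, (Syl.trans (Syl.refl hP.isPGroup) le_sup_right ?_).trans
      (sup_le h.le (hP.le.trans inf_le_left)) h3, h2⟩
    exact not_dvd_relIndex_of_factorization le_sup_right
      (factorization_card_sup_le (odd_iff_piG.1 h.odd) h1)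
  obtain ⟨S, hS, h4⟩ := exists_inv_syl p (odd_sup h.odd (odd_of_isPGroup e hP.isPGroup) h1) h.ord
    (mem_norm_sup (mem_norm_commutator_self _ _) h2)
  exact ⟨S, hS.trans (sup_le h.le (hP.le.trans inf_le_left)) h3, h4⟩
theorem exists_syl_ge [Fact p.Prime] (hT : IsPGroup p T) (h1 : T ≤ Y) (hn : z ∈ 𝐍(T)) :
    ∃ S, Syl p S Y ∧ T ≤ S ∧ z ∈ 𝐍(S) := by
  obtain ⟨S, h2, h3⟩ := Finite.exists_le_maximal
    (p := fun X : Subgroup G => IsPGroup p X ∧ X ≤ Y ∧ z ∈ 𝐍(X)) ⟨hT, h1, hn⟩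
  obtain ⟨a1, a2, a3⟩ := h3.prop
  obtain ⟨R, hR, h4⟩ := (h.mono inf_le_left (mem_norm_inf h.norm (mem_norm_of_mem a3))).exists_syl p
  have h5 : S ≤ R := hR.le_of_normalizes a1 (le_inf a2 le_normalizer) (hR.le.trans inf_le_right)
  rw [← le_antisymm h5 (h3.le_of_ge ⟨hR.isPGroup, hR.le.trans inf_le_left, h4⟩ h5)] at hR
  exact ⟨S, hR.of_normalizer_le inf_le_left le_rfl, h2, a3⟩
/-- every `2`-subgroup of `Y` is centralized by a conjugate of `z` -/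
theorem exists_cent_two (hT : IsPGroup 2 T) (h1 : T ≤ Y) : ∃ y ∈ Y, T ≤ 𝐂[y * z * y⁻¹] := by
  obtain ⟨P, hP⟩ := FT.exists_syl 2 (Y ⊓ 𝐂[z])
  obtain ⟨g, hg, h2⟩ := Syl.exists_le_cj (hP.trans inf_le_left (by
    rw [inf_relIndex_left, ← even_iff_two_dvd, Nat.not_even_iff_odd]; exact h.odd_relIndex)) hT h1
  exact ⟨g, hg, by rw [← cj_cent1]; exact h2.trans (cj_mono g (hP.le.trans inf_le_right))⟩
/-- an invariant Sylow subgroup is not centralized if some invariant `p`-subgroup is not -/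
theorem syl_not_le_cent [hp : Fact p.Prime] (hP : IsPGroup p P) (h1 : P ≤ Y) (h2 : z ∈ 𝐍(P))
    (h3 : ¬ P ≤ 𝐂[z]) (hT : Syl p T Y) (h4 : z ∈ 𝐍(T)) : ¬ T ≤ 𝐂[z] := by
  rw [← relIndex_eq_one] at h3 ⊢
  obtain ⟨q, hq, h5⟩ := Nat.exists_prime_and_dvd h3
  obtain rfl := eq_of_isPGroup_of_dvd hP hq (h5.trans (relIndex_dvd_card' _ _))
  have := hq.factorization_pos_of_dvd (relIndex_pos _ _).ne' (h5.trans (h.relIndex_dvd hP h1 h2))
  rw [h.relIndex_syl hT h4]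
  exact (Nat.one_lt_pow this.ne' hq.one_lt).ne'
theorem syl_inf_cent [Fact p.Prime] (hT : Syl p T Y) (hn : z ∈ 𝐍(T)) :
    Syl p (T ⊓ 𝐂[z]) (Y ⊓ 𝐂[z]) := by
  refine ⟨inf_le_inf_right _ hT.le, isPGroup_of_le inf_le_left hT.isPGroup,
    not_dvd_relIndex_of_factorization (inf_le_inf_right _ hT.le) (le_of_eq ?_)⟩
  have h1 := congrArg (·.factorization p) (card_inf_mul_relIndex 𝐂[z] T)
  have h2 := congrArg (·.factorization p) (card_inf_mul_relIndex 𝐂[z] Y)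
  simp only [Nat.factorization_mul (card_ne_zero _) (relIndex_pos _ _).ne', Finsupp.add_apply,
    inf_comm 𝐂[z]] at h1 h2
  rw [h.relIndex_syl hT hn, Nat.Prime.factorization_pow Fact.out, Finsupp.single_eq_same,
    Syl.factorization_eq hT] at h1
  omega

end OC

end oc

end Cfsg.Agent.ZD
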