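import Cfsg.Agent.ZD.Z0

/-! Theorem ZD: basic facts on good involutions (port of `BS/Basic`, `BS/Count`, `BS/Red1`). -/

set_option autoImplicit false
set_option linter.unusedSectionVars false

namespace Cfsg.Agent.ZD

open Subgroup FT MulAction BS

universe u v

variable {G : Type u} [Group G] [Finite G] [hZ : ZG G] {Ω : Type v} [MulAction G Ω]
variable {N Y T Q K W : Subgroup G} {a b c : Ω} {z z' t u v w g x k : G} {p : ℕ}

/-- the core of the three-point stabilizer -/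
abbrev So3 (G : Type u) [Group G] {Ω : Type v} [MulAction G Ω] (a b c : Ω) : Subgroup G :=
  core {2}ᶜ (St3 G a b c)

theorem Gd.ord (h : Gd t) : orderOf t = 2 := hZ.ord t h
theorem Gd.conj (h : Gd t) (g : G) : Gd (g * t * g⁻¹) := hZ.conj t h g
theorem Gd.conj' (h : Gd t) (g : G) : Gd (g⁻¹ * t * g) := by simpa using h.conj g⁻¹
theorem Gd.of_conj (h : Gd (g * t * g⁻¹)) : Gd t := by simpa [mul_assoc] using h.conj' g
theorem Gd.mul (h : Gd u) (h' : Gd v) (hne : u ≠ v) (hc : u * v = v * u) : Gd (u * v) :=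
  hZ.mul u h v h' hne hc
theorem Gd.sq (h : Gd t) : t * t = 1 := sq1 h.ord
theorem Gd.inv (h : Gd t) : t⁻¹ = t := inv2 h.ord
theorem Gd.ne_one (h : Gd t) : t ≠ 1 := ne1 h.ord
theorem Gd.pow_mul (hu : Gd u) (hv : Gd v) (k : ℕ) : Gd ((u * v) ^ k * u) := by
  have e : ∀ (s : G) (n : ℕ), s * (u * v)⁻¹ * s⁻¹ = u * v →
      (u * v) ^ n * s * ((u * v) ^ n)⁻¹ = (u * v) ^ (2 * n) * s := fun s n h => by
    rw [mul_assoc, show s * ((u * v) ^ n)⁻¹ = s * ((u * v)⁻¹) ^ n * s⁻¹ * s by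
      rw [inv_pow]; group, ← conj_pow, h, ← mul_assoc, ← pow_add, two_mul]
  obtain ⟨n, rfl | rfl⟩ := Nat.even_or_odd' k
  · rw [← e u n (by rw [mul_inv_rev, hu.inv, hv.inv, mul_assoc, mul_assoc, hu.sq, mul_one])]
    exact hu.conj _
  · have := hv.conj ((u * v) ^ (n + 1))
    rwa [e v (n + 1) (by rw [mul_inv_rev, hu.inv, hv.inv, ← mul_assoc, hv.sq, one_mul]),
      show 2 * (n + 1) = 2 * n + 1 + 1 by ring, pow_succ, mul_assoc, mul_assoc u, hv.sq,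
      mul_one] at this
/-- an element of odd order inverted by a good involution -/
theorem Gd.mul_of_inv (hz : Gd z) (ho : Odd (orderOf x)) (h : z * x * z⁻¹ = x⁻¹) : Gd (x * z) := by
  obtain ⟨n, hn⟩ := ho
  have e1 : z * (x ^ (n + 1))⁻¹ = x ^ (n + 1) * z := by
    rw [← inv_pow, ← h, conj_pow, hz.inv, ← mul_assoc, ← mul_assoc, hz.sq, one_mul]
  have := hz.conj (x ^ (n + 1))
  rwa [mul_assoc, e1, ← mul_assoc, ← pow_add, show n + 1 + (n + 1) = 2 * n + 1 + 1 by ring,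
    pow_succ, ← hn, pow_orderOf_eq_one, one_mul] at this
theorem Zi.ord (h : Zi a z) : orderOf z = 2 := h.gd.ord
theorem Zi.conj (h : Zi a z) (g : G) : Zi (g • a) (g * z * g⁻¹) := ⟨h.gd.conj g, conj_fix h.fix g⟩
theorem Zi.conj_of_fix (h : Zi a z) (hg : g • a = a) : Zi a (g * z * g⁻¹) := by
  have := h.conj g; rwa [hg] at this
theorem Zi.mem_norm_St3 (h : Zi a z) (b : Ω) : z ∈ 𝐍(St3 G a b (z • b)) := by
  rw [← cj_eq_iff_mem_normalizer, cj_St3, h.fix, smul_smul2 h.ord, St3, St3, inf_right_comm]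
theorem Zi.mem_norm_St2 (hz : Zi a z) (b : Ω) : z ∈ 𝐍(St2 G b (z • b)) :=
  BS.mem_norm_St2 hz.ord rfl
theorem Zi.mem_norm_St (h : Zi a z) : z ∈ 𝐍(St G a) := le_normalizer h.fix
theorem Zi.mul (h : Zi a z) (h' : Zi a z') (hne : z ≠ z') (hc : z * z' = z' * z) :
    Zi a (z * z') := ⟨h.gd.mul h'.gd hne hc, by rw [mul_smul, h'.fix, h.fix]⟩
theorem exists_zi_of_orb (h : Orb N a b) (hz : Zi a z) (hN : z ∈ N) : ∃ z' ∈ N, Zi b z' :=
  let ⟨k, h1, h2⟩ := h; ⟨_, mul_mem (mul_mem h1 hN) (inv_mem h1), h2 ▸ hz.conj k⟩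
theorem Rk2.mono {N' : Subgroup G} (h : Rk2 N) (h' : N ≤ N') : Rk2 N' :=
  let ⟨u, h1, v, h2, h3⟩ := h; ⟨u, h' h1, v, h' h2, h3⟩
theorem Rk2.cj (h : Rk2 N) (g : G) : Rk2 (cj g N) := by
  obtain ⟨u, h1, v, h2, h3, h4, h5, h6⟩ := h
  refine ⟨_, conj_mem_cj h1, _, conj_mem_cj h2, h3.conj g, h4.conj g,
    fun e => h5 (by simpa using e), ?_⟩
  rw [conj_mul, conj_mul, h6]
theorem mem_LZ (hN : z ∈ N) (hz : Gd z) : z ∈ LZ N := subset_closure ⟨hN, hz⟩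
theorem LZ_le_iff : LZ N ≤ K ↔ ∀ z ∈ N, Gd z → z ∈ K :=
  (closure_le _).trans ⟨fun h z a b => h ⟨a, b⟩, fun h z a => h z a.1 a.2⟩
theorem LZ_le (N : Subgroup G) : LZ N ≤ N := LZ_le_iff.2 fun _ h _ => h
theorem norm_le_norm_LZ (N : Subgroup G) : 𝐍(N) ≤ 𝐍(LZ N) := by
  rw [LZ, le_normalizer_closure_iff]
  rintro g hg x hx
  exact subset_closure ⟨conj_mem_of_mem_normalizer hg hx.1, hx.2.conj g⟩
theorem LZ_nrm (N : Subgroup G) : LZ N ⊴ N := ⟨LZ_le N, le_normalizer.trans (norm_le_norm_LZ N)⟩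
theorem mI_eq (ho : Orb N a b) : mI N a = mI N b := by
  obtain ⟨g, h1, rfl⟩ := ho
  refine Set.ncard_congr (fun y _ => g * y * g⁻¹)
    (fun y hy => ⟨mul_mem (mul_mem h1 hy.1) (inv_mem h1), hy.2.conj g⟩)
    (fun _ _ _ _ e => by simpa using e) fun y hy => ⟨g⁻¹ * y * g, ⟨mul_mem (mul_mem (inv_mem h1)
      hy.1) h1, by simpa using hy.2.conj g⁻¹⟩, by group⟩

theorem ko_le (N : Subgroup G) (a : Ω) : ko N a ≤ kr N a := core_le _ _
theorem ko_nrm (N : Subgroup G) (a : Ω) : ko N a ⊴ N := (kr_nrm N a).core _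
theorem odd_ko (N : Subgroup G) (a : Ω) : Odd ♯(ko N a) := odd_core _
theorem ko_eq (h : Orb N a b) : ko N a = ko N b := by rw [ko, kr_eq h]
theorem ko_le_St (h : Orb N a b) : ko N a ≤ St G b := (ko_le N a).trans (kr_le_St h)
theorem mI_pos (hz : Zi a z) (hN : z ∈ N) : 0 < mI N a :=
  (Set.ncard_pos (Set.toFinite _)).2 ⟨z, hN, hz⟩
/-- the central involution of a dihedral group generated by good involutions is good -/
theorem Gd.half (hu : Gd u) (hv : Gd v) (h : ¬ Odd (orderOf (u * v))) :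
    ∃ n : ℕ, Gd ((u * v) ^ n) ∧ (u * v) ^ n * u = u * (u * v) ^ n ∧
      (u * v) ^ n * v = v * (u * v) ^ n := by
  obtain ⟨h3, h4, h5⟩ := H3.half_pow_central hu.sq hv.sq (Nat.not_odd_iff_even.1 h)
  refine ⟨_, ?_, h4.eq, h5.eq⟩
  have := (hu.pow_mul hv (orderOf (u * v) / 2)).mul hu (fun e => ne1 h3 (by simpa using e))
    (by rw [← mul_assoc, ← h4.eq])
  rwa [mul_assoc, hu.sq, mul_one] at this
/-- (0.5) Glauberman's `Z*`-theorem in rank one -/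
theorem conj_mul_mem_core (h : ¬ Rk2 N) (hu : Gd u) (huN : u ∈ N) (hg : g ∈ N) :
    g * u * g⁻¹ * u ∈ core {2}ᶜ N := by
  obtain ⟨O, h1, h2, h3⟩ := H3.zstar_commute (G := N) (u := ⟨u, huN⟩) (Subtype.ext hu.sq)
    fun k hk => by
      by_contra hne
      exact h ⟨u, huN, _, (k * ⟨u, huN⟩ * k⁻¹).2, hu, hu.conj k,
        fun e => hne (Subtype.ext e.symm), congrArg Subtype.val hk⟩
  have h4 : O.map N.subtype ≤ core {2}ᶜ N := le_core (nrm_map_subtype O)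
    (odd_iff_piG.1 (by rwa [card_map_of_injective N.subtype_injective]))
  have h5 := inv_mem (h4 (mem_map_of_mem _ (h3 ⟨g, hg⟩)))
  simp only [coe_subtype, coe_mul, InvMemClass.coe_inv, mul_inv_rev, inv_inv, hu.inv] at h5
  simpa only [mul_assoc] using h5
theorem mul_mem_core (h : ¬ Rk2 N) (hu : Gd u) (huN : u ∈ N) (hz : Gd z)
    (hzN : z ∈ N) : u * z ∈ core {2}ᶜ N := by
  by_cases e : u = z
  · rw [e, hz.sq]; exact one_mem _
  have ho : Odd (orderOf (z * u)) := by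
    by_contra h1
    obtain ⟨n, h3, h4, h5⟩ := hz.half hu h1
    have hm : (z * u) ^ n ∈ N := pow_mem (mul_mem hzN huN) _
    by_cases e1 : (z * u) ^ n = u
    · exact h ⟨u, huN, z, hzN, hu, hz, e, by rw [e1] at h4; exact h4⟩
    · exact h ⟨_, hm, u, huN, h3, hu, e1, h5⟩
  obtain ⟨k, e1, -⟩ := exists_conj_of_odd hz.ord hu.ord ho
  rw [← e1]
  exact conj_mul_mem_core h hz hzN (pow_mem (mul_mem hzN huN) k)
theorem commutator_le_core (h : ¬ Rk2 N) (hu : Gd u) (huN : u ∈ N) (hY : Y ≤ N) :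
    ⁅Y, zpowers u⁆ ≤ core {2}ᶜ N :=
  commutator_zpowers_le hu.ord fun _ hg => conj_mul_mem_core h hu huN (hY hg)
theorem oc_of_not_rk2 (h : ¬ Rk2 N) (hu : Gd u) (huN : u ∈ N) (hY : Y ≤ N) (hn : u ∈ 𝐍(Y)) :
    OC Y u := ⟨hu.ord, hn, odd_of_le (commutator_le_core h hu huN hY) (odd_core N)⟩
/-- in rank one `N = O(N) C_N(u)` -/
theorem exists_core_mul_cent (h : ¬ Rk2 N) (hu : Gd u) (huN : u ∈ N) (hg : g ∈ N) :
    ∃ o ∈ core {2}ᶜ N, ∃ c ∈ N ⊓ 𝐂[u], g = o * c :=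
  let ⟨y, h1, _, h2⟩ := (oc_of_not_rk2 h hu huN le_rfl (le_normalizer huN)).exists_mul hg
  ⟨y, commutator_le_core h hu huN le_rfl h1, h2⟩
theorem Rk2.of_odd_relIndex {S H : Subgroup G} (h : Rk2 S) (h1 : H ≤ S)
    (h2 : ¬ 2 ∣ H.relIndex S) : Rk2 H := by
  obtain ⟨u, hu, v, hv, h3, h4, h5, h6⟩ := h
  obtain ⟨U, hU, -, -, hU3⟩ := four_group h3.ord h4.ord h5 h6
  obtain ⟨Q, hQ⟩ := exists_syl 2 H
  obtain ⟨g, -, hg⟩ := (hQ.trans h1 h2).exists_cj_le hU fun x hx => by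
    rcases (hU3 x).1 hx with rfl | rfl | rfl | rfl
    exacts [one_mem _, hu, hv, mul_mem hu hv]
  refine Rk2.mono (Rk2.cj ⟨u, (hU3 u).2 (by simp), v, (hU3 v).2 (by simp), h3, h4, h5, h6⟩ g)
    (hg.trans hQ.le)
/-- in rank one `[Y, z] ≤ [O(N) ∩ W, z]` -/
theorem commutator_le_commutator_core (h : ¬ Rk2 N) (hz : Gd z) (hN : z ∈ N)
    (hn : z ∈ 𝐍(Y)) (h1 : Y ≤ N) (h2 : Y ≤ W) :
    ⁅Y, zpowers z⁆ ≤ ⁅core {2}ᶜ N ⊓ W, zpowers z⁆ :=
  (oc_of_not_rk2 h hz hN h1 hn).le_of_le (le_inf (commutator_le_core h hz hN h1)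
    ((commutator_zpowers_le_self hn).trans h2))
omit hZ in
theorem core_le_core_of_mul {π : Set ℕ} {A B : Subgroup G} (h : B ≤ A)
    (h1 : ∀ x ∈ A, ∃ o ∈ core π A, ∃ y ∈ B, x = o * y) : core π B ≤ core π A := by
  have hA := core_nrm π A
  have hB := core_nrm π B
  refine le_sup_right.trans (le_core (π := π) (N := core π A ⊔ core π B) (H := A)
    ⟨sup_le hA.le (hB.le.trans h), fun x hx => ?_⟩
    ((core_piG π A).sup (core_piG π B) ((hB.le.trans h).trans hA.norm)))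
  obtain ⟨o, ho, y, hy, rfl⟩ := h1 x hx
  exact mul_mem (le_normalizer (mem_sup_left ho)) (mem_norm_sup (hA.norm (h hy)) (hB.norm hy))

variable [hG : ZF G Ω]

theorem fix_eq (ht : Gd t) (h1 : t • a = a) (h2 : t • b = b) : a = b := hG.uniq t ht a b h1 h2
theorem exists_fix (Ω : Type v) [MulAction G Ω] [hG : ZF G Ω] (ht : Gd t) : ∃ a : Ω, t • a = a :=
  hG.ex t ht
theorem exists_zi (Ω : Type v) [MulAction G Ω] [hG : ZF G Ω] (ht : Gd t) : ∃ a : Ω, Zi a t :=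
  let ⟨a, h⟩ := exists_fix Ω ht; ⟨a, ht, h⟩
theorem fix_of_conj (ht : Gd t) (h : t • a = a) (h2 : (g * t * g⁻¹) • b = b) : g • a = b :=
  fix_eq (ht.conj g) (conj_fix h g) h2
theorem fix_of_comm (ht : Gd t) (h : t • a = a) (hc : g * t = t * g) : g • a = a :=
  fix_of_conj ht h (by rw [hc, mul_inv_cancel_right, h])
theorem cent1_le_stab (ht : Gd t) (h : t • a = a) : 𝐂[t] ≤ stabilizer G a :=
  fun _ hg => fix_of_comm ht h (mem_cent1_iff.1 hg)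
theorem norm_le_stab (ht : Gd t) (h1 : t ∈ Y) (h : Y ≤ stabilizer G a) : 𝐍(Y) ≤ stabilizer G a :=
  fun _ hg => fix_of_conj ht (h h1) (h (conj_mem_of_mem_normalizer hg h1))
theorem Zi.smul_ne (h : Zi a z) (hb : b ≠ a) : z • b ≠ b := fun e => hb (fix_eq h.gd e h.fix)
theorem Zi.smul_ne' (h : Zi a z) (hb : b ≠ a) : z • b ≠ a := fun e => hb (by
  rw [← smul_smul2 h.ord b, e, h.fix])
theorem Zi.cent_le (h : Zi a z) : 𝐂[z] ≤ St G a := cent1_le_stab h.gd h.fix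
theorem Zi.eq (h : Zi a z) (h' : Zi b z) : a = b := fix_eq h.gd h.fix h'.fix
/-- good involutions with different fixed points have a product of odd order -/
theorem odd_mul (hu : Gd u) (hv : Gd v) (h1 : u • a = a) (h2 : v • a ≠ a) :
    Odd (orderOf (u * v)) := by
  by_contra h
  obtain ⟨n, h3, h4, h5⟩ := hu.half hv h
  exact h2 (fix_of_comm h3 (fix_of_comm hu h1 h4) h5.symm)
/-- a product of two good involutions with two fixed points has odd order -/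
theorem odd_mul_of_fix_two (hu : Gd u) (hv : Gd v) (hab : a ≠ b) (h1 : (u * v) • a = a)
    (h2 : (u * v) • b = b) : Odd (orderOf (u * v)) := by
  by_contra h
  obtain ⟨n, h3, -⟩ := hu.half hv h
  exact hab (fix_eq h3 (pow_mem (show _ ∈ stabilizer G a from h1) n)
    (pow_mem (show _ ∈ stabilizer G b from h2) n))
theorem exists_swap (hu : Gd u) (hv : Gd v) (h1 : u • a = a) (h2 : v • a ≠ a) :
    ∃ w : G, Gd w ∧ w * u * w⁻¹ = v ∧ ∀ N : Subgroup G, u ∈ N → v ∈ N → w ∈ N := by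
  obtain ⟨k, e1, -⟩ := exists_conj_of_odd hu.ord hv.ord (odd_mul hu hv h1 h2)
  exact ⟨_, hu.pow_mul hv k, by rw [mul_inv_rev, mul_assoc, mul_inv_cancel_left, e1],
    fun N a b => mul_mem (pow_mem (mul_mem a b) k) a⟩
theorem mem_cent_of_ne_fix (hu : Gd u) (hv : Gd v) (h1 : u • a = a) (h2 : v • a ≠ a)
    (h3 : u ∈ 𝐂(K)) (h4 : v ∈ 𝐍(K)) : v ∈ 𝐂(K) := by
  obtain ⟨w, -, e, hw⟩ := exists_swap hu hv h1 h2
  rw [← e]
  exact conj_mem_of_mem_normalizer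
    (le_normalizer_centralizer le_rfl (hw _ (cent_le_norm K h3) h4)) h3
theorem eq_one_of_inv_of_comm (hu : Gd u) (hv : Gd v) (h1 : u • a = a) (h2 : v • a ≠ a)
    (ho : Odd (orderOf k)) (h3 : k * u = u * k) (h4 : v * k * v⁻¹ = k⁻¹) : k = 1 := by
  have h5 := mem_cent_of_ne_fix (K := zpowers k) hu hv h1 h2
    (by rw [cent_zpowers]; exact mem_cent1_iff.2 h3.symm)
    (by rw [← cj_eq_iff_mem_normalizer, cj_zpowers, h4, zpowers_inv])
  rw [cent_zpowers, mem_cent1_iff] at h5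
  exact eq_one_of_inv_of_cent ho h4 h5.symm
/-- uniqueness of the conjugating involution -/
theorem swap_unique {w' : G} (hz : Gd z) (hw : Gd w) (hw' : Gd w') (h1 : z • a = a)
    (h2 : w • a ≠ a) (h : w * z * w⁻¹ = w' * z * w'⁻¹) : w = w' := by
  have e : w' • a = w • a := fix_of_conj hz h1 (h ▸ conj_fix h1 w)
  have := eq_one_of_inv_of_comm (k := w' * w) hz hw h1 h2
    (odd_mul_of_fix_two hw' hw h2 (by rw [mul_smul, smul_smul2 hw.ord, e])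
      (by rw [mul_smul, ← e, smul_smul2 hw'.ord]))
    (by
      rw [hw.inv, hw'.inv] at h
      calc w' * w * z = w' * (w * z * w) * w := by rw [mul_assoc, mul_assoc, mul_assoc, mul_assoc,
            hw.sq, mul_one]
        _ = z * (w' * w) := by rw [h, ← mul_assoc, ← mul_assoc, hw'.sq, one_mul, mul_assoc])
    (by rw [mul_inv_rev, hw.inv, hw'.inv, mul_assoc, mul_assoc, hw.sq, mul_one])
  rw [mul_eq_one_iff_eq_inv, hw.inv] at this
  exact this.symm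
/-- the elements of `G_{a, ta}` inverted by `t` act transitively on the good involutions of `G_a` -/
theorem exists_inverted_conj (hz : Gd z) (hz' : Gd z') (ht : Gd t) (h1 : z • a = a)
    (h2 : z' • a = a) (h3 : t • a ≠ a) :
    ∃ k : G, k • a = a ∧ k • t • a = t • a ∧ t * k * t⁻¹ = k⁻¹ ∧ k * z * k⁻¹ = z' ∧
      Odd (orderOf k) ∧ ∀ N : Subgroup G, z ∈ N → z' ∈ N → t ∈ N → k ∈ N := by
  obtain ⟨w, hw, e, hN⟩ := exists_swap (hz.conj t) hz' (conj_fix h1 t)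
    fun e => h3 (fix_eq hz' e h2)
  have e1 : w • t • a = a := fix_of_conj (hz.conj t) (conj_fix h1 t) (e ▸ h2)
  have e2 : (w * t) • a = a := by rw [mul_smul, e1]
  have e3 : (w * t) • t • a = t • a := by
    rw [mul_smul, smul_smul2 ht.ord]
    conv_lhs => rw [← e1]
    rw [smul_smul2 hw.ord]
  refine ⟨w * t, e2, e3, ?_, by rw [← e]; group, odd_mul_of_fix_two hw ht h3 e3 e2, fun N a b c =>
    mul_mem (hN N (mul_mem (mul_mem c a) (inv_mem c)) b) c⟩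
  rw [mul_inv_rev, hw.inv, ht.inv, mul_assoc, mul_assoc, ht.sq, mul_one]
theorem exists_swap_points (hu : Gd u) (hv : Gd v) (h1 : u • a = a) (h2 : v • b = b) (hab : a ≠ b) :
    ∃ w : G, Gd w ∧ w • a = b ∧ w • b = a ∧ ∀ N : Subgroup G, u ∈ N → v ∈ N → w ∈ N := by
  obtain ⟨w, hw, e, hN⟩ := exists_swap hu hv h1 fun e => hab (fix_eq hv e h2)
  have e1 : w • a = b := fix_of_conj hu h1 (e ▸ h2)
  exact ⟨w, hw, e1, by rw [← e1, smul_smul2 hw.ord], hN⟩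
/-- two good involutions interchanging the same points are conjugate in the stabilizer -/
theorem exists_conj_swap (ht : Gd t) (hu : Gd u) (hta : t • a ≠ a) (h : u • a = t • a) :
    ∃ d : G, d • a = a ∧ d • t • a = t • a ∧ d * t * d⁻¹ = u ∧ t * d * t⁻¹ = d⁻¹ ∧
      Odd (orderOf d) ∧ ∀ N : Subgroup G, t ∈ N → u ∈ N → d ∈ N := by
  have h1 : (t * u) • a = a := by rw [mul_smul, h, smul_smul2 ht.ord]
  have h2 : (t * u) • t • a = t • a := by rw [mul_smul, ← h, smul_smul2 hu.ord, h]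
  have ho := odd_mul_of_fix_two ht hu hta.symm h1 h2
  obtain ⟨k, e, -⟩ := exists_conj_of_odd ht.ord hu.ord ho
  refine ⟨_, pow_mem (show _ ∈ stabilizer G a from h1) k,
    pow_mem (show _ ∈ stabilizer G (t • a) from h2) k, e, ?_,
    ho.of_dvd_nat (orderOf_pow_dvd k), fun N a b => pow_mem (mul_mem a b) k⟩
  rw [← conj_pow, ← inv_pow, mul_inv_rev, ht.inv, hu.inv, ← mul_assoc t, ht.sq, one_mul]
theorem core_not_le (h : ¬ Rk2 N) (hz : Zi a z) (hN : z ∈ N) (h1 : ¬ N ≤ St G a) :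
    ¬ core {2}ᶜ N ≤ St G a := fun h2 => h1 fun g hg => by
  obtain ⟨o, h3, c, h4, rfl⟩ := exists_core_mul_cent h hz.gd hN hg
  exact mul_mem (h2 h3) (hz.cent_le h4.2)
/-- a swap centralizes the two-point stabilizer modulo its core -/
theorem oc_St2 (ht : Gd t) (h : t • a = b) (hb : b ≠ a) : OC (St2 G a b) t := by
  let X : Subgroup G :=
    { carrier := {g | g • a = a ∧ g • b = b ∨ g • a = b ∧ g • b = a}
      one_mem' := Or.inl ⟨one_smul _ _, one_smul _ _⟩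
      mul_mem' := by
        rintro x y (⟨h1, h2⟩ | ⟨h1, h2⟩) (⟨h3, h4⟩ | ⟨h3, h4⟩) <;>
          simp [mul_smul, h1, h2, h3, h4]
      inv_mem' := by
        rintro x (⟨h1, h2⟩ | ⟨h1, h2⟩) <;> simp [inv_smul_eq_iff, h1, h2] }
  have key : ∀ u ∈ X, Gd u → u • a = b ∧ u • b = a := fun u hu h1 =>
    hu.resolve_left fun e => hb (fix_eq h1 e.2 e.1)
  refine oc_of_not_rk2 (N := X) ?_ ht (Or.inr ⟨h, by rw [← h, smul_smul2 ht.ord]⟩)
    (fun g hg => Or.inl hg) (mem_norm_St2 ht.ord h)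
  rintro ⟨u, hu, v, hv, h1, h2, h3, h4⟩
  exact hb (fix_eq (h1.mul h2 h3 h4) (by rw [mul_smul, (key v hv h2).2, (key u hu h1).1])
    (by rw [mul_smul, (key v hv h2).1, (key u hu h1).2]))
theorem oc_inf_St2 (ht : Gd t) (htN : t ∈ N) (h : t • a = b) (hb : b ≠ a) : OC (N ⊓ St2 G a b) t :=
  (oc_St2 ht h hb).mono inf_le_right (mem_norm_inf (le_normalizer htN) (mem_norm_St2 ht.ord h))
theorem Zi.oc_St2 (hz : Zi a z) (hb : b ≠ a) : OC (St2 G b (z • b)) z :=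
  ZD.oc_St2 hz.gd rfl (hz.smul_ne hb)
theorem Zi.oc_St3 (hz : Zi a z) (hb : b ≠ a) : OC (St3 G a b (z • b)) z :=
  (hz.oc_St2 hb).mono (St3_le_St2' _ _ _) (hz.mem_norm_St3 b)
/-- a `z`-invariant subgroup fixing another point -/
theorem Zi.oc (hz : Zi a z) (hb : b ≠ a) (h : Y ≤ St G b) (hn : z ∈ 𝐍(Y)) : OC Y z :=
  (hz.oc_St2 hb).mono (le_inf h (le_St_smul h hn)) hn
theorem Zi.oc_kr (hz : Zi a z) (hN : z ∈ N) (h1 : ¬ N ≤ St G a) : OC (kr N a) z :=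
  let ⟨_, ho, hb⟩ := exists_orb_ne h1; hz.oc hb (kr_le_St ho) ((kr_nrm N a).norm hN)
theorem Zi.commutator_le_ko (hz : Zi a z) (hN : z ∈ N) (h1 : ¬ N ≤ St G a) (hY : Y ≤ kr N a) :
    ⁅Y, zpowers z⁆ ≤ ko N a := (commutator_mono hY le_rfl).trans (hz.oc_kr hN h1).le_core
/-- an element of odd order of `G_{ab}` inverted by a swap lies in the core -/
theorem mem_core_of_inv (ht : Gd t) (htN : t ∈ N) (h : t • a = b) (hb : b ≠ a)
    (hk : k ∈ N ⊓ St2 G a b) (ho : Odd (orderOf k)) (hi : t * k * t⁻¹ = k⁻¹) :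
    k ∈ core {2}ᶜ (N ⊓ St2 G a b) :=
  (oc_inf_St2 ht htN h hb).le_core (mem_commutator_of_inv hk (mem_zpowers t) ho hi)
theorem mem_So_of_inv (ht : Gd t) (h : t • a = b) (hb : b ≠ a)
    (hk : k ∈ St2 G a b) (ho : Odd (orderOf k)) (hi : t * k * t⁻¹ = k⁻¹) : k ∈ So G a b :=
  (oc_St2 ht h hb).le_core (mem_commutator_of_inv hk (mem_zpowers t) ho hi)
theorem orb_of_zi (hz : Zi a z) (hN : z ∈ N) (hz' : Zi b z') (hN' : z' ∈ N) : Orb N a b := by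
  by_cases e : a = b
  · exact e ▸ Orb.refl N a
  obtain ⟨w, -, h1, -, h2⟩ := exists_swap_points hz.gd hz'.gd hz.fix hz'.fix e
  exact ⟨w, h2 N hN hN', h1⟩
theorem exists_swap_orb (hz : Zi a z) (hN : z ∈ N) (hb : b ≠ a) (ho : Orb N a b) :
    ∃ t ∈ N, Gd t ∧ t • a = b := by
  obtain ⟨z', h1, h2⟩ := exists_zi_of_orb ho hz hN
  obtain ⟨w, h3, h4, -, h5⟩ := exists_swap_points hz.gd h2.gd hz.fix h2.fix hb.symm
  exact ⟨w, h5 N hN h1, h3, h4⟩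
/-- `O(G_{ab}) ∩ O(N_{ab})` is transitive on the good involutions of `N_a` -/
theorem exists_conj_So (hz : Zi a z) (hN : z ∈ N) (hz' : Zi a z') (hN' : z' ∈ N) (hb : b ≠ a)
    (ho : Orb N a b) : ∃ k ∈ core {2}ᶜ (N ⊓ St2 G a b) ⊓ So G a b, k * z * k⁻¹ = z' := by
  obtain ⟨t, h1, h2, rfl⟩ := exists_swap_orb hz hN hb ho
  obtain ⟨k, h3, h4, h5, h6, h7, h8⟩ := exists_inverted_conj hz.gd hz'.gd h2 hz.fix hz'.fix hb
  exact ⟨k, mem_inf.2 ⟨mem_core_of_inv h2 h1 rfl hb ⟨h8 N hN hN' h1, h3, h4⟩ h7 h5,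
    mem_So_of_inv h2 rfl hb ⟨h3, h4⟩ h7 h5⟩, h6⟩
theorem exists_conj_St2 (hz : Zi a z) (hN : z ∈ N) (hz' : Zi a z') (hN' : z' ∈ N) (hb : b ≠ a)
    (ho : Orb N a b) : ∃ k ∈ N ⊓ St2 G a b, k * z * k⁻¹ = z' :=
  let ⟨k, h1, h2⟩ := exists_conj_So hz hN hz' hN' hb ho; ⟨k, core_le _ _ h1.1, h2⟩
/-- (0.3), general form -/
theorem relIndex_cent1_of_le (hz : Zi a z) (hN : z ∈ N) (hb : b ≠ a) (ho : Orb N a b)
    (h1 : core {2}ᶜ (N ⊓ St2 G a b) ⊓ So G a b ≤ Y) (h2 : Y ≤ N ⊓ St G a) :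
    (𝐂[z]).relIndex Y = mI N a := by
  rw [← ncard_conj, mI]
  congr 1
  ext u
  refine ⟨fun ⟨y, hy, e⟩ => e ▸ ⟨mul_mem (mul_mem (h2 hy).1 hN) (inv_mem (h2 hy).1),
    hz.conj_of_fix (h2 hy).2⟩, fun hu => ?_⟩
  obtain ⟨k, h3, h4⟩ := exists_conj_So hz hN hu.2 hu.1 hb ho
  exact ⟨k, h1 h3, h4⟩
theorem relIndex_cent1_St2 (hz : Zi a z) (hN : z ∈ N) (hb : b ≠ a) (ho : Orb N a b) :
    (𝐂[z]).relIndex (N ⊓ St2 G a b) = mI N a :=
  relIndex_cent1_of_le hz hN hb ho (inf_le_left.trans (core_le _ _)) (inf_le_inf_left _ inf_le_left)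
theorem relIndex_cent1_So (hz : Zi a z) (hN : z ∈ N) (hb : b ≠ a) (ho : Orb N a b) :
    (𝐂[z]).relIndex (N ⊓ So G a b) = mI N a :=
  relIndex_cent1_of_le hz hN hb ho (inf_le_inf_right _ ((core_le _ _).trans inf_le_left))
    (inf_le_inf_left _ ((core_le _ _).trans inf_le_left))
theorem relIndex_cent1_St (hz : Zi a z) (hN : z ∈ N) (h1 : ¬ N ≤ St G a) :
    (𝐂[z]).relIndex (N ⊓ St G a) = mI N a :=
  let ⟨_, ho, hb⟩ := exists_orb_ne h1
  relIndex_cent1_of_le hz hN hb ho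
    (inf_le_left.trans ((core_le _ _).trans (inf_le_inf_left _ inf_le_left))) le_rfl
theorem relIndex_swap_So (hz : Zi a z) (hN : z ∈ N) (ht : Gd t) (htN : t ∈ N)
    (h : t • a = b) (hb : b ≠ a) : (𝐂[t]).relIndex (N ⊓ So G a b) = mI N a := by
  subst h
  have ho : Odd ♯(N ⊓ So G a (t • a) : Subgroup G) := odd_of_le inf_le_right (odd_core _)
  rw [← ncard_inverted ho ht.ord
    (mem_norm_inf (le_normalizer htN) (mem_norm_core _ (mem_norm_St2 ht.ord rfl))), mI]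
  refine Set.ncard_congr (fun k _ => k * z * k⁻¹)
    (fun k hk => ⟨mul_mem (mul_mem hk.1.1 hN) (inv_mem hk.1.1),
      hz.conj_of_fix (core_le _ _ hk.1.2).1⟩)
    (fun k k' hk hk' e => ?_) fun u hu => ?_
  · refine mul_right_cancel (swap_unique (hz.conj t).gd (ht.mul_of_inv (BS.odd_orderOf ho hk.1) hk.2)
      (ht.mul_of_inv (BS.odd_orderOf ho hk'.1) hk'.2) (hz.conj t).fix ?_ ?_)
    · rw [mul_smul, smul_smul2 ht.ord, show k • a = a from (core_le _ _ hk.1.2).1]; exact hb.symm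
    have e2 : ∀ k : G, k * t * (t * z * t⁻¹) * (k * t)⁻¹ = k * z * k⁻¹ := fun k => by
      rw [mul_inv_rev, ht.inv]
      simp only [mul_assoc, ← mul_assoc t t, ht.sq, one_mul]
    rw [e2, e2]; exact e
  · obtain ⟨k, h3, h4, h5, h6, h7, h8⟩ := exists_inverted_conj hz.gd hu.2.gd ht hz.fix hu.2.fix hb
    exact ⟨k, ⟨⟨h8 N hN hu.1 htN, mem_So_of_inv ht rfl hb ⟨h3, h4⟩ h7 h5⟩, h5⟩, h6⟩
theorem relIndex_swap_St2 (hz : Zi a z) (hN : z ∈ N) (ht : Gd t) (htN : t ∈ N)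
    (h : t • a = b) (hb : b ≠ a) : (𝐂[t]).relIndex (N ⊓ St2 G a b) = mI N a := by
  have h1 := oc_inf_St2 ht htN h hb
  rw [← relIndex_swap_So hz hN ht htN h hb, h1.relIndex_eq (le_inf (h1.le.trans inf_le_left)
    ((commutator_mono inf_le_right le_rfl).trans (oc_St2 ht h hb).le_core))
    (inf_le_inf_left _ (core_le _ _))]
theorem odd_mI (hz : Zi a z) (hN : z ∈ N) (h1 : ¬ N ≤ St G a) : Odd (mI N a) := by
  obtain ⟨b, ho, hb⟩ := exists_orb_ne h1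
  rw [← relIndex_cent1_So hz hN hb ho]
  exact (odd_of_le inf_le_right (odd_core _)).of_dvd_nat (relIndex_dvd_card' _ _)
theorem St2_inf_cent1 (hz : Zi a z) (b : Ω) :
    St2 G a b ⊓ 𝐂[z] = St3 G a b (z • b) ⊓ 𝐂[z] := by
  refine le_antisymm (fun x hx => ⟨⟨hx.1, mem_stabilizer_iff.2 ?_⟩, hx.2⟩)
    (inf_le_inf_right _ inf_le_left)
  rw [smul_smul, mem_cent1_iff.1 hx.2, mul_smul]
  exact congrArg _ hx.1.2
theorem St2_inf_cent1' (hz : Zi a z) (b : Ω) :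
    St2 G b (z • b) ⊓ 𝐂[z] = St3 G a b (z • b) ⊓ 𝐂[z] :=
  le_antisymm (fun _ hx => ⟨⟨⟨hz.cent_le hx.2, hx.1.1⟩, hx.1.2⟩, hx.2⟩)
    fun _ hx => ⟨⟨hx.1.1.2, hx.1.2⟩, hx.2⟩
/-- (F2) -/
theorem card_St2 (hz : Zi a z) (hN : z ∈ N) (hb : b ≠ a) (ho : Orb N a b) :
    ♯(N ⊓ St2 G a b : Subgroup G) = mI N a * ♯(N ⊓ St3 G a b (z • b) ⊓ 𝐂[z] : Subgroup G) := by
  rw [← card_inf_mul_relIndex 𝐂[z], relIndex_cent1_St2 hz hN hb ho, mul_comm, inf_comm 𝐂[z],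
    inf_assoc, St2_inf_cent1 hz, ← inf_assoc]
theorem card_St2' (hz : Zi a z) (hN : z ∈ N) (hb : b ≠ a) (ho : Orb N a b) :
    ♯(N ⊓ St2 G b (z • b) : Subgroup G) =
      mI N a * ♯(N ⊓ St3 G a b (z • b) ⊓ 𝐂[z] : Subgroup G) := by
  obtain ⟨z', h1, h2⟩ := exists_zi_of_orb ho hz hN
  rw [← card_inf_mul_relIndex 𝐂[z], relIndex_swap_St2 h2 h1 hz.gd hN rfl (hz.smul_ne hb),
    ← mI_eq ho, mul_comm, inf_comm 𝐂[z], inf_assoc, St2_inf_cent1' hz, ← inf_assoc]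
theorem card_St2_eq (hz : Zi a z) (hN : z ∈ N) (hb : b ≠ a) (ho : Orb N a b) :
    ♯(N ⊓ St2 G b (z • b) : Subgroup G) = ♯(N ⊓ St2 G a b : Subgroup G) := by
  rw [card_St2 hz hN hb ho, card_St2' hz hN hb ho]
/-- (0.4) -/
theorem cent1_le_of_inv (hz : Zi a z) (hu : Gd u) (ho : Odd (orderOf x)) (h1 : x ≠ 1)
    (hi : z * x * z⁻¹ = x⁻¹) (hc : x * u = u * x) : 𝐂[x] ≤ St G a := fun g hg => by
  have key : ∀ u : G, Gd u → x * u = u * x → u • a = a := fun u hu hc => by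
    obtain ⟨c, h2⟩ := exists_fix Ω hu
    by_cases e : z • c = c
    · rw [fix_eq hz.gd hz.fix e, h2]
    · exact absurd (eq_one_of_inv_of_comm hu hz.gd h2 e ho hc hi) h1
  refine fix_of_conj hu (key u hu hc) (key _ (hu.conj g) ?_)
  have e := mem_cent1_iff.1 hg
  calc x * (g * u * g⁻¹) = g * (x * u) * g⁻¹ := by rw [← mul_assoc, ← mul_assoc, ← e]; group
    _ = g * u * g⁻¹ * x := by
      rw [hc, mul_assoc, mul_assoc, mul_assoc, mul_assoc, (show Commute g x from e).inv_left.eq]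
/-- (0.5) -/
theorem Rk2.exists_zi (h : Rk2 N) (hz : Zi a z) (hN : z ∈ N) :
    ∃ u ∈ N, Zi a u ∧ u ≠ z ∧ u * z = z * u := by
  obtain ⟨u, h1, v, h2, h3, h4, h5, h6⟩ := h
  have h7 : ∃ g ∈ N, g * u * g⁻¹ = z ∨ ∃ w ∈ N, Gd w ∧ w ≠ z ∧ w * z = z * w := by
    by_cases e : u * z = z * u
    · by_cases e' : u = z
      · exact ⟨1, one_mem _, Or.inl (by simpa using e')⟩
      · exact ⟨1, one_mem _, Or.inr ⟨u, h1, h3, e', e⟩⟩
    by_cases ho : Odd (orderOf (u * z))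
    · obtain ⟨k, e1, -⟩ := exists_conj_of_odd h3.ord hz.ord ho
      exact ⟨_, pow_mem (mul_mem h1 hN) k, Or.inl e1⟩
    · obtain ⟨n, a3, a4, a5⟩ := h3.half hz.gd ho
      exact ⟨1, one_mem _, Or.inr ⟨_, pow_mem (mul_mem h1 hN) n, a3, fun e1 => e (by
        rw [e1] at a4; exact a4.symm), a5⟩⟩
  obtain ⟨g, hg, rfl | ⟨w, a1, a2, a3, a4⟩⟩ := h7
  · have e : g * v * g⁻¹ * (g * u * g⁻¹) = g * u * g⁻¹ * (g * v * g⁻¹) := by
      rw [conj_mul, conj_mul, h6]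
    exact ⟨g * v * g⁻¹, mul_mem (mul_mem hg h2) (inv_mem hg),
      ⟨h4.conj g, fix_of_comm hz.gd hz.fix e⟩, fun e => h5 (by simpa using e.symm), e⟩
  · exact ⟨w, a1, ⟨a2, fix_of_comm hz.gd hz.fix a4⟩, a3, a4⟩
theorem Rk2.inf_St (h : Rk2 N) (hz : Zi a z) (hN : z ∈ N) : Rk2 (N ⊓ St G a) := by
  obtain ⟨u, h1, h2, h3, h4⟩ := h.exists_zi hz hN
  exact ⟨u, ⟨h1, h2.fix⟩, z, ⟨hN, hz.fix⟩, h2.gd, hz.gd, h3, h4⟩
theorem Rk2.three_le_mI (h : Rk2 N) (hz : Zi a z) (hN : z ∈ N) : 3 ≤ mI N a := by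
  obtain ⟨u, h1, h2, h3, h4⟩ := h.exists_zi hz hN
  refine (Set.two_lt_ncard (Set.toFinite _)).2 ⟨u, ⟨h1, h2⟩, z, ⟨hN, hz⟩, u * z,
    ⟨mul_mem h1 hN, h2.mul hz h3 h4⟩, h3, fun e => ne1 hz.ord (by simpa using e),
    fun e => ne1 h2.ord (by simpa using e)⟩
/-- an odd group normalized by a four-group lies in the stabilizer of its fixed point -/
theorem le_St_of_four (hu : Zi a u) (hz : Zi a z) (h : u ≠ z) (hc : u * z = z * u) (hY : Odd ♯Y)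
    (h1 : u ∈ 𝐍(Y)) (h2 : z ∈ 𝐍(Y)) : Y ≤ St G a := by
  obtain ⟨U, a1, a2, a3, a4⟩ := four_group hu.ord hz.ord h hc
  refine H2.le_of_forall_centralizer_le a2 a3 (fun x hx => ?_)
    (coprime_of_isPGroup a1 (odd_iff_piG.1 hY)) fun x hx h3 => inf_le_right.trans ?_
  · rcases (a4 x).1 hx with rfl | rfl | rfl | rfl
    exacts [one_mem _, h1, h2, mul_mem h1 h2]
  · rcases (a4 x).1 hx with rfl | rfl | rfl | rfl
    exacts [absurd rfl h3, hu.cent_le, hz.cent_le, (hu.mul hz h hc).cent_le]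
theorem Rk2.le_St (h : Rk2 N) (hz : Zi a z) (hN : z ∈ N) (hY : Odd ♯Y) (hn : N ≤ 𝐍(Y)) :
    Y ≤ St G a :=
  let ⟨_, a1, a2, a3, a4⟩ := h.exists_zi hz hN; le_St_of_four a2 hz a3 a4 hY (hn a1) (hn hN)
theorem Rk2.core_le_ko (h : Rk2 N) (hz : Zi a z) (hN : z ∈ N) : core {2}ᶜ N ≤ ko N a :=
  le_core ((core_nrm _ N).of_le (le_kr_of_nrm (core_nrm _ N)
    (h.le_St hz hN (odd_core N) (core_nrm _ N).norm)) (kr_le N a)) (core_piG _ _)
theorem Rk2.not_coset (h : Rk2 N) (hz : Zi a z) (hN : z ∈ N) (hY : Odd ♯Y)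
    (h1 : ∀ u ∈ N, Zi a u → u * z ∈ Y) : False := by
  obtain ⟨u, a1, a2, a3, a4⟩ := h.exists_zi hz hN
  exact not_odd_of_ord2 (a2.mul hz a3 a4).ord (h1 u a1 a2) hY
/-- (C3), general form -/
theorem exists_swap_norm_of_le [Fact p.Prime] (ht : Gd t) (htN : t ∈ N) (h : t • a = b) (hb : b ≠ a)
    (h1 : W ≤ N ⊓ St2 G a b) (h2 : t ∈ 𝐍(W)) (hT : Syl p T W) :
    ∃ t ∈ N, t ∈ 𝐍(T) ∧ Gd t ∧ t • a = b := by
  obtain ⟨S, h4, h5⟩ := ((oc_inf_St2 ht htN h hb).mono h1 h2).exists_syl p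
  obtain ⟨g, h6, rfl⟩ := hT.exists_cj_eq h4
  replace h6 := h1 h6
  refine ⟨g * t * g⁻¹, mul_mem (mul_mem h6.1 htN) (inv_mem h6.1), ?_, ht.conj g, ?_⟩
  · rw [← cj_normalizer]; exact conj_mem_cj h5
  · rw [mul_smul, mul_smul, inv_smul_eq_iff.2 (Eq.symm h6.2.1), h]; exact h6.2.2
theorem exists_swap_norm_orb [Fact p.Prime] (hz : Zi a z) (hN : z ∈ N) (hb : b ≠ a) (ho : Orb N a b)
    (hT : Syl p T (N ⊓ St2 G a b)) : ∃ t ∈ N, t ∈ 𝐍(T) ∧ Gd t ∧ t • a = b :=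
  let ⟨_, h1, h2, h3⟩ := exists_swap_orb hz hN hb ho
  exists_swap_norm_of_le h2 h1 h3 hb le_rfl (oc_inf_St2 h2 h1 h3 hb).norm hT
theorem exists_swap_norm_So [Fact p.Prime] (hz : Zi a z) (hN : z ∈ N) (hb : b ≠ a) (ho : Orb N a b)
    (hT : Syl p T (N ⊓ So G a b)) : ∃ t ∈ N, t ∈ 𝐍(T) ∧ Gd t ∧ t • a = b :=
  let ⟨_, h1, h2, h3⟩ := exists_swap_orb hz hN hb ho
  exists_swap_norm_of_le h2 h1 h3 hb (inf_le_inf_left _ (core_le _ _))
    (mem_norm_inf (le_normalizer h1) (mem_norm_core _ (mem_norm_St2 h2.ord h3))) hT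

end Cfsg.Agent.ZD
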