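import Cfsg.Agent.ZD.Z1

/-! Theorem ZD: cores of stabilizers, groups of Bender type, the minimal situation. -/

set_option autoImplicit false
set_option linter.unusedSectionVars false

namespace Cfsg.Agent.ZD

open Subgroup FT MulAction BS

universe u v

variable {G : Type u} [Group G] [Finite G] [hZ : ZG G] {Ω : Type v} [MulAction G Ω] [hG : ZF G Ω]
variable {N Y T Q K W : Subgroup G} {a b c : Ω} {z z' t u v w g x k : G} {p : ℕ}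

theorem So_le (a b : Ω) : So G a b ≤ St2 G a b := core_le _ _
theorem So3_le (a b c : Ω) : So3 G a b c ≤ St3 G a b c := core_le _ _
theorem odd_So (a b : Ω) : Odd ♯(So G a b) := odd_core _
theorem odd_So3 (a b c : Ω) : Odd ♯(So3 G a b c) := odd_core _
theorem So_comm (a b : Ω) : So G a b = So G b a := by rw [So, St2_comm]
theorem cj_So (g : G) (a b : Ω) : cj g (So G a b) = So G (g • a) (g • b) := by rw [cj_core, cj_St2]
theorem mem_norm_So (ht : Gd t) (h : t • a = b) : t ∈ 𝐍(So G a b) :=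
  mem_norm_core _ (mem_norm_St2 ht.ord h)
theorem Zi.mem_norm_So (hz : Zi a z) (b : Ω) : z ∈ 𝐍(So G b (z • b)) := ZD.mem_norm_So hz.gd rfl
theorem Zi.mem_norm_So3 (hz : Zi a z) (b : Ω) : z ∈ 𝐍(So3 G a b (z • b)) :=
  mem_norm_core _ (hz.mem_norm_St3 b)
theorem Zi.So3_le' (hz : Zi a z) (hb : b ≠ a) : So3 G a b (z • b) ≤ So G b (z • b) :=
  core_le_core_of_mul (St3_le_St2' _ _ _) fun _ hx =>
    let ⟨y, h1, _, c, h2, e⟩ := (hz.oc_St2 hb).exists_mul hx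
    ⟨y, (hz.oc_St2 hb).le_core h1, c, ((St2_inf_cent1' hz b).le h2).1, e⟩
theorem Zi.So_inf_St (hz : Zi a z) (hb : b ≠ a) : So G b (z • b) ⊓ St G a = So3 G a b (z • b) := by
  refine le_antisymm (le_core ⟨(inf_le_inf_right _ (So_le _ _)).trans (St2_inf_St _ _ _).le,
    le_normalizer_inf ((St3_le_St2' _ _ _).trans (core_nrm _ _).norm)
      ((St3_le_St _ _ _).trans le_normalizer)⟩ ((core_piG _ _).of_le inf_le_left))
    (le_inf (hz.So3_le' hb) ((So3_le _ _ _).trans (St3_le_St _ _ _)))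
/-- `N_{ab} = (O(N_{ab}) ∩ O(G_{ab})) C(z)` -/
theorem exists_So_mul (hz : Zi a z) (hN : z ∈ N) (hb : b ≠ a) (ho : Orb N a b)
    (hx : x ∈ N ⊓ St2 G a b) : ∃ k ∈ core {2}ᶜ (N ⊓ St2 G a b) ⊓ So G a b,
      ∃ c ∈ N ⊓ St3 G a b (z • b) ⊓ 𝐂[z], x = k * c := by
  obtain ⟨k, h1, h2⟩ := exists_conj_So hz hN (hz.conj_of_fix hx.2.1)
    (mul_mem (mul_mem hx.1 hN) (inv_mem hx.1)) hb ho
  have h3 := mul_mem (inv_mem (core_le _ _ h1.1)) hx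
  have h4 : k⁻¹ * x ∈ 𝐂[z] := mem_cent1_iff.2 (by
    calc k⁻¹ * x * z = k⁻¹ * (x * z * x⁻¹) * x := by group
      _ = _ := by rw [← h2]; group)
  exact ⟨k, h1, k⁻¹ * x, ⟨⟨h3.1, ((St2_inf_cent1 hz b).le ⟨h3.2, h4⟩).1⟩, h4⟩,
    (mul_inv_cancel_left _ _).symm⟩
theorem Zi.So3_le (hz : Zi a z) (hb : b ≠ a) (ho : Orb (⊤ : Subgroup G) a b) :
    So3 G a b (z • b) ≤ So G a b :=
  core_le_core_of_mul (St3_le_St2 _ _ _) fun _ hx =>
    let ⟨k, h1, c, h2, e⟩ := exists_So_mul hz (mem_top z) hb ho ⟨mem_top _, hx⟩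
    ⟨k, h1.2, c, h2.1.2, e⟩
theorem So_inf_St3_le (a b c : Ω) : So G a b ⊓ St G c ≤ So3 G a b c :=
  le_core ⟨inf_le_inf_right _ (So_le _ _), le_normalizer_inf
    ((St3_le_St2 _ _ _).trans (core_nrm _ _).norm) (inf_le_right.trans le_normalizer)⟩
    ((core_piG _ _).of_le inf_le_left)
theorem So_inf_cent1 (hz : Zi a z) (hb : b ≠ a) (ho : Orb (⊤ : Subgroup G) a b) :
    So G a b ⊓ 𝐂[z] = So3 G a b (z • b) ⊓ 𝐂[z] :=
  le_antisymm (fun _ hx => ⟨So_inf_St3_le _ _ _ ⟨hx.1,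
    ((St2_inf_cent1 hz b).le ⟨So_le _ _ hx.1, hx.2⟩).1.2⟩, hx.2⟩)
    (inf_le_inf_right _ (hz.So3_le hb ho))
theorem So_inf_cent1' (hz : Zi a z) (hb : b ≠ a) :
    So G b (z • b) ⊓ 𝐂[z] = So3 G a b (z • b) ⊓ 𝐂[z] := by
  rw [← hz.So_inf_St hb, inf_assoc, inf_of_le_right hz.cent_le]
theorem card_So (hz : Zi a z) (hN : z ∈ N) (hb : b ≠ a) (ho : Orb N a b) :
    ♯(N ⊓ So G a b : Subgroup G) = mI N a * ♯(N ⊓ So3 G a b (z • b) ⊓ 𝐂[z] : Subgroup G) := by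
  rw [← card_inf_mul_relIndex 𝐂[z], relIndex_cent1_So hz hN hb ho, mul_comm, inf_comm 𝐂[z],
    inf_assoc, So_inf_cent1 hz hb (ho.mono le_top), ← inf_assoc]
theorem card_So' (hz : Zi a z) (hN : z ∈ N) (hb : b ≠ a) (ho : Orb N a b) :
    ♯(N ⊓ So G b (z • b) : Subgroup G) =
      mI N a * ♯(N ⊓ So3 G a b (z • b) ⊓ 𝐂[z] : Subgroup G) := by
  obtain ⟨z', h1, h2⟩ := exists_zi_of_orb ho hz hN
  rw [← card_inf_mul_relIndex 𝐂[z], relIndex_swap_So h2 h1 hz.gd hN rfl (hz.smul_ne hb),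
    ← mI_eq ho, mul_comm, inf_comm 𝐂[z], inf_assoc, So_inf_cent1' hz hb, ← inf_assoc]
theorem card_So_eq (hz : Zi a z) (hN : z ∈ N) (hb : b ≠ a) (ho : Orb N a b) :
    ♯(N ⊓ So G b (z • b) : Subgroup G) = ♯(N ⊓ So G a b : Subgroup G) := by
  rw [card_So hz hN hb ho, card_So' hz hN hb ho]
theorem Zi.relIndex_So3 (hz : Zi a z) (hb : b ≠ a) :
    (𝐂[z]).relIndex (So3 G a b (z • b)) = (𝐂[z]).relIndex (St3 G a b (z • b)) :=
  (hz.oc_St3 hb).relIndex_eq (hz.oc_St3 hb).le_core (core_le _ _)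

namespace BQ

variable (h : BQ N a Q)
include h

theorem le_N : Q ≤ N := h.nrm.le.trans inf_le_left
theorem le_St : Q ≤ St G a := h.nrm.le.trans inf_le_right
/-- (b0): the good involutions of `N_a` lie in `Q` -/
theorem mem (hz : Zi a z) (hN : z ∈ N) : z ∈ Q := by
  obtain ⟨n, ⟨k, rfl⟩, h1⟩ := h.odd z (mem_LZ hN hz.gd) hz.fix
  rwa [pow_succ, pow_mul, pow_two, hz.gd.sq, one_pow, one_mul] at h1
theorem mem_ko_of_odd (hx : x ∈ Q) (ho : Odd (orderOf x)) : x ∈ ko N a := by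
  obtain ⟨n, hn⟩ := h.two x hx
  exact zpowers_le.2 hn (mem_zpowers_pow_iff.2 (by
    rw [Nat.coprime_iff_gcd_eq_one.symm]
    exact Nat.Coprime.pow_left n (Nat.coprime_two_left.2 ho)))
/-- (b1) -/
theorem three (hz : Zi a z) (hN : z ∈ N) (hb : b ≠ a) (ho : Orb N a b)
    (hx : x ∈ N ⊓ St3 G a b (z • b)) : x * z * x⁻¹ * z ∈ ko N a := by
  have h2 := h.mem hz hN
  refine h.free _ (mul_mem (h.nrm.conj_mem ⟨hx.1, hx.2.1.1⟩ h2) h2) _ (ho.smul hN)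
    (hz.smul_ne' hb) ?_
  rw [mul_smul, smul_smul2 hz.ord, mul_smul, mul_smul, inv_smul_eq_iff.2 (Eq.symm hx.2.1.2)]
  exact hx.2.2
theorem isPGroup_bar : IsPGroup 2 (bar (ko N a) Q) := isPGroup_iff_mem.2 fun y hy => by
  have hn := h.le_N.trans (ko_nrm N a).norm
  obtain ⟨x, hx, rfl⟩ := (mem_bar' hn).1 hy
  obtain ⟨n, e⟩ := h.two x hx
  exact ⟨n, by rw [← coset_pow (hn hx)]; exact coset_eq_one e⟩
/-- (b4) -/
theorem exists_zi (hb : Orb N a b) (hc : Orb N a c) (h1 : b ≠ a) (h2 : c ≠ a)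
    (h3 : c ≠ b) (hY : Y ≤ N ⊓ St3 G a b c) :
    ∃ z ∈ N, Zi a z ∧ ∀ y ∈ Y, y * z * y⁻¹ * z ∈ ko N a := by
  obtain ⟨x, b1, b2⟩ := h.trans b c hb hc h1 h2
  have hn := (ko_nrm N a).norm
  have b7 : x ∉ ko N a := fun e => h3 (b2.symm.trans (ko_le_St hb e))
  classical
  have hex := h.two x b1
  obtain ⟨n, e0⟩ : ∃ n, Nat.find hex = n + 1 := Nat.exists_eq_succ_of_ne_zero fun e => b7 (by
    simpa [e] using Nat.find_spec hex)
  have b8 := Nat.find_min hex (m := n) (by omega)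
  have b9 := Nat.find_spec hex
  rw [e0, pow_succ, pow_mul, pow_two] at b9
  obtain ⟨z, c1, c2, c3⟩ := (h.inv _ (pow_mem b1 _) b9).resolve_left b8
  refine ⟨z, c1, c2, fun y hy => ?_⟩
  have c0 := h.le_N b1
  have d2 := hY hy
  have d3 : x⁻¹ * (y * x * y⁻¹) ∈ Q := mul_mem (inv_mem b1) (h.nrm.conj_mem ⟨d2.1, d2.2.1.1⟩ b1)
  have d4 := h.free _ d3 b hb h1 (by
    rw [mul_smul, mul_smul, mul_smul, inv_smul_eq_iff.2 (Eq.symm d2.2.1.2), b2,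
      show y • c = c from d2.2.2, ← b2, inv_smul_smul])
  have d5 : y * x * y⁻¹ ∈ N := mul_mem (mul_mem d2.1 c0) (inv_mem d2.1)
  rw [← coset_eq_iff (hn c0) (hn d5), coset_conj (hn d2.1) (hn c0)] at d4
  have d6 : coset (ko N a) z = coset (ko N a) x ^ 2 ^ n := by
    have := coset_eq_one c3
    rw [coset_mul (hn (pow_mem c0 _)) (hn c1), coset_pow (hn c0), mul_eq_one_iff_eq_inv,
      ← coset_inv (hn c1), c2.gd.inv] at this
    exact this.symm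
  rw [← coset_eq_one_iff (hn (mul_mem (mul_mem (mul_mem d2.1 c1) (inv_mem d2.1)) c1)),
    coset_mul (hn (mul_mem (mul_mem d2.1 c1) (inv_mem d2.1))) (hn c1), coset_conj (hn d2.1) (hn c1),
    d6, ← conj_pow, ← d4, ← d6, ← coset_mul (hn c1) (hn c1), c2.gd.sq, coset_one]

end BQ

theorem BT.three (h : BT N a) (hz : Zi a z) (hN : z ∈ N) (hb : b ≠ a) (ho : Orb N a b)
    (hx : x ∈ N ⊓ St3 G a b (z • b)) : x * z * x⁻¹ * z ∈ ko N a :=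
  let ⟨_, h⟩ := h; h.three hz hN hb ho hx
theorem BT.commutator_le (h : BT N a) (hz : Zi a z) (hN : z ∈ N) (hb : b ≠ a) (ho : Orb N a b)
    (hY : Y ≤ N ⊓ St3 G a b (z • b)) : ⁅Y, zpowers z⁆ ≤ ko N a :=
  commutator_zpowers_le hz.ord fun _ hg => h.three hz hN hb ho (hY hg)
/-- (b2) -/
theorem BT.sq_mem (h : BT N a) (hz : Zi a z) (hN : z ∈ N) (hz' : Zi a z')
    (hN' : z' ∈ N) : z * z' * (z * z') ∈ ko N a := let ⟨_, h⟩ := h; h.sq z hN z' hN' hz hz'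
/-- (b3) -/
theorem BT.two_trans (h : BT N a) {b' c' : Ω} (hb : Orb N a b) (hc : Orb N a c) (hb' : Orb N a b')
    (hc' : Orb N a c') (h1 : b ≠ c) (h2 : b' ≠ c') : ∃ g ∈ N, g • b = b' ∧ g • c = c' := by
  obtain ⟨Q, hQ⟩ := h
  obtain ⟨g, b1, b2⟩ := hb.symm
  obtain ⟨g', b3, b4⟩ := hb'.symm
  obtain ⟨x, b5, b6⟩ := hQ.trans _ _ (hc.smul b1) (hc'.smul b3)
    (fun e => h1 (smul_left_cancel g (b2.trans e.symm)))
    (fun e => h2 (smul_left_cancel g' (b4.trans e.symm)))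
  refine ⟨g'⁻¹ * x * g, mul_mem (mul_mem (inv_mem b3) (hQ.le_N b5)) b1, ?_, ?_⟩
  · rw [mul_smul, mul_smul, b2, show x • a = a from hQ.le_St b5, ← b4, inv_smul_smul]
  · rw [mul_smul, mul_smul, b6, inv_smul_smul]
theorem BT.exists_zi (h : BT N a) (hb : Orb N a b) (hc : Orb N a c) (h1 : b ≠ a) (h2 : c ≠ a)
    (h3 : c ≠ b) (hY : Y ≤ N ⊓ St3 G a b c) :
    ∃ z ∈ N, Zi a z ∧ ∀ y ∈ Y, y * z * y⁻¹ * z ∈ ko N a :=
  let ⟨_, h⟩ := h; h.exists_zi hb hc h1 h2 h3 hY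

section hyp
theorem Hyp.orb (h : Hyp G Ω) (a b : Ω) : Orb (⊤ : Subgroup G) a b := by
  obtain ⟨z, hz⟩ := h.pt a
  obtain ⟨z', hz'⟩ := h.pt b
  exact orb_of_zi hz (mem_top _) hz' (mem_top _)
theorem Hyp.not_le (h : Hyp G Ω) (a : Ω) : ¬ (⊤ : Subgroup G) ≤ St G a := fun e => by
  obtain ⟨b, hb⟩ := h.two a
  obtain ⟨g, h1, h2⟩ := h.orb a b
  exact hb (h2.symm.trans (e h1))
theorem Hyp.mI_eq (h : Hyp G Ω) (a b : Ω) : mI (⊤ : Subgroup G) a = mI (⊤ : Subgroup G) b :=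
  ZD.mI_eq (h.orb a b)
theorem Hyp.mI_pos (h : Hyp G Ω) (a : Ω) : 0 < mI (⊤ : Subgroup G) a :=
  let ⟨z, hz⟩ := h.pt a; ZD.mI_pos hz (mem_top z)
theorem Hyp.three_le (h : Hyp G Ω) (a : Ω) : 3 ≤ mI (⊤ : Subgroup G) a :=
  let ⟨_, hz⟩ := h.pt a; h.rk2.three_le_mI hz (mem_top _)
theorem Hyp.faithful (h : Hyp G Ω) (hx : ∀ b : Ω, x • b = b) : x = 1 := by
  have := h.simple
  obtain ⟨u, -, v, -, hu, -⟩ := h.rk2
  obtain ⟨a, -⟩ := exists_fix Ω hu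
  rcases (nrm_top_iff.1 (kr_nrm (⊤ : Subgroup G) a)).eq_bot_or_eq_top with e | e
  · have : x ∈ kr (⊤ : Subgroup G) a := mem_kr.2 ⟨mem_top _, fun b _ => hx b⟩
    rwa [e, mem_bot] at this
  · exact absurd (e ▸ kr_le_St (Orb.refl ⊤ a)) (h.not_le a)
theorem Hyp.norm_ne_top (h : Hyp G Ω) (h1 : Y ≠ ⊥) (h2 : Y ≤ St G a) : 𝐍(Y) ≠ ⊤ := fun e => by
  have := h.simple
  rcases (nrm_top_iff.1 ⟨le_top, e.ge⟩).eq_bot_or_eq_top with e | e
  · exact h1 e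
  · exact h.not_le a (e ▸ h2)
theorem Hyp.ne_top_of_le_norm (h : Hyp G Ω) (h1 : Y ≠ ⊥) (h2 : Y ≤ St G a) (h3 : N ≤ 𝐍(Y)) :
    N ≠ ⊤ := fun e => h.norm_ne_top h1 h2 (top_le_iff.1 (e ▸ h3))
theorem Hyp.bt (h : Hyp G Ω) (h1 : N ≠ ⊤) (h2 : Rk2 N) (hz : Zi a z) (hN : z ∈ N)
    (h3 : ¬ N ≤ St G a) : BT N a := h.ih N a h1 (h2.inf_St hz hN) h3
theorem Hyp.finite (h : Hyp G Ω) : Finite Ω := by
  choose z hz using h.pt
  exact Finite.of_injective z fun a b e => (hz a).eq (e ▸ hz b)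
theorem Hyp.exists_swap (h : Hyp G Ω) (hb : b ≠ a) : ∃ t : G, Gd t ∧ t • a = b :=
  let ⟨z, hz⟩ := h.pt a
  let ⟨t, _, h1⟩ := exists_swap_orb hz (mem_top z) hb (h.orb a b); ⟨t, h1⟩
theorem Hyp.exists_conj_So (h : Hyp G Ω) (hz : Zi a z) (hz' : Zi a z') (hb : b ≠ a) :
    ∃ k ∈ So G a b, k * z * k⁻¹ = z' :=
  let ⟨k, h1, h2⟩ := ZD.exists_conj_So hz (mem_top _) hz' (mem_top _) hb (h.orb a b); ⟨k, h1.2, h2⟩
theorem Hyp.exists_conj_zi (h : Hyp G Ω) (hz : Zi a z) (hz' : Zi b z') :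
    ∃ g : G, g • a = b ∧ g * z * g⁻¹ = z' := by
  obtain ⟨g, -, rfl⟩ := h.orb a b
  obtain ⟨c, hc⟩ := h.two (g • a)
  obtain ⟨k, hk, e⟩ := h.exists_conj_So (hz.conj g) hz' hc
  exact ⟨k * g, by rw [mul_smul]; exact (So_le _ _ hk).1, by rw [← e]; group⟩
theorem Hyp.exists_swap_norm [Fact p.Prime] (h : Hyp G Ω) (hb : b ≠ a) (hT : Syl p T (St2 G a b)) :
    ∃ t ∈ 𝐍(T), Gd t ∧ t • a = b :=
  let ⟨z, hz⟩ := h.pt a
  let ⟨t, _, h1⟩ := exists_swap_norm_orb hz (mem_top z) hb (h.orb a b) (by rwa [top_inf_eq])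
  ⟨t, h1⟩
theorem Hyp.relIndex_swap (h : Hyp G Ω) (ht : Gd t) (h1 : t • a = b) (hb : b ≠ a) (c : Ω) :
    (𝐂[t]).relIndex (St2 G a b) = mI (⊤ : Subgroup G) c := by
  obtain ⟨z, hz⟩ := h.pt a
  rw [← h.mI_eq a c, ← relIndex_swap_St2 hz (mem_top z) ht (mem_top t) h1 hb, top_inf_eq]
theorem Hyp.relIndex_swap_So (h : Hyp G Ω) (ht : Gd t) (h1 : t • a = b) (hb : b ≠ a) (c : Ω) :
    (𝐂[t]).relIndex (So G a b) = mI (⊤ : Subgroup G) c := by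
  obtain ⟨z, hz⟩ := h.pt a
  rw [← h.mI_eq a c, ← ZD.relIndex_swap_So hz (mem_top z) ht (mem_top t) h1 hb, top_inf_eq]
theorem Hyp.relIndex_fix (h : Hyp G Ω) (hz : Zi a z) (hb : b ≠ a) (c : Ω) :
    (𝐂[z]).relIndex (St2 G a b) = mI (⊤ : Subgroup G) c := by
  rw [← h.mI_eq a c, ← relIndex_cent1_St2 hz (mem_top z) hb (h.orb a b), top_inf_eq]
theorem Hyp.relIndex_fix_So (h : Hyp G Ω) (hz : Zi a z) (hb : b ≠ a) (c : Ω) :
    (𝐂[z]).relIndex (So G a b) = mI (⊤ : Subgroup G) c := by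
  rw [← h.mI_eq a c, ← relIndex_cent1_So hz (mem_top z) hb (h.orb a b), top_inf_eq]
theorem Hyp.odd_mI (h : Hyp G Ω) (a : Ω) : Odd (mI (⊤ : Subgroup G) a) :=
  let ⟨z, hz⟩ := h.pt a; ZD.odd_mI hz (mem_top z) (h.not_le a)
theorem Hyp.ne_two (h : Hyp G Ω) (hd : p ∣ mI (⊤ : Subgroup G) a) : p ≠ 2 := by
  rintro rfl
  exact Nat.not_even_iff_odd.2 (h.odd_mI a) (even_iff_two_dvd.2 hd)
theorem P3.dvd (h : P3 G Ω p) (hy : Hyp G Ω) (a : Ω) : p ∣ mI (⊤ : Subgroup G) a := by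
  obtain ⟨z, hz⟩ := hy.pt a
  obtain ⟨b, hb⟩ := hy.two a
  by_contra h1
  refine h a b z ⊥ hz hb IsPGroup.of_bot bot_le (by rw [norm_bot]; exact mem_top z) ?_
  rw [Nat.factorization_eq_zero_of_not_dvd h1, pow_zero]
  exact one_dvd _
theorem Hyp.card_St2_eq (h : Hyp G Ω) (hz : Zi a z) (hb : b ≠ a) :
    ♯(St2 G b (z • b)) = ♯(St2 G a b) := by
  simpa using ZD.card_St2_eq hz (mem_top z) hb (h.orb a b)
theorem Hyp.card_So_eq (h : Hyp G Ω) (hz : Zi a z) (hb : b ≠ a) :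
    ♯(So G b (z • b)) = ♯(So G a b) := by
  simpa using ZD.card_So_eq hz (mem_top z) hb (h.orb a b)
theorem Hyp.So3_le (h : Hyp G Ω) (hz : Zi a z) (hb : b ≠ a) : So3 G a b (z • b) ≤ So G a b :=
  hz.So3_le hb (h.orb a b)
theorem Hyp.relIndex_mul (h : Hyp G Ω) (hz : Zi a z) (hb : b ≠ a) :
    (St3 G a b (z • b)).relIndex (St2 G a b) * (𝐂[z]).relIndex (St3 G a b (z • b)) =
      mI (⊤ : Subgroup G) a := by
  have h1 := card_St2 hz (mem_top z) hb (h.orb a b)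
  rw [top_inf_eq, top_inf_eq, ← card_mul_relIndex (St3_le_St2 a b (z • b)),
    ← card_inf_mul_relIndex 𝐂[z] (St3 G a b (z • b)), inf_comm] at h1
  refine Nat.eq_of_mul_eq_mul_left (card_pos' (St3 G a b (z • b) ⊓ 𝐂[z])) ?_
  rw [mul_comm _ (mI _ _), ← h1]; ring
theorem Hyp.relIndex_mul_So (h : Hyp G Ω) (hz : Zi a z) (hb : b ≠ a) :
    (So3 G a b (z • b)).relIndex (So G a b) * (𝐂[z]).relIndex (So3 G a b (z • b)) =
      mI (⊤ : Subgroup G) a := by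
  have h1 := card_So hz (mem_top z) hb (h.orb a b)
  rw [top_inf_eq, top_inf_eq, ← card_mul_relIndex (h.So3_le hz hb),
    ← card_inf_mul_relIndex 𝐂[z] (So3 G a b (z • b)), inf_comm] at h1
  refine Nat.eq_of_mul_eq_mul_left (card_pos' (So3 G a b (z • b) ⊓ 𝐂[z])) ?_
  rw [mul_comm _ (mI _ _), ← h1]; ring
theorem Hyp.relIndex_So3 (h : Hyp G Ω) (hz : Zi a z) (hb : b ≠ a) :
    (So3 G a b (z • b)).relIndex (So G b (z • b)) = (So3 G a b (z • b)).relIndex (So G a b) :=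
  relIndex_eq_of_card (h.card_So_eq hz hb)
    (by rw [inf_of_le_left (h.So3_le hz hb), inf_of_le_left (hz.So3_le' hb)])
/-- (T3) -/
theorem Hyp.So_not_le (h : Hyp G Ω) (hz : Zi a z) (hb : b ≠ a) :
    ¬ So G b (z • b) ≤ St G a := fun e => by
  have h1 : So3 G a b (z • b) = So G a b := eq_of_le_of_card_le (h.So3_le hz hb)
    (by rw [← h.card_So_eq hz hb, ← hz.So_inf_St hb, inf_of_le_left e])
  refine h.rk2.not_coset hz (mem_top z) (odd_So3 a b (z • b)) fun u _ hu => ?_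
  obtain ⟨k, hk, rfl⟩ := h.exists_conj_So hz hu hb
  exact commutator_zpowers_le_self (hz.mem_norm_So3 b)
    (conj_mul_mem_commutator hz.ord (h1 ▸ hk))
theorem le_St_of_not_conf (hc : ¬ Conf G Ω) (hb : b ≠ a) (h1 : N ≠ ⊤) (h2 : So G a b ≤ N)
    (hz : Zi a z) (h3 : z ∈ N) : N ≤ St G a := by
  by_contra h
  exact hc ⟨a, b, N, z, hb, h1, h2, h3, hz, h⟩
end hyp

end Cfsg.Agent.ZD
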