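import Cfsg.Agent.ZD.Z2

/-! Theorem ZD: the statement. -/

set_option autoImplicit false

namespace Cfsg.Agent.ZD

open Subgroup FT MulAction BS

universe u

/-- Theorem ZD (proved in `ZD/ZW`) -/
def BtAll : Prop := ∀ (G Ω : Type u) [Group G] [Finite G] [ZG G] [MulAction G Ω] [ZF G Ω]
  (N : Subgroup G) (a : Ω) (z : G), Zi a z → z ∈ N → Rk2 N → ¬ N ≤ St G a → BT N a

end Cfsg.Agent.ZD
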