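import Cfsg.Agent.ZD.Z2

/-! Theorem ZD: the lemmas (S1), (A), (X) and the cores of two- and three-point stabilizers. -/

set_option autoImplicit false
set_option linter.unusedSectionVars false

namespace Cfsg.Agent.ZD

open Subgroup FT MulAction BS

universe u v

variable {G : Type u} [Group G] [Finite G] [ZG G] {Ω : Type v} [MulAction G Ω]
variable {A B C E H K N P R S T W X Y : Subgroup G} {a b c d : Ω} {z u g t x : G} {p : ℕ}

theorem So_le_St (a b : Ω) : So G a b ≤ St G a := (core_le _ _).trans inf_le_left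
theorem So3_le_St (a b c : Ω) : So3 G a b c ≤ St G a := (core_le _ _).trans (St3_le_St _ _ _)

variable [hG : ZF G Ω]

theorem sn_commutator_St (hz : Zi a z) (hY : Odd ♯Y) (hn : z ∈ 𝐍(Y)) :
    SN Y ⁅Y ⊓ St G a, zpowers z⁆ :=
  sn_commutator hY hz.ord hn (inf_le_inf_left _ hz.cent_le) inf_le_left
    (mem_norm_inf hn hz.mem_norm_St)
/-- (S1) -/
theorem exists_fix_commutator (hz : Zi a z) (hY : Odd ♯Y) (hn : z ∈ 𝐍(Y)) (h : ¬ Y ≤ St G a) :
    ∃ d, Orb Y a d ∧ d ≠ a ∧ ⁅Y ⊓ St G a, zpowers z⁆ ≤ St G d :=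
  exists_fix_of_sn (sn_commutator_St hz hY hn)
    ((commutator_zpowers_le_self (mem_norm_inf hn hz.mem_norm_St)).trans inf_le_right) h
/-- (A) -/
theorem le_St_of_cent_commutator [Fact p.Prime] (hz : Zi a z) (hE : Odd ♯E) (hp : PiG {p}ᶜ E)
    (hT : IsPGroup p T) (ho : Odd ♯T) (h1 : T ≤ St G a) (h2 : T ≤ 𝐍(E)) (h3 : z ∈ 𝐍(E))
    (h4 : z ∈ 𝐍(T)) (h : E ⊓ 𝐂(⁅T, zpowers z⁆) ≤ St G a) : E ≤ St G a := by
  have hn := mem_norm_sup h3 h4
  have h5 := sn_commutator_St hz (odd_sup hE ho h2) hn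
  have h6 := commutator_zpowers_le_self (mem_norm_inf hn hz.mem_norm_St)
  have h7 := le_norm_pgen h5 le_sup_left
    (h6.trans (inf_le_left.trans (sup_le le_normalizer h2))) hp
  have h8 := commutator_zpowers_le_self h4
  have h9 := isPGroup_of_le h8 hT
  rw [← H2.centralizer_sup_commutator (h8.trans h2) (coprime_of_isPGroup h9 hp)
    (Or.inr (sol_of_odd hE))]
  refine sup_le h ((commutator_mono le_rfl (le_pgen h9 (commutator_mono (le_inf le_sup_right h1)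
    le_rfl))).trans ((commutator_le_right' h7).trans ((pgen_le _ _).trans (h6.trans inf_le_right))))
/-- (X) -/
theorem cent_commutator_le_St [Fact p.Prime] (hz : Zi a z) (hu : Zi a u) (hne : u ≠ z)
    (hc : u * z = z * u) (hN : Odd ♯N) (h1 : z ∈ 𝐍(N)) (h2 : u ∈ 𝐍(N)) (hS : Syl p S N)
    (h3 : z ∈ 𝐍(S)) (h4 : ¬ S ≤ 𝐂[z]) : 𝐂(⁅S, zpowers z⁆) ≤ St G a := by
  obtain ⟨U, hU, hU1, hU2, hU3⟩ := four_group hu.ord hz.ord hne hc
  have hUN : U ≤ 𝐍(N) := fun x hx => by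
    rcases (hU3 x).1 hx with rfl | rfl | rfl | rfl
    exacts [one_mem _, h2, h1, mul_mem h2 h1]
  have hco := coprime_of_isPGroup hU (odd_iff_piG.1 hN)
  obtain ⟨R, hR, hUR⟩ := exists_invariant_syl p hUN hco (Or.inr (sol_of_odd hN))
  have hzU : z ∈ U := (hU3 z).2 (by simp)
  obtain ⟨c, hc1, e⟩ := H2.exists_centralizer_conj_sylow (zpow_norm h1)
    (coprime_two_of_odd hz.ord hN) (Or.inr (sol_of_odd hN)) hR.le hR.isPGroup hR.not_dvd
    (zpow_norm (hUR hzU)) hS.le hS.isPGroup hS.not_dvd (zpow_norm h3)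
  change cj c R = S at e
  have hc2 : c ∈ 𝐂[z] := cent_zpowers z ▸ hc1.2
  have e1 : c * z * c⁻¹ = z := by rw [mem_cent1_iff.1 hc2, mul_inv_cancel_right]
  have h5 : ¬ R ≤ 𝐂[z] := fun h => h4 (e ▸ cj_le_of_le hc2 h)
  have hRo := odd_of_le hR.le hN
  obtain ⟨w, hw, hw1, h6⟩ : ∃ w ∈ U, w ≠ 1 ∧ ¬ R ⊓ 𝐂[w] ≤ 𝐂[z] := by
    by_contra h0
    push Not at h0
    exact h5 (H2.le_of_forall_centralizer_le hU1 hU2 hUR
      (coprime_of_isPGroup hU (odd_iff_piG.1 hRo)) h0)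
  obtain ⟨y, hy, h7⟩ := SetLike.not_le_iff_exists.1 h6
  have hw2 : Gd w := by
    rcases (hU3 w).1 hw with rfl | rfl | rfl | rfl
    exacts [absurd rfl hw1, hu.gd, hz.gd, (hu.mul hz hne hc).gd]
  have hzw : z ∈ 𝐂[w] := cent_le_cent1 hw (comm_iff_le_cent.1 hU1 hzU)
  have hx := conj_mul_mem_commutator hz.ord hy.1
  have h8 := cent1_le_of_inv hz hw2
    (BS.odd_orderOf hRo (commutator_zpowers_le_self (hUR hzU) hx))
    (fun e => h7 (mem_cent1_iff.2 (by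
      rw [mul_eq_one_iff_eq_inv, inv2 hz.ord, mul_inv_eq_iff_eq_mul] at e; exact e)))
    (inv_conj_mul hz.ord y)
    (mem_cent1_iff.1 (mul_mem (mul_mem (mul_mem hy.2 hzw) (inv_mem hy.2)) hzw))
  rw [← e, ← e1, ← cj_commutator_zpowers, ← cj_centralizer]
  exact cj_le_of_le (hz.cent_le hc2) ((cent_le_cent1 hx).trans h8)
theorem Hyp.St2_not_le (h : Hyp G Ω) (hz : Zi a z) (hb : b ≠ a) :
    ¬ St2 G b (z • b) ≤ St G a := fun e => h.So_not_le hz hb ((So_le _ _).trans e)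
/-- the final step of both parts -/
theorem Hyp.conf_of_zj [Fact p.Prime] (h : Hyp G Ω) (hz : Zi a z) (hb : b ≠ a) (hH : Odd ♯H)
    (hH1 : So G a b ≤ H) (hH2 : H ≤ St G a)
    (hT : Syl p T H) (h1 : T ≠ ⊥) (h2 : z ∈ 𝐍(zj T)) (h3 : ¬ 𝐍(zj T) ≤ St G a)
    (h4 : z ∈ 𝐍(⁅core {p}ᶜ H, zj T⁆)) (h5 : ¬ 𝐍(⁅core {p}ᶜ H, zj T⁆) ≤ St G a) : Conf G Ω := by
  have hZ : zj T ≤ H := (zj_le T).trans hT.le
  by_cases e : ⁅core {p}ᶜ H, zj T⁆ = ⊥
  · exact ⟨a, b, _, z, hb, h.norm_ne_top (zj_ne_bot hT.isPGroup h1) (hZ.trans hH2),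
      hH1.trans (le_norm_zj_of_eq_bot hH hT e), h2, hz, h3⟩
  · exact ⟨a, b, _, z, hb, h.norm_ne_top e (((commutator_mono (core_le _ _) hZ).trans
      (der_le _)).trans hH2), hH1.trans (le_norm_commutator_core_zj hH hT), h4, hz, h5⟩
/-- (X) and (A) combined -/
theorem core_le_St_of_ko [Fact p.Prime] (hz : Zi a z) (hX : z ∈ X) (hr : Rk2 X)
    (ho : Orb X a b) (hP : IsPGroup p P) (h2 : P ≤ ko X a)
    (h3 : z ∈ 𝐍(P)) (h4 : ¬ P ≤ 𝐂[z]) : core {p}ᶜ (So G b (z • b)) ≤ St G a := by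
  have hN := odd_core (kr X a)
  have hzN := (ko_nrm X a).norm hX
  obtain ⟨S, hS, hzS⟩ := exists_inv_syl p hN hz.ord hzN
  obtain ⟨u, huX, hu, hne, hc⟩ := hr.exists_zi hz hX
  have h5 := cent_commutator_le_St hz hu hne hc hN hzN ((ko_nrm X a).norm huX) hS hzS
    (syl_not_le_cent hN hz.ord hzN hP h2 h3 h4 hS hzS)
  exact le_St_of_cent_commutator hz (odd_of_le (core_le _ _) (odd_core _)) (core_piG _ _)
    hS.isPGroup (odd_of_le hS.le hN) (hS.le.trans (ko_le_St (Orb.refl X a)))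
    (((hS.le.trans (le_inf (ko_le_St ho) (ko_le_St (ho.smul hX)))).trans (core_nrm _ _).norm).trans
      (normalizer_le_normalizer_core _ _))
    (mem_norm_core _ (hz.mem_norm_So b)) hzS (inf_le_right.trans h5)

end Cfsg.Agent.ZD
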